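import Cfsg.Agent.GS.K2

/-! Task K, parts 1 - 4: groups whose simple sections are Suzuki groups. -/

set_option autoImplicit false
set_option linter.unusedSectionVars false

namespace Cfsg.GS.Kx

open Subgroup Cfsg.L0 Cfsg.H8 Cfsg.FT Cfsg.BS Cfsg.BS.R Cfsg.GS.T3
open scoped commutatorElement

theorem szg_mono {G H : Type} [Group G] [Group H] (h : SzG G) (h2 : Involves H G) : SzG H :=
  fun Y _ _ i => h Y (involves_trans i h2)

section
variable {X : Type} [Group X] [Finite X] {A B H K L S T Y : Subgroup X} {g k x y z : X}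

theorem szp_mem (h : SzP L T k) : x ∈ 𝒵 T ↔ x ∈ T ∧ x * x = 1 :=
  ⟨fun e => ⟨e.1, h.s2g.one x e⟩, fun e => ⟨e.1, mem_cent.2 fun y hy =>
    h.rb.cen x e.1 ((sq x).trans e.2) y hy⟩⟩

theorem szp_card (h : SzP L T k) : 8 ≤ ♯(𝒵 T) := by
  obtain ⟨e, -, a, b⟩ := h.deg
  exact b ▸ Nat.pow_le_pow_right (n := 2) two_pos a

theorem szp_not_comm (h : SzP L T k) (hz : z ∈ T) (z1 : z ≠ 1) : k * z ≠ z * k := fun e => by
  obtain ⟨c, c1, c2, c3⟩ := exists_inv_of_two h.s2g.pg hz z1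
  have a := h.cz c ((szp_mem h).2 ⟨zpowers_le.2 hz c1, c2⟩) c3
    ⟨h.kL, cent1_le_of_mem_zpowers c1 (mem_cent1.2 e)⟩
  have b := h.ord
  have := szp_card h
  rw [eq_one_of_pElt_of_coprime (isPGroup_iff_forall.1 h.s2g.pg k a)
    (Nat.coprime_two_right.2 h.s2g.odd), orderOf_one] at b
  omega

/-- a nontrivial abelian subgroup of `T` normalized by `k` is `Z(T)` -/
theorem szp_eq (h : SzP L T k) (hB : B ≤ T) (h0 : B ≠ ⊥) (ha : Abel B) (hk : k ∈ 𝒩 B) :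
    B = 𝒵 T := by
  refine le_antisymm (fun x hx => by_contra fun n => ?_) fun b hb => ?_
  · have a := conj_mem_of_norm hk hx
    have x2 : x * x ≠ 1 := fun e => n ((szp_mem h).2 ⟨hB hx, e⟩)
    rcases h.s2g.cen x (hB hx) n _ (hB a) (ha.comm hx a) with e | e
    · exact x2 (conj_eq_one_iff.1 ((conj_mul ..).symm.trans (h.s2g.one _ e)))
    · refine szp_not_comm h (hB (mul_mem hx hx)) x2 (mul_inv_eq_iff_eq_mul.1 ?_)
      have := h.s2g.one _ e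
      rw [← sq, (show Commute x _ from ha.comm hx a).inv_right.mul_pow, inv_pow, mul_inv_eq_one,
        conj_pow] at this
      rw [← sq, ← this]
  · by_cases b1 : b = 1
    · exact b1 ▸ one_mem _
    obtain ⟨x, x1, x2⟩ := exists_ne_one h0
    obtain ⟨c, c1, c2, c3⟩ := exists_inv_of_two h.s2g.pg (hB x1) x2
    have c4 := zpowers_le.2 x1 c1
    obtain ⟨n, rfl⟩ := h.s2g.tr c ((szp_mem h).2 ⟨hB c4, c2⟩) b hb c3 b1
    exact conj_mem_of_norm (pow_mem hk n) c4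

theorem szp_om (h : SzP L T k) : Om 2 T = 𝒵 T :=
  le_antisymm (Om_le_iff.2 fun x a b => (szp_mem h).2 ⟨a, (sq x).symm.trans b⟩)
    fun x a => mem_Om a.1 ((sq x).trans (h.s2g.one x a))

theorem szp_not_abel (h : SzP L T k) : ¬ Abel T := fun e => by
  have a := h.s2g.card
  have b := szp_card h
  rw [inf_eq_left.2 e] at a b
  nlinarith

end

theorem szg_gold {H : Type} [Group H] (h : SzG H) : GoldIn H := by
  intro G _ _ i hs hn S A h0 ha hA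
  obtain ⟨F, _, _, m, a, b, ⟨φ⟩⟩ := h G i hs hn
  obtain ⟨k, hk⟩ := k0 G ⊤ S ⟨F, _, _, m, a, b, ⟨topEquiv.trans φ⟩⟩ (isSyl_sylow S)
  exact ⟨.inr (.inr (.inl ⟨F, _, _, m, a, b, ⟨φ⟩⟩)), (szp_eq hk hA.1 h0 (abel_iff.2 ha)
    ((sc_top_iff.2 hA).norm_le ⟨trivial, hk.s2g.kT⟩)).trans (szp_om hk).symm⟩

section
variable {X : Type} [Group X] [Finite X] {A B H K L S T Y : Subgroup X} {g k t x y z : X}

theorem Cp.iso (h : Cp L H) (hs : SzG H) (h0 : 𝒵 L = ⊥) : Lie.IsoSuzuki L :=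
  hs L (involves_of_le h.le) (h.qs.isSimpleGroup h0) h.qs.not_isMulCommutative

/-- a component modulo its centralizer -/
theorem Cp.quo (h : Cp L H) (hs : SzG H) : ∃ (Q : Type) (_ : Group Q) (_ : Finite Q)
    (f : 𝒩 L →* Q), Function.Surjective f ∧ up f ⊥ = 𝒞 L ∧ Lie.IsoSuzuki (down f L) ∧
      𝒞 (down f L) = ⊥ ∧ ⊤ ≤ 𝒩 (down f L) := by
  obtain ⟨Q, _, _, f, hf, hk⟩ := exists_quo0 (cent_nrm L)
  have c : 𝒞 (down f L) = ⊥ := by
    rw [← down_up hf (𝒞 _), down_eq_bot_iff (up_le _ _), hk]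
    exact cent_of_down h.qs.perfect (le_norm L) hk.le (up_le _ _) (down_up_le _ _)
  have q := (Cp.mk .refl h.qs).down f (le_norm L) (hk ▸ h.not_cent)
  exact ⟨Q, _, ‹_›, f, hf, hk, q.iso (szg_mono hs (involves_trans (involves_down f (le_norm L))
    (involves_of_le h.le))) (by rw [c, inf_bot_eq]), c, down_top hf ▸ down_le_norm f le_rfl⟩

/-- the structure of a component not centralized by `A` -/
theorem St.comp (h : St H S A) (hs : SzG H) (hL : Cp L H) (hA : ¬ A ≤ 𝒞 L) :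
    ∃ (Q : Type) (_ : Group Q) (_ : Finite Q) (f : 𝒩 L →* Q) (k : 𝒩 L), Function.Surjective f ∧
      up f ⊥ = 𝒞 L ∧ 𝒞 (down f L) = ⊥ ∧ (k : X) ∈ L ⊓ 𝒩 (S ⊓ L) ⊓ 𝒩 A ∧ Odd (orderOf (k : X)) ∧
      SzP (down f L) (down f (S ⊓ L)) (f k) ∧ down f A = 𝒵 (down f (S ⊓ L)) := by
  obtain ⟨Q, _, _, f, hf, hk, i, c, -⟩ := hL.quo hs
  have s := hL.syl h.syl
  obtain ⟨k, hk'⟩ := k0 Q _ _ i (s.down f (le_norm L))
  have zs : 𝒵 L ≤ S ⊓ L := s.le_of_normalizes (hL.ctr h.o) inf_le_left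
    (s.le.trans (ctr_nrm L).norm)
  obtain ⟨l, l1, rfl⟩ := mem_down.1 hk'.kL
  obtain ⟨j, hj⟩ := exists_pow_coprime 2 (l : X)
  obtain ⟨n, hn⟩ := exists_pow_eq_self_of_coprime (x := f l) (n := 2 ^ j)
    ((Nat.coprime_two_left.2 hk'.s2g.odd).pow_left j)
  have e : f ((l ^ 2 ^ j) ^ n) = f l := by rw [map_pow, map_pow, hn]
  have m : (((l ^ 2 ^ j) ^ n : 𝒩 L) : X) ∈ L := pow_mem (pow_mem l1 _) n
  have n1 : (((l ^ 2 ^ j) ^ n : 𝒩 L) : X) ∈ 𝒩 (S ⊓ L) := mem_normalizer_of_forall fun x hx => by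
    have a := conj_mem_of_norm (le_norm L m) hx.2
    have b : _ ∈ S ⊓ L ⊔ up f ⊥ := (up_down f (s.le.trans (le_norm L))).le (coe_mem_up.2
      (show f ((l ^ 2 ^ j) ^ n * ⟨x, le_norm L hx.2⟩ * ((l ^ 2 ^ j) ^ n)⁻¹) ∈ _ by
        rw [map_mul, map_mul, map_inv, e]
        exact conj_mem_of_norm hk'.s2g.kT (mem_down_of_mem (x := ⟨x, _⟩) hx)))
    have := mem_inf.2 ⟨b, a⟩
    rwa [dedekind_l inf_le_right (s.le.trans ((le_norm L).trans (le_norm_ker f le_rfl))), hk,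
      inf_comm (𝒞 L), sup_eq_left.2 zs] at this
  have n2 := h.mem_norm hL m n1
  refine ⟨Q, _, ‹_›, f, (l ^ 2 ^ j) ^ n, hf, hk, c, ⟨⟨m, n1⟩, n2⟩,
    (Nat.coprime_two_right.1 hj).of_dvd_nat (orderOf_pow_dvd n), e ▸ hk', szp_eq hk' ?_
      (fun i => hA (hk ▸ (down_eq_bot_iff (h.normA hL)).1 i)) (h.ab.down f)
      (e ▸ down_le_norm f le_rfl (mem_down_of_mem n2))⟩
  rw [← down_sup_ker f (s.le.trans (le_norm L)), hk]
  refine down_mono f fun a ha => ?_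
  obtain ⟨l, l1, c, c1, rfl⟩ := h.split hL (h.sc.le ha) (le_ncl H A ha)
  exact mul_mem_sup l1 c1.2

/-- an involution of `S ∩ L` -/
theorem Cp.exists_inv (h : Cp L H) (hS : IsSyl 2 S H) : ∃ z ∈ S ⊓ L, z * z = 1 ∧ z ≠ 1 := by
  obtain ⟨x, x1, x2⟩ := exists_ne_one ((h.syl hS).ne_bot h.even)
  obtain ⟨c, c1, c2⟩ := exists_inv_of_two (h.syl hS).isPGroup x1 x2
  exact ⟨c, zpowers_le.2 x1 c1, c2⟩

theorem Cp.ctr_eq_bot (h : Cp L H) (hO : O2 H = ⊥) (hS : IsSyl 2 S H)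
    (h1 : ∀ z ∈ S ⊓ 𝒵 L, z * z = 1 → z = 1) : 𝒵 L = ⊥ := eq_bot_iff.2 fun x hx => by_contra fun e => by
  obtain ⟨c, c1, c2, c3⟩ := exists_inv_of_two (h.ctr hO) hx e
  have c4 := zpowers_le.2 hx c1
  exact c3 (h1 c ⟨Op_le_syl Nat.prime_two hS (h.ctr_le hO c4), c4⟩ c2)

/-- a component on which `A` acts faithfully -/
theorem St.one (h : St H S A) (hs : SzG H) (hL : Cp L H) (h0 : A ≠ ⊥) (h1 : A ⊓ 𝒞 L = ⊥) :
    H ≤ 𝒩 L ∧ ∃ k, SzP L (S ⊓ L) k ∧ A = 𝒵 (S ⊓ L) := by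
  have a := (h.le_iff hL).2 fun e => h0 (h1 ▸ (inf_eq_left.2 e).symm)
  have z := hL.ctr_eq_bot h.o h.syl fun z z1 z2 =>
    eq_one_of_mem h1 ⟨h.om z1.1 (a z1.2.1) z2, z1.2.2⟩
  obtain ⟨k, hk⟩ := k0 X L _ (hL.iso hs z) (hL.syl h.syl)
  refine ⟨fun g hg => by_contra fun n => ?_, k, hk,
    szp_eq hk (fun x hx => ?_) h0 h.ab (h.mem_norm hL hk.kL hk.s2g.kT)⟩
  · have b := hL.cj (le_norm H hg)
    obtain ⟨z, z1, z2, z3⟩ := b.exists_inv h.syl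
    exact z3 (eq_one_of_mem h1 ⟨h.om z1.1 (cj_le_of_le a (h.nrm.norm hg) z1.2) z2,
      b.cent hL (fun e => n (cj_eq_iff.1 e)) z1.2⟩)
  · obtain ⟨l, l1, c, c1, rfl⟩ := h.split hL (h.sc.le hx) (le_ncl H A hx)
    by_cases e : c = 1
    · rwa [e, mul_one]
    obtain ⟨d, d1, d2, d3⟩ := exists_inv_of_two h.syl.isPGroup c1.1 e
    have d4 := zpowers_le.2 c1 d1
    exact (d3 (eq_one_of_mem h1 ⟨h.om d4.1 (zpowers_le.2
      ((mul_mem_cancel_left (a l1.2)).1 (le_ncl H A hx)) d1) d2, d4.2⟩)).elim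

theorem not_cyc (hB : Elem 2 B) (h : 4 ≤ ♯B) : ¬ Cyc B := fun e => by
  obtain ⟨x, x1, rfl⟩ := e.exists_zpowers
  have := orderOf_le_of_pow_eq_one two_pos (hB.pow x1)
  rw [card_zpow] at h
  omega

theorem down_cent1 {Q : Type} [Group Q] {f : H →* Q} (hk : up f ⊥ = O2 H) {b : H}
    (hb : (b : X) * b = 1) : down f (H ⊓ 𝒞₁ (b : X)) = down f H ⊓ 𝒞₁ (f b) := by
  have := (ca_ker hk (zpowers_le.2 b.2) (isPGroup_zpowers (k := 1) ((sq _).trans hb))).down_cent_ker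
    (zpowers_le.2 b.2) le_rfl (up_le _ _)
  rwa [down_zpowers, cent_zpowers, cent_zpowers] at this

theorem down_norm {Q : Type} [Group Q] {f : H →* Q} (hk : up f ⊥ = O2 H) (hB : B ≤ H)
    (hp : IsPGroup 2 B) (h : down f H ≤ 𝒩 (down f B)) : H ≤ O2 H ⊔ 𝒩 B := by
  have := (ca_ker hk hB hp).down_norm_ker hB le_rfl (up_le _ _)
  rw [inf_eq_left.2 h] at this
  exact ((down_le_down_iff le_rfl inf_le_left).1 this.ge).trans
    (sup_le (inf_le_right.trans le_sup_right) (hk.le.trans le_sup_left))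

theorem two_mul_inv (hx : ∃ n, x ^ 2 ^ n = 1) (h : Commute x (y * x⁻¹ * y⁻¹))
    (ho : Odd (orderOf (x * (y * x⁻¹ * y⁻¹)))) : y * x * y⁻¹ = x := by
  obtain ⟨n, hn⟩ := hx
  have := eq_one_of_pElt_of_coprime (p := 2) ⟨n, by
    rw [h.mul_pow, hn, conj_pow, inv_pow, hn]; group⟩ (Nat.coprime_two_right.2 ho)
  rw [mul_eq_one_iff_eq_inv] at this
  nth_rewrite 2 [this]; group

/-- `O(C_H(t))` normalizes a component `L` if `C(t) ∩ L L^t` has a `2`-element outside `C(L)` -/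
theorem Cp.norm_of (h : Cp L H) (ht : t ∈ H) (t2 : t * t = 1) (h1 : x ∈ 𝒞₁ t)
    (h2 : x ∈ L ⊔ cj t L) (h3 : x ∉ 𝒞 L) (h4 : ∃ n, x ^ 2 ^ n = 1) : O2 (H ⊓ 𝒞₁ t) ≤ 𝒩 L := by
  intro y hy
  have y1 := Op_le _ _ hy
  have o : ∀ y ∈ O2 (H ⊓ 𝒞₁ t), Odd (orderOf y) := fun y hy => Nat.not_even_iff_odd.1 fun e =>
    not_dvd_Op_compl Nat.prime_two _ (e.two_dvd.trans (orderOf_dvd hy))
  have ht' := h.cj (le_norm H ht)
  have tt : cj t (cj t L) = L := by rw [← cj_mul, t2, cj_one]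
  have yt : ∀ K, cj y (cj t K) = cj t (cj y K) := fun K => by
    rw [← cj_mul, mem_cent1.1 y1.2, cj_mul]
  have hy' := h.cj (le_norm H y1.1)
  by_cases e : cj y L = L
  · exact cj_eq_iff.1 e
  by_cases e' : cj y L = cj t L
  · refine mem_of_pow_mem (Nat.coprime_two_left.2 (o y hy)) (cj_eq_iff.1 ?_)
      (by rw [pow_orderOf_eq_one]; exact one_mem _)
    rw [sq, cj_mul, e', yt, e', tt]
  have c : cj y (L ⊔ cj t L) ≤ 𝒞 (L ⊔ cj t L) := by
    rw [cj_sup, yt, cent_sup]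
    exact sup_le (le_inf (hy'.cent h e) (hy'.cent ht' e')) (le_inf
      ((hy'.cj (le_norm H ht)).cent h fun i => e' ((cj_inj t).1 (i.trans tt.symm)))
      ((hy'.cj (le_norm H ht)).cent ht' fun i => e ((cj_inj t).1 i)))
  refine (h3 (cent_anti le_sup_left (two_mul_inv h4
    (mem_cent.1 (c (conj_mem_cj (inv_mem h2))) x h2) (o _ ?_) ▸ c (conj_mem_cj h2)))).elim
  rw [show x * (y * x⁻¹ * y⁻¹) = x * y * x⁻¹ * y⁻¹ by group]
  exact mul_mem ((Op_nrm _ _).conj_mem ⟨sup_le h.le ht'.le h2, h1⟩ hy) (inv_mem hy)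

theorem axb (hP : IsPGroup 2 T) (h : T ≤ H) (t2 : t * t = 1) (ht : t ∈ 𝒩 T)
    (n : O2 (H ⊓ 𝒞₁ t) ≤ 𝒩 T) : O2 (H ⊓ 𝒞₁ t) ≤ 𝒞 T := by
  have o := not_dvd_Op_compl Nat.prime_two (H ⊓ 𝒞₁ t)
  have nr := Op_nrm {2}ᶜ (H ⊓ 𝒞₁ t)
  have c1 := nr.le.trans inf_le_right
  refine AxB Nat.prime_two o hP (isPGroup_zpowers (k := 1) ((sq _).trans t2)) n (zpowers_le.2 ht)
    (cent_zpowers t ▸ c1) ?_
  rw [cent_zpowers]
  exact le_cent_of_inf_eq_bot ((inf_le_inf_right _ h).trans nr.norm)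
    (le_norm_inf n (le_norm_cent1 c1))
    (inf_eq_bot_of_cop (cop_of_pgroup Nat.prime_two hP.to_inf_left o))

theorem Cp.bal (h : Cp L H) (hs : SzG H) (hO : O2 H = ⊥) (ht : t ∈ H) (t2 : t * t = 1) :
    O2 (H ⊓ 𝒞₁ t) ≤ 𝒞 L := by
  have o := not_dvd_Op_compl Nat.prime_two (H ⊓ 𝒞₁ t)
  have o' := Nat.not_even_iff_odd.1 fun e => o e.two_dvd
  have nr := Op_nrm {2}ᶜ (H ⊓ 𝒞₁ t)
  by_cases c : t ∈ 𝒞 L
  · exact (h.mono (le_inf h.le (le_cent1_iff.2 c)) inf_le_left).cent_of_sol nr.sn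
      (solvable_of_odd _ o')
  obtain ⟨Q, _, _, f, hf, hk, i, c0, n0⟩ := h.quo hs
  have sm := smp_of_iso i
  have z : ∀ l ∈ L, ∀ n, l ^ 2 ^ n ∈ 𝒞 L → ∃ m, l ^ 2 ^ m = 1 := fun l a n b => by
    obtain ⟨m, e⟩ := isPGroup_iff_forall.1 (h.ctr hO) _ ⟨pow_mem a _, b⟩
    exact ⟨n + m, by rw [pow_add, pow_mul, e]⟩
  by_cases n : t ∈ 𝒩 L
  · have s2 : f ⟨t, n⟩ * f ⟨t, n⟩ = 1 := by rw [← map_mul, ← map_one f]; exact congrArg f (Subtype.ext t2)
    have a := aut2_of_iso i (n0 (mem_top (f ⟨t, n⟩))) (n := 1) (by rw [pow_one, sq, s2]; exact one_mem _)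
    rw [c0, sup_bot_eq] at a
    obtain ⟨l, l1, l2⟩ := mem_down.1 a
    have d : (l : X)⁻¹ * t ∈ 𝒞 L := hk ▸ coe_mem_up.2 (show f (l⁻¹ * ⟨t, n⟩) ∈ ⊥ by simp [l2])
    have N := h.norm_of ht t2 (x := (l : X)) (mem_cent1.2 (by
      rw [← mul_inv_cancel_left (l : X) t, mul_assoc, ← mem_cent.1 d l l1])) (mem_sup_left l1)
      (fun e => c (by simpa using mul_mem e d))
      (z l l1 1 (hk ▸ coe_mem_up.2 (show f (l ^ 2 ^ 1) ∈ ⊥ by simp [l2, sq, s2])))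
    obtain ⟨T, hT, a1⟩ := exists_isSyl_ge (isPGroup_zpowers (p := 2) (k := 1) ((sq _).trans s2))
      (zpowers_le.2 a)
    obtain ⟨k, hk'⟩ := k0 Q _ _ i hT
    have a2 := (szp_mem hk').2 ⟨a1 (mem_zpowers _), s2⟩
    have a3 := hk'.cz _ a2 fun e => c (hk ▸ coe_mem_up.2 (show f ⟨t, n⟩ ∈ ⊥ from e))
    have nP : ∀ Y, Y ≤ 𝒩 L → Y ≤ 𝒞₁ t → Y ≤ 𝒩 (L ⊓ up f (𝒞₁ (f ⟨t, n⟩))) := fun Y a b =>
      le_norm_inf a (le_norm_up a (le_norm_cent1 fun _ ⟨y, y1, e⟩ => e ▸ mem_cent1.2 (by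
        rw [← map_mul, ← map_mul]; exact congrArg f (Subtype.ext (mem_cent1.1 (b y1))))))
    have pP : IsPGroup 2 ↥(L ⊓ up f (𝒞₁ (f ⟨t, n⟩))) := isPGroup_iff_forall.2 fun x hx => by
      obtain ⟨m, e⟩ := isPGroup_iff_forall.1 hT.isPGroup (f ⟨x, le_norm L hx.1⟩)
        (a3 ⟨mem_down_of_mem hx.1, coe_mem_up.1 hx.2⟩)
      exact z x hx.1 m (hk ▸ coe_mem_up.2 (show f (⟨x, le_norm L hx.1⟩ ^ 2 ^ m) ∈ ⊥ by
        rw [map_pow, e]; exact one_mem _))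
    have ab := axb pP (inf_le_left.trans h.le) t2 (zpowers_le.1 (nP _ (zpowers_le.2 n)
      (zpowers_le.2 (self_mem_cent1 t)))) (nP _ N (nr.le.trans inf_le_right))
    refine cent_of_down h.qs.perfect (le_norm L) hk.le N fun g hg => hk'.autO g (n0 (mem_top g))
      ((odd_down f o').of_dvd_nat (orderOf_dvd hg)) (cent_anti ?_ (down_le_cent f ab hg))
    rw [down_inf_up]
    exact le_inf (inf_le_left.trans hT.le) (inf_le_left.trans (le_cent1_iff.2 a2.2))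
  · have ht' := h.cj (le_norm H ht)
    have c1 := ht'.cent h fun e => n (cj_eq_iff.1 e)
    have d : ∀ l ∈ L, l * (t * l * t⁻¹) ∈ 𝒞₁ t := fun l hl => mem_cent1.2 (by
      nth_rewrite 2 [mem_cent.1 (c1 (conj_mem_cj hl)) l hl]
      calc _ = l * t * l := by group
        _ = t * t * (l * t⁻¹ * l) := by rw [t2, inv_self_of t2, one_mul]
        _ = _ := by group)
    obtain ⟨_, ⟨l, l1, rfl⟩, l2, l3⟩ := exists_inv_of_even (even_iff_two_dvd.2 sm.even)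
    have l4 := mem_subgroupOf.1 l1
    obtain ⟨m, hm⟩ := z l l4 1 (hk ▸ coe_mem_up.2 (show f (l ^ 2 ^ 1) ∈ ⊥ by simp [sq, l2]))
    have N := h.norm_of ht t2 (d l l4) (mul_mem_sup l4 (conj_mem_cj l4))
      (fun e => l3 (coe_mem_up.1 (hk.ge ((mul_mem_cancel_right (c1 (conj_mem_cj l4))).1 e))))
      ⟨m, by rw [(show Commute _ _ from mem_cent.1 (c1 (conj_mem_cj l4)) l l4).mul_pow, hm,
        conj_pow, hm]; group⟩
    have n1 : down f L ≤ 𝒩 (down f (O2 (H ⊓ 𝒞₁ t))) := by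
      rintro _ ⟨l, l1, rfl⟩
      have a := c1 (conj_mem_cj l1)
      have : f (l * ⟨_, cent_le_norm L a⟩) = f l := by
        rw [map_mul, mem_bot.1 ((coe_mem_up (x := ⟨_, cent_le_norm L a⟩)).1 (hk.ge a)), mul_one]
      exact this ▸ down_le_norm f nr.norm
        (mem_down_of_mem ⟨mul_mem (h.le l1) (ht'.le (conj_mem_cj l1)), d l l1⟩)
    exact cent_of_down h.qs.perfect (le_norm L) hk.le N (le_cent_of_inf_eq_bot (le_top.trans n0) n1
      (sm.se.odd_eq_bot n1 (Nat.coprime_two_right.2 (odd_down f o'))))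

theorem bal (hs : SzG H) (hO : O2 H = ⊥) (ht : t ∈ H) (t2 : t * t = 1) : O2 (H ⊓ 𝒞₁ t) = ⊥ := by
  have p := Op_pgroup Nat.prime_two H
  have n := (Op_le {2}ᶜ (H ⊓ 𝒞₁ t)).trans inf_le_left
  exact eq_bot_of_le (inf_eq_bot_of_cop (cop_of_pgroup Nat.prime_two p
    (not_dvd_Op_compl Nat.prime_two (H ⊓ 𝒞₁ t)))) (le_inf (le_Op_of_cent hO n
      (axb p (Op_le _ H) t2 ((Op_nrm _ H).norm ht) (n.trans (Op_nrm _ H).norm))
      fun L hL => hL.bal hs hO ht t2) le_rfl)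

end

theorem kBal : KBal := by
  intro G _ _ H t _ hs ht h
  obtain ⟨Q, _, _, f, hf, hk⟩ := exists_quo0 (Op_nrm {2}ᶜ H)
  refine ((down_eq_bot_iff ((Op_le _ _).trans inf_le_left)).1
    (eq_bot_of_le ?_ (down_Op_le f _ _))).trans hk.le
  rw [down_cent1 hk (b := ⟨t, ht⟩) h.2]
  exact bal (szg_mono hs (involves_down f le_rfl)) (Op_down_eq_bot le_rfl hk) (mem_down_of_mem ht)
    (by rw [← map_mul, ← map_one f]; exact congrArg f (Subtype.ext h.2))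

theorem kAb : KAb := by
  intro G _ _ H T _ hs hT ha
  obtain ⟨Q, _, _, f, hf, hk⟩ := exists_quo0 (Op_nrm {2}ᶜ H)
  have s := szg_mono hs (involves_down f le_rfl)
  have o := Op_down_eq_bot le_rfl hk
  have t := hT.down f le_rfl
  have nc : ∀ L, ¬ Cp L (down f H) := fun L hL => by
    obtain ⟨R, _, _, g, -, -, i, -⟩ := hL.quo s
    obtain ⟨k, hk⟩ := k0 R _ _ i ((hL.syl t).down g (le_norm L))
    exact szp_not_abel hk (((ha.down f).mono inf_le_left).down g)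
  have e : Op {2} (down f H) = down f T := le_antisymm (Op_le_syl Nat.prime_two t)
    (le_Op_of_cent o t.le ((ha.down f).trans (cent_anti (Op_le_syl Nat.prime_two t)))
      fun L hL => (nc L hL).elim)
  have n := e ▸ (Op_nrm {2} (down f H)).norm
  refine ⟨down_norm hk hT.le hT.isPGroup n, fun Y a b c => ?_⟩
  have d := inf_eq_bot_of_cop (cop_of_pgroup Nat.prime_two t.isPGroup (odd_down f b).not_two_dvd_nat)
  refine ((down_eq_bot_iff a).1 (eq_bot_of_le d (le_inf (le_of_le_of_eq ?_ e) le_rfl))).trans hk.le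
  exact le_Op_of_cent o (down_mono f a) (e ▸ le_cent_of_inf_eq_bot ((down_mono f a).trans n)
    (down_le_norm f c) (inf_comm (down f T) _ ▸ d)) fun L hL => (nc L hL).elim

theorem kM : KM := by
  intro G _ _ H T A Y y k _ hs hT hA he h4 yH y2 yA kH kA ky tr hY hc
  obtain ⟨Q, _, _, f, hf, hk⟩ := exists_quo0 (Op_nrm {2}ᶜ H)
  have AH := hA.le.trans hT.le
  have s := szg_mono hs (involves_down f le_rfl)
  have st := st_down (szg_gold hs) hk hT hA he.abel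
  refine down_norm hk AH he.pgroup (st.gen' inf_le_right fun L hL n => absurd ?_ hL.not_sol)
  have cop := (ca_ker hk AH he.pgroup).cop'
  have h4' : 4 ≤ ♯(down f A) := by rwa [card_down_eq AH (inf_eq_bot_of_cop cop)]
  have tr' : ∀ a ∈ down f A, ∀ b ∈ down f A, a ≠ 1 → b ≠ 1 →
      ∃ g ∈ down f H ⊓ 𝒞₁ (f ⟨y, yH⟩), g * a * g⁻¹ = b := by
    rintro _ ⟨a, a1, rfl⟩ _ ⟨b, b1, rfl⟩ a2 b2
    obtain ⟨n, e⟩ := tr a a1 b b1 (fun e => a2 (by rw [show a = 1 from Subtype.ext e, map_one]))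
      fun e => b2 (by rw [show b = 1 from Subtype.ext e, map_one])
    refine ⟨f (⟨k, kH⟩ ^ n), down_cent1 hk (b := ⟨y, yH⟩) y2 ▸ mem_down_of_mem
      (pow_mem (mem_inf.2 ⟨kH, mem_cent1.2 ky⟩) n), ?_⟩
    rw [← map_inv, ← map_mul, ← map_mul]; exact congrArg f (Subtype.ext e)
  have y2' : f ⟨y, yH⟩ * f ⟨y, yH⟩ = 1 := by
    rw [← map_mul, ← map_one f]; exact congrArg f (Subtype.ext y2)
  have yA' : f ⟨y, yH⟩ ∈ 𝒞 (down f A) := down_le_cent f (zpowers_le.2 yA)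
    (mem_down_of_mem (mem_zpowers y))
  have LK := (st.le_iff hL).2 n
  have key : L ≤ 𝒞₁ (f ⟨y, yH⟩) ∧ down f A ≤ L ∧ Smp L := by
    have yH' : f ⟨y, yH⟩ ∈ down f H := mem_down_of_mem yH
    generalize f ⟨y, yH⟩ = y, down f H = H, down f T = T, down f A = A at *
    have z0 : 𝒵 L = ⊥ := hL.ctr_eq_bot st.o st.syl fun z z1 z2 => by_contra fun z3 => by
      have a : A ≤ Op {2} H := fun b hb => by
        by_cases e : b = 1
        · exact e ▸ one_mem _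
        obtain ⟨g, g1, rfl⟩ := tr' z (st.om z1.1 (LK z1.2.1) z2) b hb z3 e
        exact (Op_nrm _ H).conj_mem g1.1 (hL.ctr_le st.o z1.2)
      exact hL.not_sol ((sol_of_pgroup Nat.prime_two (Op_pgroup Nat.prime_two H)).mono
        (LK.trans (ncl_le a (Op_nrm _ H).norm)))
    obtain ⟨z, z1, z2, z3⟩ := hL.exists_inv st.syl
    have zA := st.om z1.1 (LK z1.2) z2
    obtain ⟨N, k, hk, e⟩ := st.one s hL (ne_bot_of_mem zA z3) (eq_bot_iff.2 fun a ha => by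
      by_contra a1
      obtain ⟨a2, a3⟩ := mem_inf.1 ha
      have z4 := (mem_inf.1 z1).2
      have b : z * a ≠ 1 := fun e => z3 (eq_one_of_mem z0 (mem_inf.2 ⟨z4, by
        rw [eq_inv_of_mul_eq_one_left e]; exact inv_mem a3⟩))
      obtain ⟨g, g1, e⟩ := tr' z zA _ (mul_mem zA ha.1) z3 b
      have c : z * a ∈ cj g L := e ▸ conj_mem_cj z1.2
      by_cases i : cj g L = L
      · exact a1 (eq_one_of_mem z0 ⟨(mul_mem_cancel_left z4).1 (i ▸ c), a3⟩)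
      · exact z3 (eq_one_of_mem z0 ⟨z4, (mul_mem_cancel_right a3).1
          ((hL.cj (le_norm H g1.1)).cent hL i c)⟩))
    refine ⟨?_, e.le.trans (inf_le_left.trans inf_le_right), hk.smp⟩
    obtain ⟨l, l1, c, c1, rfl⟩ := (mem_sup_l (cent_le_norm L)).1
      (hk.aut2 y (N yH') ⟨1, (sq y).trans y2'⟩)
    have uq : ∀ {l l' c c'}, l ∈ L → l' ∈ L → c ∈ 𝒞 L → c' ∈ 𝒞 L → l * c = l' * c' → l = l' :=
      fun {l l' c c'} a b d e i => eq_of_inv_mul_eq_one (eq_one_of_mem z0 (mem_inf.2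
        ⟨mul_mem (inv_mem a) b, by
          rw [show l⁻¹ * l' = c * c'⁻¹ by rw [eq_mul_inv_iff_mul_eq, mul_assoc, ← i]; group]
          exact mul_mem d (inv_mem e)⟩))
    by_cases l0 : l = 1
    · rw [l0, one_mul]; exact le_cent1_iff.2 c1
    have l2 : l * l = 1 := uq (mul_mem l1 l1) (one_mem _) (mul_mem c1 c1) (one_mem _) (by
      rw [mul_one, ← y2', mul_assoc, mul_assoc, ← mul_assoc c, ← mem_cent.1 c1 l l1, mul_assoc])
    have lA : l ∈ A := e ▸ (szp_mem hk).2 ⟨hk.cz z (e ▸ zA) z3 ⟨l1, (mul_mem_cancel_right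
      (cent_le_cent1 z1.2 c1)).1 (cent_le_cent1 zA yA')⟩, l2⟩
    refine absurd ((cyc_zpowers l).mono fun b hb => ?_) (not_cyc (B := A) ⟨st.ab, fun x hx =>
      (sq x).trans (hk.s2g.one x (e ▸ hx))⟩ h4')
    by_cases b1 : b = 1
    · exact b1 ▸ one_mem _
    obtain ⟨g, g1, rfl⟩ := tr' l lA b hb l0 b1
    rw [uq (conj_mem_of_norm (N g1.1) l1) l1 (conj_mem_of_norm (norm_le_norm_cent L (N g1.1)) c1) c1
      (by rw [conj_mul, mem_cent1.1 g1.2, mul_inv_cancel_right])]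
    exact mem_zpowers l
  obtain ⟨k1, k2, k3⟩ := key
  refine ((hY.mono (inf_le_left : Y ⊓ H ≤ Y)).down f).mono
    (((k3.simple _ (ncl_nrm k2)).resolve_left (ne_bot_of_le (ne_bot_of_card (by omega))
      (le_ncl L _))).ge.trans (ncl_le_iff.2 fun g hg => cj_le_iff_forall.2 ?_))
  rintro _ ⟨a, a1, rfl⟩
  obtain ⟨c, c1, rfl⟩ := mem_down.1 ((down_cent1 hk (b := ⟨y, yH⟩) y2).ge ⟨hL.le hg, k1 hg⟩)
  rw [← map_inv, ← map_mul, ← map_mul]
  exact mem_down_of_mem ⟨hc a a1 c c.2 (mul_mem (mul_mem c1.2 (le_cent1_iff.2 yA a1)) (inv_mem c1.2)),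
    (c * a * c⁻¹).2⟩

theorem kOne : KOne := by
  intro G _ _ H T B M _ hs hT hB he h4 hN hC hM
  obtain ⟨Q, _, _, f, hf, hk⟩ := exists_quo0 (Op_nrm {2}ᶜ H)
  have BH := hB.le.trans hT.le
  have ca := ca_ker hk BH he.pgroup
  have st := st_down (szg_gold hs) hk hT hB he.abel
  have kM : up f ⊥ ≤ H ⊓ M := le_inf (up_le _ _) (gen_cent1 he.abel (not_cyc he h4) ca.norm ca.cop'
    fun b a c => (inf_le_inf_right _ (up_le _ _)).trans (hC b a c))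
  obtain ⟨L, hL, -, a⟩ : ∃ L, Cp L (down f H) ∧ ¬ down f B ≤ 𝒞 L ∧ ¬ L ≤ down f (H ⊓ M) := by
    by_contra! i
    refine hM ((le_of_down_le le_rfl inf_le_left kM (st.gen' ?_ i)).trans inf_le_right)
    rw [← ca.down_norm_ker BH le_rfl (up_le _ _)]
    exact down_mono f (le_inf inf_le_left hN)
  obtain ⟨n, k, h1, h2⟩ := st.one (szg_mono hs (involves_down f le_rfl)) hL
    (fun e => not_cyc he h4 (by
      rw [← inf_eq_left.2 ((down_eq_bot_iff BH).1 e), inf_eq_bot_of_cop ca.cop'.symm]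
      exact cyc_bot))
    (eq_bot_iff.2 fun _ ⟨⟨b, b1, e⟩, b2⟩ => by_contra fun i => a (by
      subst e
      refine (le_inf hL.le (le_cent1_iff.2 b2)).trans ((down_cent1 hk ((sq _).symm.trans
        (he.pow b1))).ge.trans (down_mono f (le_inf inf_le_left (hC b b1 fun e => i ?_))))
      rw [show b = 1 from Subtype.ext e, map_one]; exact one_mem _))
  exact ⟨Q, _, ‹_›, f, L, k, hf, hk, normal_of_top_le (down_top hf ▸ n), h1, h2⟩

end Cfsg.GS.Kx
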