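import Cfsg.Agent.GS.A1
import Cfsg.Agent.GS.K3

/-! Proper subgroups that move the point of `A`: the orbit and the structure of the Sylow
`2`-subgroup. -/

set_option autoImplicit false
set_option linter.unusedSectionVars false

namespace Cfsg.GS.Ax

open Subgroup Cfsg.L0 Cfsg.H8 Cfsg.FT Cfsg.BS Cfsg.BS.R Cfsg.GS.T3 MulAction
open scoped commutatorElement

section quo
variable {Q : Type} [Group Q] [Finite Q] {L T S Y : Subgroup Q} {k g x : Q}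

theorem top_le_norm [L.Normal] : Y ≤ 𝒩 L := by rw [normalizer_eq_top]; exact le_top

theorem sz_top [L.Normal] (h : SzP L T k) : L ⊔ 𝒩 T = ⊤ := eq_top_iff.2 fun g _ => by
  obtain ⟨l, hl, n, hn, rfl⟩ := h.syl.frattini (g := g) (top_le_norm (mem_top g))
  exact mul_mem_sup hl hn

/-- `N(T)` is a maximal subgroup -/
theorem sz_max [L.Normal] (h : SzP L T k) (h1 : 𝒩 T ≤ Y) (h2 : Y ≠ ⊤) : Y = 𝒩 T := by
  rcases h.mx (L ⊓ Y) (le_inf h.syl.le ((le_norm T).trans h1)) inf_le_left with e | e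
  · refine le_antisymm (fun y hy => ?_) h1
    obtain ⟨l, hl, n, hn, rfl⟩ := h.syl.frattini (g := y) (top_le_norm (mem_top y))
    exact mul_mem (e ⟨hl, (mul_mem_cancel_right (h1 hn)).1 hy⟩) hn
  · exact absurd (eq_top_iff.2 ((sz_top h).ge.trans (sup_le (e.ge.trans inf_le_right) h1))) h2

theorem sz_idx [L.Normal] (h : SzP L T k) : (𝒩 T).relIndex ⊤ = ♯(𝒵 T) ^ 2 + 1 := by
  rw [← sz_top h, ri_sup' top_le_norm, h.idx]

omit [Finite Q] in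
theorem sz_cent_le (h : SzP L T k) : 𝒞 L ≤ 𝒩 T := le_norm_of_cent le_rfl h.syl.le

/-- a Sylow `2`-subgroup splits over `L` -/
theorem sz_split [L.Normal] (hS : IsPGroup 2 S) (h : SzP L (S ⊓ L) k) (hx : x ∈ S) :
    ∃ l ∈ S ⊓ L, ∃ c ∈ S ⊓ 𝒞 L, l * c = x := by
  obtain ⟨n, hn⟩ := isPGroup_iff_forall.1 hS x hx
  obtain ⟨l, hl, c, hc, rfl⟩ := (mem_sup_l (cent_le_norm L)).1
    (h.aut2 x (top_le_norm (mem_top x)) ⟨n, hn⟩)
  have cm : Commute l c := mem_cent.1 hc l hl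
  have e : l ^ 2 ^ n = 1 := h.smp.eq_one (pow_mem hl _) (by
    rw [cm.mul_pow, mul_eq_one_iff_eq_inv] at hn
    exact hn ▸ inv_mem (pow_mem hc _))
  have m := h.syl.mem_of_mem_normalizer hl ⟨n, e⟩ ((mul_mem_cancel_right (sz_cent_le h hc)).1
    (le_norm_inf (le_norm S) top_le_norm hx))
  exact ⟨l, m, c, ⟨(S.mul_mem_cancel_left m.1).1 hx, hc⟩, rfl⟩

theorem sz_kS [L.Normal] (hS : IsPGroup 2 S) (h : SzP L (S ⊓ L) k) : k ∈ 𝒩 S :=
  mem_normalizer_of_forall fun x hx => by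
    obtain ⟨l, hl, c, hc, rfl⟩ := sz_split hS h hx
    have := mul_mem (conj_mem_of_norm h.s2g.kT hl).1 hc.1
    rwa [mul_assoc (k * l), mem_cent.1 hc.2 _ (inv_mem h.kL), ← mul_assoc, mul_assoc k] at this

/-- a subgroup of odd order normalized by `Z(T)` centralizes `L` -/
theorem sz_odd [L.Normal] (h : SzP L T k) (ho : Odd ♯Y) (hn : 𝒵 T ≤ 𝒩 Y) : Y ≤ 𝒞 L := by
  have el : Elem 2 (𝒵 T) := ⟨abel_ctr T, fun x hx => by rw [sq]; exact h.s2g.one x hx⟩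
  have cp : (♯Y).Coprime ♯(𝒵 T) := (cop_of_pgroup Nat.prime_two el.pgroup
    (fun e => (Nat.not_even_iff_odd.2 ho) (even_iff_two_dvd.2 e))).symm
  have h1 : ⁅Y, 𝒵 T⁆ = ⊥ := by
    have a : ⁅Y, 𝒵 T⁆ ≤ Y := comm_le_left hn
    have b : ⁅Y, 𝒵 T⁆ ≤ L := comm_le_of_le_of_norm (inf_le_left.trans h.syl.le) top_le_norm
    refine eq_bot_iff.2 (gen_cent1 el.abel (Kx.not_cyc el (by have := Kx.szp_card h; omega))
      (le_norm_comm hn (le_norm _)) (cop_mono cp a le_rfl) fun z hz z1 => ?_)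
    refine (le_inf (inf_le_left.trans a) ((inf_le_inf_right _ b).trans (h.cz z hz z1))).trans
      (inf_eq_bot_of_cop (cop_of_pgroup Nat.prime_two h.syl.isPGroup
        (fun e => (Nat.not_even_iff_odd.2 ho) (even_iff_two_dvd.2 e))).symm).le
  exact fun y hy => h.autO y (top_le_norm (mem_top y)) (odd_of_mem ho hy)
    (cent_symm (comm_eq_bot_iff.1 h1) hy)

end quo

section lift
variable {G Q : Type} [Group G] [Group Q] {H T B : Subgroup G} {f : H →* Q}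

theorem eq_of_f (hi : up f ⊥ ⊓ T = ⊥) {x y : H} (hx : (x : G) ∈ T) (hy : (y : G) ∈ T)
    (e : f x = f y) : (x : G) = y := by
  have : ((x * y⁻¹ : H) : G) = 1 := eq_one_of_mem hi ⟨coe_mem_up.2 (by simp [e]),
    T.mul_mem hx (T.inv_mem hy)⟩
  exact mul_inv_eq_one.1 this

theorem mem_of_f (hi : up f ⊥ ⊓ T = ⊥) (hB : B ≤ T) {x : H} (hx : (x : G) ∈ T)
    (e : f x ∈ down f B) : (x : G) ∈ B := by
  obtain ⟨y, hy, e⟩ := e
  exact eq_of_f hi (hB hy) hx e ▸ hy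

theorem s2g_lift (hT : T ≤ H) (hi : up f ⊥ ⊓ T = ⊥) (hB : B ≤ T) {k : H} (hk : (k : G) ∈ 𝒩 T)
    (ho : Odd (orderOf (k : G))) (hp : IsPGroup 2 T) (h : S2G (down f B) (down f T) (f k)) :
    S2G B T (k : G) where
  pg := hp
  ctr := by
    refine le_antisymm (fun x hx => mem_of_f hi hB (x := ⟨x, hT hx.1⟩) hx.1 (h.ctr ▸
      ⟨mem_down_of_mem hx.1, down_le_cent f le_rfl (mem_down_of_mem hx.2)⟩))
      (le_inf hB fun x hx => mem_cent.2 fun t ht => ?_)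
    exact eq_of_f hi (x := ⟨t, hT ht⟩ * ⟨x, hT (hB hx)⟩) (y := ⟨x, hT (hB hx)⟩ * ⟨t, hT ht⟩)
      (mul_mem ht (hB hx)) (mul_mem (hB hx) ht) (by
        rw [map_mul, map_mul]
        exact mem_cent.1 (Ux.S2.AcT h (mem_down_of_mem (x := ⟨x, _⟩) hx)) _
          (mem_down_of_mem (x := ⟨t, _⟩) ht))
  card := by
    rw [← card_down_eq hT hi, h.card, card_down_eq (hB.trans hT)
      (eq_bot_of_le hi (inf_le_inf_left _ hB))]
  sq := fun x hx => mem_of_f hi hB (x := ⟨x, hT hx⟩ * ⟨x, hT hx⟩) (mul_mem hx hx)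
    (by rw [map_mul]; exact h.sq _ (mem_down_of_mem (x := ⟨x, _⟩) hx))
  one := fun x hx => eq_of_f hi (x := ⟨x, hT (hB hx)⟩ * ⟨x, hT (hB hx)⟩) (y := 1)
    (mul_mem (hB hx) (hB hx)) (one_mem _)
    (by rw [map_mul, map_one]; exact h.one _ (mem_down_of_mem (x := ⟨x, _⟩) hx))
  inj := fun x hx y hy e => mem_of_f hi hB (x := ⟨x, hT hx⟩ * (⟨y, hT hy⟩ : H)⁻¹)
    (mul_mem hx (inv_mem hy)) (by
      rw [map_mul, map_inv]
      exact h.inj _ (mem_down_of_mem (x := ⟨x, _⟩) hx) _ (mem_down_of_mem (x := ⟨y, _⟩) hy)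
        (by rw [← map_mul, ← map_mul]; exact congrArg f (Subtype.ext e)))
  cen := fun x hx x1 y hy e => (h.cen _ (mem_down_of_mem (x := ⟨x, hT hx⟩) hx)
    (fun q => x1 (mem_of_f hi hB hx q)) _ (mem_down_of_mem (x := ⟨y, hT hy⟩) hy)
    (by rw [← map_mul, ← map_mul]; exact congrArg f (Subtype.ext e))).imp (mem_of_f hi hB hy)
    fun q => mem_of_f hi hB (x := ⟨x, hT hx⟩ * (⟨y, hT hy⟩ : H)⁻¹) (mul_mem hx (inv_mem hy))
      (by rwa [map_mul, map_inv])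
  hyp := fun x hx y hy e => (h.hyp _ (mem_down_of_mem (x := ⟨x, hT hx⟩) hx) _
    (mem_down_of_mem (x := ⟨y, hT hy⟩) hy) (by
      rintro _ ⟨s, hs, rfl⟩
      obtain ⟨t, ht, q⟩ := e s hs
      refine ⟨_, mem_down_of_mem (x := ⟨t, hT ht⟩) ht, ?_⟩
      rw [← map_commutatorElement, ← map_commutatorElement]
      exact congrArg f (Subtype.ext q))).imp (mem_of_f hi hB hx)
    fun q => mem_of_f hi hB (x := ⟨x, hT hx⟩ * (⟨y, hT hy⟩ : H)⁻¹) (mul_mem hx (inv_mem hy))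
      (by rwa [map_mul, map_inv])
  odd := ho
  kT := hk
  tr := fun a ha b hb a1 b1 => by
    have ne : ∀ a (ha : a ∈ B), a ≠ 1 → f ⟨a, hT (hB ha)⟩ ≠ 1 := fun a ha a1 e =>
      a1 (eq_of_f hi (x := ⟨a, hT (hB ha)⟩) (y := 1) (hB ha) (one_mem _) (by rw [e, map_one]))
    obtain ⟨n, hn⟩ := h.tr _ (mem_down_of_mem (x := ⟨a, hT (hB ha)⟩) ha) _
      (mem_down_of_mem (x := ⟨b, hT (hB hb)⟩) hb) (ne a ha a1) (ne b hb b1)
    exact ⟨n, eq_of_f hi (x := k ^ n * ⟨a, hT (hB ha)⟩ * (k ^ n)⁻¹) (y := ⟨b, hT (hB hb)⟩)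
      (Ux.pow_conj_mem hk (hB ha) n) (hB hb) (by rwa [map_mul, map_mul, map_inv, map_pow])⟩

end lift

/-- the conclusion of `KOne` together with the image of the point stabilizer -/
structure Orb {G Ω Q : Type} [Group G] [MulAction G Ω] [Group Q] (H T B : Subgroup G) (α : Ω)
    (f : H →* Q) (L : Subgroup Q) (k : Q) : Prop where
  syl : IsSyl 2 T H
  le : B ≤ T
  surj : Function.Surjective f
  ker : up f ⊥ = O2 H
  nrm : L.Normal
  sz : SzP L (down f T ⊓ L) k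
  ctr : down f B = 𝒵 (down f T ⊓ L)
  st : up f (𝒩 (down f T ⊓ L)) = H ⊓ 𝒮 α

/-- ambient form of `Orb`: `T = T₁ × R` -/
structure Ln {G Ω : Type} [Group G] [MulAction G Ω] (H T B T1 R : Subgroup G) (k : G) (α : Ω) : Prop
    extends S2G B T1 k where
  syl : IsSyl 2 T H
  sup : T1 ⊔ R = T
  inf : T1 ⊓ R = ⊥
  cm : R ≤ 𝒞 T1
  kR : k ∈ 𝒞 R
  kH : k ∈ H
  fix : ∀ r ∈ R, ∀ g ∈ H, r • g • α = g • α
  cR : T ⊓ 𝒞 H ≤ R
  idx : (𝒮 α).relIndex H = ♯B ^ 2 + 1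
  stab : H ⊓ 𝒮 α ≤ 𝒩 (B ⊔ O2 H)
  oddf : ∀ X, X ≤ H → Odd ♯X → B ≤ 𝒩 X → ∀ x ∈ X, ∀ g ∈ H, x • g • α = g • α
  trT : ∀ g ∈ H, ∀ g' ∈ H, g • α ≠ α → g' • α ≠ α → ∃ t ∈ T1, t • g • α = g' • α

namespace Orb
variable {G Ω Q : Type} [Group G] [Finite G] [MulAction G Ω] [Group Q] [Finite Q]
  {H T B X : Subgroup G} {α : Ω} {f : H →* Q} {L : Subgroup Q} {k : Q} (h : Orb H T B α f L k)
include h

theorem inj : up f ⊥ ⊓ T = ⊥ := h.ker ▸ inf_eq_bot_of_cop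
  (cop_of_pgroup Nat.prime_two h.syl.isPGroup (not_dvd_Op_compl Nat.prime_two H)).symm

theorem cardB : ♯(𝒵 (down f T ⊓ L)) = ♯B := by
  rw [← h.ctr, card_down_eq (h.le.trans h.syl.le) (eq_bot_of_le h.inj (inf_le_inf_left _ h.le))]

omit [Finite G] [Finite Q] in
theorem mem_st {x : H} : (x : G) • α = α ↔ f x ∈ 𝒩 (down f T ⊓ L) := by
  rw [← coe_mem_up, h.st]; exact ⟨fun e => ⟨x.2, e⟩, fun e => e.2⟩

theorem idx : (𝒮 α).relIndex H = ♯B ^ 2 + 1 := by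
  have := h.nrm
  rw [← inf_relIndex_left, ← h.st, ri_up f _ le_rfl, down_top h.surj, sz_idx h.sz, h.cardB]

omit [Finite G] [Finite Q] in
/-- the preimage of `C(L)` fixes the orbit -/
theorem fixC {x g : G} (hx : x ∈ up f (𝒞 L)) (hg : g ∈ H) : x • g • α = g • α := by
  have := h.nrm
  obtain ⟨hx', e⟩ := mem_up.1 hx
  have := h.mem_st.2 (sz_cent_le h.sz (show f ((⟨g, hg⟩ : H)⁻¹ * ⟨x, hx'⟩ * ⟨g, hg⟩) ∈ _ by
    rw [map_mul, map_mul, map_inv]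
    exact conj_mem_of_norm' (norm_le_norm_cent L (by rw [normalizer_eq_top]; trivial)) e))
  rw [← inv_smul_eq_iff, ← mul_smul, ← mul_smul]; exact this

theorem oddC (h1 : X ≤ H) (ho : Odd ♯X) (hn : B ≤ 𝒩 X) : X ≤ up f (𝒞 L) := by
  have := h.nrm
  exact (down_le_iff' h1).1 (sz_odd h.sz (odd_down f ho) (h.ctr ▸ down_le_norm f hn))

omit [Finite G] [Finite Q] in
theorem stab : H ⊓ 𝒮 α ≤ 𝒩 (B ⊔ O2 H) := by
  rw [← h.st, ← h.ker, ← up_down f (h.le.trans h.syl.le), h.ctr]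
  exact up_le_norm f (norm_le_norm_ctr _)

/-- the torus lifts to an element of odd order of `N(T)` -/
theorem lift : ∃ k' : H, f k' = k ∧ (k' : G) ∈ 𝒩 T ∧ Odd (orderOf (k' : G)) := by
  have := h.nrm
  have e := (Kx.ca_ker h.ker h.syl.le h.syl.isPGroup).down_norm_ker h.syl.le le_rfl (up_le _ _)
  obtain ⟨l, l1, rfl⟩ := mem_down.1 (e.ge ⟨down_top h.surj ▸ mem_top k,
    sz_kS (isPGroup_down f h.syl.isPGroup) h.sz⟩)
  obtain ⟨j, hj⟩ := exists_pow_coprime 2 (l : G)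
  obtain ⟨n, hn⟩ := exists_pow_eq_self_of_coprime (x := f l) (n := 2 ^ j)
    ((Nat.coprime_two_left.2 h.sz.s2g.odd).pow_left j)
  exact ⟨(l ^ 2 ^ j) ^ n, by rw [map_pow, map_pow, hn], pow_mem (pow_mem l1.2 _) n,
    (Nat.coprime_two_right.1 hj).of_dvd_nat (orderOf_pow_dvd n)⟩

theorem trT {g g' : G} (hg : g ∈ H) (hg' : g' ∈ H) (h1 : g • α ≠ α) (h2 : g' • α ≠ α) :
    ∃ t ∈ T ⊓ up f L, t • g • α = g' • α := by
  have := h.nrm
  obtain ⟨l, hl, n, hn, e⟩ := h.sz.syl.frattini (g := f ⟨g, hg⟩) (top_le_norm (mem_top _))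
  obtain ⟨l', hl', n', hn', e'⟩ := h.sz.syl.frattini (g := f ⟨g', hg'⟩) (top_le_norm (mem_top _))
  obtain ⟨_, ⟨⟨t, t1, rfl⟩, t2⟩, q⟩ := h.sz.rb.two l' hl' l hl
    (fun q => h2 ((h.mem_st (x := ⟨g', hg'⟩)).2 (e' ▸ mul_mem q hn')))
    (fun q => h1 ((h.mem_st (x := ⟨g, hg⟩)).2 (e ▸ mul_mem q hn)))
  refine ⟨t, ⟨t1, coe_mem_up.2 t2⟩, ?_⟩
  have := (h.mem_st (x := (⟨g', hg'⟩ : H)⁻¹ * t * ⟨g, hg⟩)).2 (by
    rw [map_mul, map_mul, map_inv, e, e']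
    convert mul_mem (mul_mem (inv_mem hn') q) hn using 1; group)
  rw [← mul_smul, ← inv_smul_eq_iff, ← mul_smul, ← mul_assoc]; exact this

theorem ln : ∃ k' : H, f k' = k ∧ Ln H T B (T ⊓ up f L) (T ⊓ up f (𝒞 L)) k' α := by
  have := h.nrm
  obtain ⟨k', rfl, k1, k2⟩ := h.lift
  have hi : up f ⊥ ⊓ (T ⊓ up f L) = ⊥ := eq_bot_of_le h.inj (inf_le_inf_left _ inf_le_left)
  have hB : B ≤ T ⊓ up f L := le_inf h.le ((down_le_iff' (h.le.trans h.syl.le)).1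
    (h.ctr ▸ inf_le_left.trans inf_le_right))
  have cm : ∀ (x : H) (r : G), f x ∈ L → r ∈ T ⊓ up f (𝒞 L) → x * r * x⁻¹ ∈ T → x * r * x⁻¹ = r :=
    fun x r hx hr m => by
      obtain ⟨r1, r2⟩ := mem_up.1 hr.2
      exact eq_of_f h.inj (x := x * ⟨r, r1⟩ * x⁻¹) (y := ⟨r, r1⟩) m hr.1 (by
        rw [map_mul, map_mul, map_inv, mem_cent.1 r2 _ hx, mul_inv_cancel_right])
  refine ⟨k', rfl, s2g_lift (inf_le_left.trans h.syl.le) hi hB (le_norm_inf (zpowers_le.2 k1)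
    ((zpowers_le.2 k'.2).trans (le_normalizer_up f L)) (mem_zpowers _)) k2
    (h.syl.isPGroup.to_le inf_le_left) (by rw [down_inf_up, h.ctr]; exact h.sz.s2g), h.syl,
    le_antisymm (sup_le inf_le_left inf_le_left) fun x hx => ?_, eq_bot_iff.2 fun x hx => ?_,
    fun r hr => mem_cent.2 fun t ht => ?_, mem_cent.2 fun r hr => ?_, k'.2,
    fun r hr g hg => h.fixC hr.2 hg, fun x hx => ⟨hx.1, ?_⟩, h.idx, h.stab,
    fun X h1 ho hn x hx g hg => h.fixC (h.oddC h1 ho hn hx) hg,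
    fun g hg g' hg' => h.trT hg hg'⟩
  · obtain ⟨_, ⟨⟨l, l1, rfl⟩, l2⟩, _, ⟨⟨c, c1, rfl⟩, c2⟩, e⟩ := sz_split
      (isPGroup_down f h.syl.isPGroup) h.sz (mem_down_of_mem (x := ⟨x, h.syl.le hx⟩) hx)
    have := eq_of_f h.inj (x := l * c) (y := ⟨x, h.syl.le hx⟩) (mul_mem l1 c1) hx (by rwa [map_mul])
    rw [show x = l * c from this.symm]
    exact mul_mem_sup ⟨l1, coe_mem_up.2 l2⟩ ⟨c1, coe_mem_up.2 c2⟩
  · obtain ⟨x1, x2⟩ := mem_up.1 hx.1.2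
    exact eq_of_f h.inj (x := ⟨x, x1⟩) (y := 1) hx.1.1 (one_mem _)
      (by rw [map_one]; exact h.sz.smp.eq_one x2 (mem_up.1 hx.2.2).2)
  · obtain ⟨t1, t2⟩ := mem_up.1 ht.2
    exact mul_inv_eq_iff_eq_mul.1 (cm ⟨t, t1⟩ r t2 hr (mul_mem (mul_mem ht.1 hr.1) (inv_mem ht.1)))
  · exact (mul_inv_eq_iff_eq_mul.1 (cm k' r h.sz.kL hr (conj_mem_of_norm k1 hr.1))).symm
  · exact (down_le_iff' (inf_le_left.trans h.syl.le)).1 ((down_le_cent f inf_le_right).trans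
      (cent_anti (down_top h.surj ▸ le_top))) hx

end Orb

namespace GA
variable {G Ω : Type} [Group G] [Finite G] [MulAction G Ω] {A B S P H T X : Subgroup G}
  {a b c d g x y z w : G} {α β γ δ : Ω} (h : GA S A α)
include h

/-- odd subgroups normalized by a noncyclic subgroup of `A` fix `α` -/
theorem odd_le (hB : B ≤ A) (h4 : 4 ≤ ♯B) (ho : Odd ♯X) (hn : B ≤ 𝒩 X) : X ≤ 𝒮 α :=
  gen_cent1 (h.elem.mono hB).abel (Kx.not_cyc (h.elem.mono hB) h4) hn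
    (cop_of_pgroup Nat.prime_two (h.elem.mono hB).pgroup
      (fun e => (Nat.not_even_iff_odd.2 ho) (even_iff_two_dvd.2 e))).symm
    fun b hb b1 => inf_le_right.trans (h.cA b (hB hb) b1)

theorem orb (h1 : KOne) (hH : H ≠ ⊤) (hT : IsSyl 2 T H) (hB : B ≤ A) (hs : SC B T H) (h4 : 4 ≤ ♯B)
    (hn : ¬ H ≤ 𝒮 α) : ∃ (Q : Type) (_ : Group Q) (_ : Finite Q) (f : H →* Q) (L : Subgroup Q)
      (k : Q), Orb H T B α f L k := by
  have n := h.nB hB (ne_bot_of_card (by omega))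
  obtain ⟨Q, _, _, f, L, k, q1, q2, q3, q4, q5⟩ := h1 G H T B (𝒮 α) h.ft (h.ih H hH) hT hs
    (h.elem.mono hB) h4 (inf_le_right.trans n)
    (fun b hb b1 => inf_le_right.trans (h.cA b (hB hb) b1)) hn
  have BH := hs.le.trans hT.le
  have o : up f ⊥ ≤ H ⊓ 𝒮 α := le_inf (up_le _ _)
    (q2 ▸ h.odd_le hB h4 (odd_O2 H) (BH.trans (Op_nrm _ H).norm))
  refine ⟨Q, _, ‹_›, f, L, k, hT, hs.le, q1, q2, q3, q4, q5, ?_⟩
  rw [← sz_max q4 (Y := down f (H ⊓ 𝒮 α)), up_down_of_le f inf_le_left o]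
  · refine le_trans ?_ (down_mono f (inf_le_inf_left H n))
    rw [(Kx.ca_ker q2 BH (h.elem.mono hB).pgroup).down_norm_ker BH le_rfl (up_le _ _), down_top q1,
      top_inf_eq, q5]
    exact norm_le_norm_ctr _
  · intro e
    have := up_down_of_le f inf_le_left o
    rw [e, up_top] at this
    exact hn (this.le.trans inf_le_right)

theorem ln (h1 : KOne) (hH : H ≠ ⊤) (hT : IsSyl 2 T H) (hB : B ≤ A) (hs : SC B T H) (h4 : 4 ≤ ♯B)
    (hn : ¬ H ≤ 𝒮 α) : ∃ T1 R k, Ln H T B T1 R k α := by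
  obtain ⟨Q, _, _, f, L, k, q⟩ := h.orb h1 hH hT hB hs h4 hn
  obtain ⟨k', -, q'⟩ := q.ln
  exact ⟨_, _, _, q'⟩

/-- the case of a subgroup containing `A` -/
theorem orbA (h1 : KOne) (hH : H ≠ ⊤) (hT : IsSyl 2 T H) (hA : A ≤ T) (hn : ¬ H ≤ 𝒮 α) :
    ∃ (Q : Type) (_ : Group Q) (_ : Finite Q) (f : H →* Q) (L : Subgroup Q) (k : Q),
      Orb H T A α f L k :=
  h.orb h1 hH hT le_rfl ((h.scl hT.isPGroup hA).mono hA le_rfl le_top) (by have := h.big; omega) hn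

theorem lnA (h1 : KOne) (hH : H ≠ ⊤) (hT : IsSyl 2 T H) (hA : A ≤ T) (hn : ¬ H ≤ 𝒮 α) :
    ∃ T1 R k, Ln H T A T1 R k α :=
  h.ln h1 hH hT le_rfl ((h.scl hT.isPGroup hA).mono hA le_rfl le_top) (by have := h.big; omega) hn

end GA

end Cfsg.GS.Ax
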