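import Cfsg.Agent.GS.A2

/-! Involutions outside `I`: task L1. -/

set_option autoImplicit false
set_option linter.unusedSectionVars false

namespace Cfsg.GS.Ax

open Subgroup Cfsg.L0 Cfsg.H8 Cfsg.FT Cfsg.BS Cfsg.BS.R Cfsg.GS.T3 MulAction
open scoped commutatorElement

section
variable {G Ω : Type} [Group G] [Finite G] {A B S P H T X : Subgroup G} {a b c d g x y z w : G}

theorem bot_of_no_ivo (hP : IsPGroup 2 P) (h : ∀ t ∈ P, ¬ Ivo t) : P = ⊥ := by_contra fun e =>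
  (Nat.not_even_iff_odd.2 (odd_of_no_ivo h))
    (even_iff_two_dvd.2 (dvd_card_of_pgroup Nat.prime_two hP e))

theorem ri_le_card (h : ∀ a ∈ A, a * z * a⁻¹ * z⁻¹ ∈ B) : (𝒞₁ z).relIndex A ≤ ♯B := by
  rw [← card_conj]
  refine Nat.card_le_card_of_injective (fun w => (⟨w.1 * z⁻¹, by
    obtain ⟨_, a, ha, rfl⟩ := w; exact h a ha⟩ : B)) fun w w' e => Subtype.ext ?_
  exact mul_right_cancel (congrArg Subtype.val e)

theorem card_le_ri (h : ∀ b ∈ B, ∃ a ∈ A, a * z * a⁻¹ * z⁻¹ = b) : ♯B ≤ (𝒞₁ z).relIndex A := by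
  rw [← card_conj]
  refine Nat.card_le_card_of_injective (fun w : B => (⟨w.1 * z, by
    obtain ⟨a, ha, e⟩ := h w.1 w.2; exact ⟨a, ha, by rw [← e]; group⟩⟩ :
      {w : G // ∃ y ∈ A, y * z * y⁻¹ = w})) fun w w' e => Subtype.ext ?_
  exact mul_right_cancel (congrArg Subtype.val e)

omit [Finite G] in
theorem cj_br (k g z : G) : k * (g * z * g⁻¹ * z⁻¹) * k⁻¹ =
    k * g * k⁻¹ * (k * z * k⁻¹) * (k * g * k⁻¹)⁻¹ * (k * z * k⁻¹)⁻¹ := by group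

/-- the stabilizer of the coset `B z` in `C(B)` -/
def cosSt (B : Subgroup G) (z : G) : Subgroup G where
  carrier := {g | g ∈ 𝒞 B ∧ g * z * g⁻¹ * z⁻¹ ∈ B}
  one_mem' := ⟨one_mem _, by simp⟩
  mul_mem' := fun {x y} hx hy => ⟨mul_mem hx.1 hy.1, by
    have := mul_mem hy.2 hx.2
    rw [← mul_assoc, ← mul_assoc, ← mul_assoc, mem_cent.1 hx.1 _ hy.2] at this
    convert this using 1; group⟩
  inv_mem' := fun {x} hx => ⟨inv_mem hx.1, by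
    have := conj_mem_of_norm' (cent_le_norm B hx.1) (inv_mem hx.2)
    have e := mem_cent.1 hx.1 _ (inv_mem hx.2)
    rw [show x⁻¹ * z * x⁻¹⁻¹ * z⁻¹ = x⁻¹ * ((x * z * x⁻¹ * z⁻¹)⁻¹ * x) by group, e]
    simpa using inv_mem hx.2⟩

variable [MulAction G Ω]

theorem ncard_orbit (H : Subgroup G) (β : Ω) :
    {γ | ∃ g ∈ H, g • β = γ}.ncard = (𝒮 β).relIndex H := by
  have := index_stabilizer H β
  rw [relIndex]
  refine Eq.trans ?_ this.symm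
  congr 1
  ext γ
  exact ⟨fun ⟨g, hg, e⟩ => ⟨⟨g, hg⟩, e⟩, fun ⟨g, e⟩ => ⟨g, g.2, e⟩⟩

end

namespace GA
variable {G Ω : Type} [Group G] [Finite G] [MulAction G Ω] {A B S P H T X S1 : Subgroup G}
  {a b c d g x y z u v w : G} {α β γ δ : Ω} (h : GA S A α)
include h

theorem ncard_fix (hz : z * z = 1) (h1 : z • β = β) :
    {γ : Ω | z • γ = γ}.ncard = (𝒮 β).relIndex (𝒞₁ z) := by
  rw [← ncard_orbit]
  congr 1
  ext γ
  refine ⟨fun e => h.tr_fix hz h1 e, ?_⟩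
  rintro ⟨g, hg, rfl⟩
  show z • g • β = g • β
  rw [← mul_smul, ← mem_cent1.1 hg, mul_smul, h1]

theorem c0 (h1 : KOne) (hz : Ivo z) (hI : ¬ InI A z) (hS : z ∈ S)
    (hT : IsSyl 2 (S ⊓ 𝒞₁ z) (𝒞₁ z ⊓ 𝒮 α)) : z ∈ 𝒞 A := by
  have sc := h.sc.inf (le_top : 𝒞₁ z ≤ ⊤)
  have cm : ∀ a ∈ A, a * z * a⁻¹ * z⁻¹ ∈ A ⊓ 𝒞₁ z := fun a ha => by
    have m : z * a⁻¹ * z⁻¹ ∈ A := conj_mem_of_norm (h.SN' hS) (inv_mem ha)
    have e := h.elem.abel.comm ha m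
    refine ⟨by rw [mul_assoc, mul_assoc, ← mul_assoc z]; exact mul_mem ha m, mem_cent1.2 ?_⟩
    have ia : a⁻¹ = a := inv_eq_of_mul_eq_one_right (sq1 h.elem ha)
    rw [ia, hz.inv] at e ⊢
    calc a * z * a * z * z = a * (z * a * z) * z := by group
      _ = _ := by rw [e]; group
  have cd := card_inf_mul_ri (𝒞₁ z) A
  rw [inf_comm] at cd
  obtain ⟨j, hj⟩ := (h.elem.mono (inf_le_left : A ⊓ 𝒞₁ z ≤ A)).exists_card Nat.prime_two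
  have le := ri_le_card cm
  have h4 : 4 ≤ ♯(A ⊓ 𝒞₁ z) := by
    have := h.big
    have : 8 ≤ 2 ^ j * 2 ^ j := by rw [← hj]; nlinarith
    rw [hj]
    rcases j with _ | _ | j
    · omega
    · omega
    · rw [pow_add, pow_add]; have := Nat.one_le_two_pow (n := j); omega
  have hT' : IsSyl 2 (S ⊓ 𝒞₁ z) (𝒞₁ z) := IsSyl.of_normalizer (hT.mono
    (le_inf inf_le_right (le_norm _)) (le_inf inf_le_left
      (sc.norm_le.trans (h.nB inf_le_left (ne_bot_of_card (by omega))))))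
  obtain ⟨T1, R, k, q⟩ := h.ln h1 (h.cent1_ne hz.1) hT' inf_le_left sc h4 (h.cent_not_le hz hI α)
  have kB := Ux.S2.kA q.toS2G
  have kz : k * z * k⁻¹ = z := by rw [mem_cent1.1 q.kH]; group
  have kX : k ∈ 𝒩 (cosSt (A ⊓ 𝒞₁ z) z) := mem_normalizer_of_forall fun g hg =>
    ⟨conj_mem_of_norm (norm_le_norm_cent _ kB) hg.1, by
      have := conj_mem_of_norm kB hg.2
      rwa [cj_br, kz] at this⟩
  obtain ⟨P, p1, p2⟩ := exists_isSyl_ge (H := cosSt (A ⊓ 𝒞₁ z) z) h.elem.pgroup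
    fun a ha => ⟨cent_mono h.elem.abel le_rfl inf_le_left ha, cm a ha⟩
  obtain ⟨x, hx, n, hn, e⟩ := p1.frattini kX
  replace hn : n ∈ 𝒩 A := (h.scl p1.isPGroup p2).norm_le ⟨trivial, hn⟩
  have st : ∀ d, (∃ a ∈ A, a * z * a⁻¹ * z⁻¹ = d) → ∃ a ∈ A, a * z * a⁻¹ * z⁻¹ = k * d * k⁻¹ := by
    rintro _ ⟨a, ha, rfl⟩
    have ha' := conj_mem_of_norm hn ha
    refine ⟨_, ha', ?_⟩
    have b1 := (inv_mem hx).2
    have e1 : n * z * n⁻¹ = x⁻¹ * z * x⁻¹⁻¹ * z⁻¹ * z := by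
      rw [show n = x⁻¹ * k by rw [e]; group]
      conv_rhs => rw [inv_mul_cancel_right, ← kz]
      group
    have e2 := mem_cent.1 hx.1 _ (conj_mem_of_norm kB (cm a ha))
    have e3 : n * (a * z * a⁻¹ * z⁻¹) * n⁻¹ = k * (a * z * a⁻¹ * z⁻¹) * k⁻¹ := by
      rw [show n = x⁻¹ * k by rw [e]; group, show x⁻¹ * k * (a * z * a⁻¹ * z⁻¹) * (x⁻¹ * k)⁻¹ =
        x⁻¹ * (k * (a * z * a⁻¹ * z⁻¹) * k⁻¹ * x) by group, e2, inv_mul_cancel_left]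
    rw [← e3, cj_br, e1]
    generalize x⁻¹ * z * x⁻¹⁻¹ * z⁻¹ = b at b1 ⊢
    generalize n * a * n⁻¹ = a' at ha' ⊢
    rw [← mul_assoc a' b, h.elem.abel.comm ha' b1.1, show b * a' * z * a'⁻¹ * (b * z)⁻¹ =
      b * (a' * z * a'⁻¹ * z⁻¹) * b⁻¹ by group, h.elem.abel.comm b1.1 (cm a' ha').1,
      mul_inv_cancel_right]
  by_contra hc
  obtain ⟨a, ha, a1⟩ : ∃ a ∈ A, a * z * a⁻¹ * z⁻¹ ≠ 1 := by
    by_contra e
    push Not at e
    exact hc (mem_cent.2 fun a ha => by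
      have := e a ha; rwa [mul_inv_eq_one, mul_inv_eq_iff_eq_mul] at this)
  have ge := card_le_ri (A := A) (B := A ⊓ 𝒞₁ z) (z := z) fun b hb => by
    by_cases b1 : b = 1
    · exact ⟨1, one_mem _, by rw [b1]; group⟩
    obtain ⟨m, rfl⟩ := q.tr _ (cm a ha) b hb a1 b1
    clear hb b1
    induction m with
    | zero => exact ⟨a, ha, by group⟩
    | succ m ih =>
      obtain ⟨a', ha', e⟩ := st _ ih
      exact ⟨a', ha', by rw [e, pow_succ']; group⟩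
  obtain ⟨e, ⟨m, hm⟩, he⟩ := h.deg
  rw [le_antisymm le ge, hj, he, ← pow_add] at cd
  have := Nat.pow_right_injective le_rfl cd
  omega

/-- (c): an involution outside `I` fixing `α` centralizes a conjugate of `A` under `M` -/
theorem cent_conj (h1 : KOne) (hz : Ivo z) (hI : ¬ InI A z) (h2 : z • α = α) :
    ∃ m ∈ 𝒮 α, z ∈ 𝒞 (L0.cj m A) := by
  obtain ⟨T, t1, t2⟩ := exists_isSyl_ge (H := 𝒞₁ z ⊓ 𝒮 α) (card_zp2 hz.2)
    (zpowers_le.2 ⟨self_mem_cent1 z, h2⟩)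
  obtain ⟨m, hm, q⟩ := h.sylM.exists_cj_le t1.isPGroup (t1.le.trans inf_le_right)
  have h' := h.cj m⁻¹
  rw [inv_fix hm] at h'
  rw [cj_le_iff] at q
  exact ⟨m⁻¹, inv_mem hm, h'.c0 h1 hz (fun e => hI ((inI_cj _).1 e)) (q (t2 (mem_zpowers z)))
    (t1.of_ge (h'.syl.isPGroup.to_le inf_le_left) (le_inf q (t1.le.trans inf_le_left))
      (le_inf inf_le_right (inf_le_left.trans h'.sylM.le)))⟩

theorem not_I (hv : v ∉ A) (hc : v ∈ 𝒞 A) : ¬ InI A v := fun e => hv (h.mem_of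
  (pgroup_sup (zpowers_le.2 (cent_le_norm A hc)) h.elem.pgroup (card_zp2 (h.ivo e).2)) le_sup_left
    (mem_sup_right (mem_zpowers v)) e)

theorem lnv (h1 : KOne) (h0 : Ivo v) (hv : v ∉ A) (hc : v ∈ 𝒞 A) (hS : IsSyl 2 S1 (𝒞₁ v))
    (hA : A ≤ S1) : ∃ T R k, Ln (𝒞₁ v) S1 A T R k α :=
  h.lnA h1 (h.cent1_ne h0.1) hS hA (h.cent_not_le h0 (h.not_I hv hc) α)

/-- all lines have `q² + 1` points -/
theorem card_line (h1 : KOne) (hz : Ivo z) (hI : ¬ InI A z) :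
    {γ : Ω | z • γ = γ}.ncard = ♯A ^ 2 + 1 := by
  obtain ⟨β, hβ⟩ := h.ex_fix hz.2
  obtain ⟨g, rfl⟩ := h.tr β
  have hI' : ¬ InI (L0.cj g A) z := fun e => hI ((inI_cj _).1 e)
  obtain ⟨m, hm, q⟩ := (h.cj g).cent_conj h1 hz hI' hβ
  have h' := (h.cj g).cj m
  rw [mem_St.1 hm] at h'
  obtain ⟨S1, s1, s2⟩ := exists_isSyl_ge h'.elem.pgroup (le_cent1_iff.2 q)
  obtain ⟨T, R, k, l⟩ := h'.lnv h1 hz (fun e => hI' ((inI_cj _).1 (inI_of_mem e hz.1))) q s1 s2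
  rw [h.ncard_fix hz.2 hβ, l.idx, card_cj, card_cj]

/-- an involution fixing a line pointwise has this line -/
theorem fix_eq (h1 : KOne) (hz : Ivo z) (hI : ¬ InI A z) (hw : Ivo w)
    (h2 : ∀ γ : Ω, z • γ = γ → w • γ = γ) : ¬ InI A w ∧ ∀ γ : Ω, w • γ = γ → z • γ = γ := by
  have := h.finite
  have hI' : ¬ InI A w := fun e => by
    obtain ⟨β, hβ⟩ := h.ex_fix hz.2
    obtain ⟨γ, q1, q2⟩ := h.two_fix hz hI β
    exact q1 (h.uq e (h2 γ q2) (h2 β hβ))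
  have := Set.eq_of_subset_of_ncard_le (s := {γ : Ω | z • γ = γ}) (t := {γ : Ω | w • γ = γ}) h2
    (by rw [h.card_line h1 hz hI, h.card_line h1 hw hI'])
  exact ⟨hI', fun γ e => this.ge e⟩

end GA

namespace Ln
variable {G Ω : Type} [Group G] [Finite G] [MulAction G Ω] {H A S1 T R : Subgroup G}
  {k r v : G} {α γ : Ω}

theorem AT (l : Ln H S1 A T R k α) : A ≤ T := Ux.S2.AT l.toS2G
theorem TS (l : Ln H S1 A T R k α) : T ≤ S1 := l.sup ▸ le_sup_left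
theorem RS (l : Ln H S1 A T R k α) : R ≤ S1 := l.sup ▸ le_sup_right
theorem nT (l : Ln H S1 A T R k α) : S1 ≤ 𝒩 T :=
  l.sup ▸ sup_le (le_norm T) (le_norm_of_le_cent l.cm)
theorem nR (l : Ln H S1 A T R k α) : S1 ≤ 𝒩 R :=
  l.sup ▸ sup_le (le_norm_of_le_cent (cent_symm l.cm)) (le_norm R)
theorem AcS (l : Ln H S1 A T R k α) : A ≤ 𝒞 S1 := by
  rw [← l.sup, cent_sup]
  exact le_inf (Ux.S2.AcT l.toS2G) (cent_symm (l.cm.trans (cent_anti l.AT)))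
theorem kA (l : Ln H S1 A T R k α) : k ∈ 𝒩 A := Ux.S2.kA l.toS2G

theorem vR (l : Ln (𝒞₁ v) S1 A T R k α) (h0 : v * v = 1) : v ∈ R :=
  l.cR ⟨l.syl.mem_of_mem_normalizer (self_mem_cent1 v) ⟨1, by simpa [sq] using h0⟩
    (cent_le_norm _ (le_cent1_iff.1 l.syl.le)), le_cent1_iff.1 le_rfl⟩

end Ln

namespace GA
variable {G Ω : Type} [Group G] [Finite G] [MulAction G Ω] {A B S P H T R X S1 : Subgroup G}
  {a b c d g k r x y z u v w : G} {α β γ δ : Ω} (h : GA S A α)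
include h

/-- `R` fixes the line of `v` pointwise -/
theorem fixR (l : Ln (𝒞₁ v) S1 A T R k α) (h0 : v * v = 1) (hr : r ∈ R) (h2 : v • γ = γ) :
    r • γ = γ := by
  obtain ⟨g, hg, rfl⟩ := h.tr_fix h0 (show v • α = α by simpa using l.fix v (l.vR h0) 1 (one_mem _)) h2
  exact l.fix r hr g hg

theorem coset_syl (h1 : KOne) (h0 : Ivo v) (hv : v ∉ A) (hc : v ∈ 𝒞 A) (hS : IsSyl 2 S1 (𝒞₁ v))
    (hA : A ≤ S1) (ha : a ∈ A) :
    Ivo (v * a) ∧ v * a ∉ A ∧ v * a ∈ 𝒞 A ∧ IsSyl 2 S1 (𝒞₁ (v * a)) := by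
  obtain ⟨T, R, k, l⟩ := h.lnv h1 h0 hv hc hS hA
  have n : v * a ∉ A := fun e => hv ((mul_mem_cancel_right ha).1 e)
  have i : Ivo (v * a) := ⟨fun e => n (e ▸ one_mem A), by
    rw [mul_assoc, ← mul_assoc a, mem_cent.1 hc a ha, mul_assoc v, sq1 h.elem ha, mul_one, h0.2]⟩
  have c := mul_mem hc (h.elem.abel ha)
  obtain ⟨S', s1, s2⟩ := exists_isSyl_ge hS.isPGroup (le_cent1_iff.2
    (mul_mem (le_cent1_iff.1 hS.le) (l.AcS ha)))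
  obtain ⟨T', R', k', l'⟩ := h.lnv h1 i n c s1 (hA.trans s2)
  have : v ∈ 𝒞 S' := (mul_mem_cancel_right (l'.AcS ha)).1 (le_cent1_iff.1 s1.le)
  exact ⟨i, n, c, hS.eq_of_le s1.isPGroup s2 (le_cent1_iff.2 this) ▸ s1⟩

theorem elemR (h1 : KOne) (h0 : Ivo v) (hv : v ∉ A) (hc : v ∈ 𝒞 A) (l : Ln (𝒞₁ v) S1 A T R k α) :
    Elem 2 R := by
  obtain ⟨a, ha, a1⟩ := h.exA
  obtain ⟨i, n, c, s⟩ := h.coset_syl h1 h0 hv hc l.syl (l.AT.trans l.TS) ha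
  obtain ⟨T', R', k', l'⟩ := h.lnv h1 i n c s (l.AT.trans l.TS)
  have hI := h.not_I hv hc
  have pR : IsPGroup 2 R := l.syl.isPGroup.to_le l.RS
  have e1 : R ⊓ R' = ⊥ := bot_of_no_ivo (pR.to_le inf_le_left) fun r hr r1 => by
    obtain ⟨γ, q1, q2⟩ := h.two_fix h0 hI α
    have := (h.fix_eq h1 i (h.not_I n c) r1 fun γ => h.fixR l' i.2 hr.2).2 γ
      (h.fixR l h0.2 hr.1 q2)
    rw [mul_smul, smul_eq_iff_eq_inv_smul, inv_fix q2] at this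
    exact q1 (h.uq0 ha a1 this)
  have e2 : R ⊓ T' = ⊥ := bot_of_no_ivo (pR.to_le inf_le_left) fun r hr r1 =>
    (h.fix_eq h1 h0 hI r1 fun γ => h.fixR l h0.2 hr.1).1
      (inI_of_mem (Ux.S2.mem_of_sq l'.toS2G hr.2 r1.2) r1.1)
  have c1 := le_cent_of_inf_eq_bot (l.RS.trans l'.nR) (l'.RS.trans l.nR) e1
  have c2 := le_cent_of_inf_eq_bot (l.RS.trans l'.nT) (l'.TS.trans l.nR) e2
  refine ⟨(le_inf c2 c1).trans ((cent_sup T' R').ge.trans (cent_anti (l'.sup ▸ l.RS))),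
    fun r hr => ?_⟩
  obtain ⟨t, ht, r', hr', rfl⟩ := (mem_sup_l (le_norm_of_le_cent l'.cm)).1 (l'.sup ▸ l.RS hr)
  have tA : t ∈ A := l'.ctr ▸ ⟨ht, (mul_mem_cancel_right (l'.cm hr')).1 (c2 hr)⟩
  have e : (t * r') ^ 2 = r' ^ 2 := by
    rw [(show Commute t r' from mem_cent.1 (l'.cm hr') t ht).mul_pow, h.elem.pow tA, one_mul]
  exact eq_one_of_mem e1 ⟨pow_mem hr 2, e ▸ pow_mem hr' 2⟩

theorem all1 (h1 : KOne) : All1 A := fun v S1 h0 hv hc hS hA => by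
  obtain ⟨T, R, k, l⟩ := h.lnv h1 h0 hv hc hS hA
  exact ⟨T, R, k, l.toS2G, hS, l.sup, l.inf, l.cm, l.vR h0.2, h0.1, h.elemR h1 h0 hv hc l, l.kR⟩

/-- if some involution is not in `I`, there is an involution in `C(A) \ A` -/
theorem ex_v (h1 : KOne) (hz : Ivo z) (hI : ¬ InI A z) : ∃ v, Ivo v ∧ v ∉ A ∧ v ∈ 𝒞 A := by
  obtain ⟨β, hβ⟩ := h.ex_fix hz.2
  obtain ⟨g, rfl⟩ := h.tr β
  obtain ⟨m, -, q⟩ := (h.cj g).cent_conj h1 hz (fun e => hI ((inI_cj _).1 e)) hβ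
  rw [← cj_mul, ← cj_cent, mem_cj] at q
  have i := hz.conj (m * g)⁻¹
  rw [inv_inv] at i
  exact ⟨_, i, fun e => hI (inI_conj' (g := (m * g)⁻¹) (by rw [inv_inv]; exact inI_of_mem e i.1)), q⟩

theorem le_ON (h1 : KOne) (hM : KM) (h0 : Ivo v) (hv : v ∉ A) (hc : v ∈ 𝒞 A) :
    𝒮 α ≤ O2 (𝒮 α) ⊔ 𝒩 A := by
  obtain ⟨S1, s1, s2⟩ := exists_isSyl_ge h.elem.pgroup (le_cent1_iff.2 hc)
  obtain ⟨T, R, k, l⟩ := h.lnv h1 h0 hv hc s1 s2
  refine hM G (𝒮 α) S A (A ⊔ O2 (𝒞₁ v)) v k h.ft (h.ih _ h.ne) h.sylM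
    (h.sc.mono h.sc.le le_rfl le_top) h.elem (by have := h.big; omega) (h.CM hc) h0.2 hc
    (h.nA l.kA) l.kA (mem_cent1.1 l.kH) l.tr ?_ fun a ha m hm q => ?_
  · rw [sup_comm]
    exact sol_sup (h.ft _ (odd_O2 _)) h.elem.abel.sol ((le_cent1_iff.2 hc).trans (Op_nrm _ _).norm)
  · by_cases a1 : a = 1
    · rw [a1, mul_one, mul_inv_cancel]; exact one_mem _
    have hI := inI_conj (inI_of_mem ha a1) m
    obtain ⟨n, hn, q'⟩ := (s1.mono (le_inf s1.le ((cent_symm l.AcS).trans h.CM)) inf_le_left).exists_conj_mem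
      (x := m * a * m⁻¹) ⟨q, conj_mem_of_norm (le_norm _ hm) (h.AM ha)⟩
      ⟨1, by simpa [sq] using (h.ivo hI).2⟩
    have := conj_mem_of_norm' (l.stab hn) (mem_sup_left (h.mem_of s1.isPGroup s2 q' (inI_conj hI n)))
    convert this using 1; group

theorem cent_of_norm (h1 : KOne) (hON : 𝒮 α ≤ O2 (𝒮 α) ⊔ 𝒩 A) (hz : z ∈ 𝒩 A) (h2 : z * z = 1) :
    z ∈ 𝒞 A := by
  by_cases z1 : z = 1
  · exact z1 ▸ one_mem _
  by_cases hI : InI A z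
  · exact h.elem.abel (h.mem_of (pgroup_sup (zpowers_le.2 hz) h.elem.pgroup (card_zp2 h2))
      le_sup_left (mem_sup_right (mem_zpowers z)) hI)
  obtain ⟨m, hm, q⟩ := h.cent_conj h1 ⟨z1, h2⟩ hI (h.nA hz)
  have nr := Op_nrm {2}ᶜ (𝒮 α)
  obtain ⟨o, ho, n, hn, rfl⟩ := (mem_sup_l (h.nA.trans nr.norm)).1 (hON hm)
  rw [cj_mul, cj_eq_of_mem_norm hn] at q
  refine mem_cent.2 fun a ha => ?_
  have e := mem_cent.1 q _ (conj_mem_cj (g := o) ha)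
  have m1 : a⁻¹ * o * a * o⁻¹ ∈ O2 (𝒮 α) :=
    mul_mem (conj_mem_of_norm' (nr.norm (h.AM ha)) ho) (inv_mem ho)
  have := eq_one_of_mem (inf_eq_bot_of_cop (cop_of_pgroup Nat.prime_two h.elem.pgroup
    (not_dvd_Op_compl Nat.prime_two (𝒮 α)))) (x := a⁻¹ * (z * a * z⁻¹))
    ⟨A.mul_mem (A.inv_mem ha) (conj_mem_of_norm hz ha), by
      have := mul_mem m1 (inv_mem (nr.conj_mem (h.nA hz) m1))
      rwa [show a⁻¹ * o * a * o⁻¹ * (z * (a⁻¹ * o * a * o⁻¹) * z⁻¹)⁻¹ =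
        a⁻¹ * (o * a * o⁻¹ * z) * (o * a * o⁻¹)⁻¹ * a * z⁻¹ by group, e,
        show a⁻¹ * (z * (o * a * o⁻¹)) * (o * a * o⁻¹)⁻¹ * a * z⁻¹ = a⁻¹ * (z * a * z⁻¹) by group]
        at this⟩
  rw [inv_mul_eq_one, eq_mul_inv_iff_mul_eq] at this
  exact this

end GA

theorem taskL1 (h1 : KOne) (hM : KM) : TaskL1 := fun G _ _ S A M h => by
  obtain ⟨g, e⟩ := ga_of h
  refine ⟨g.all1 h1, fun ⟨z, hz, hI⟩ => ?_⟩
  obtain ⟨v, h0, hv, hc⟩ := g.ex_v h1 hz hI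
  have := g.le_ON h1 hM h0 hv hc
  exact ⟨fun z hz h2 => g.cent_of_norm h1 this hz h2, e ▸ this⟩

end Cfsg.GS.Ax
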