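import Cfsg.Agent.GS.T3

/-! Task L2 of `GS/T3`, part 1: elementary facts on `Loc1`. -/

set_option autoImplicit false

namespace Cfsg.GS.Bx

open Subgroup Cfsg.L0 Cfsg.H8 Cfsg.FT Cfsg.BS Cfsg.BS.R Cfsg.GS.T3
open scoped commutatorElement

variable {G : Type} [Group G] {A S1 T R S2 H N X K : Subgroup G} {v k k' a b c g u w x y : G}

theorem pow_conj_eq (h : b * x * b⁻¹ = w * x) (hc : b * w = w * b) (n : ℕ) :
    b ^ n * x * (b ^ n)⁻¹ = w ^ n * x := by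
  induction n with
  | zero => simp
  | succ n ih =>
    have e : b * w ^ n = w ^ n * b := (Commute.pow_right (show Commute b w from hc) n).eq
    calc b ^ (n + 1) * x * (b ^ (n + 1))⁻¹ = b * (b ^ n * x * (b ^ n)⁻¹) * b⁻¹ := by
          rw [pow_succ']; group
      _ = b * w ^ n * b⁻¹ * (b * x * b⁻¹) := by rw [ih]; group
      _ = w ^ (n + 1) * x := by rw [e, h]; group

/-- an element of odd order stabilizing `⟨x, w⟩ ≥ ⟨w⟩ ≥ 1` -/
theorem odd_fix (ho : Odd (orderOf b)) (h : b * x * b⁻¹ * x⁻¹ = w) (hc : b * w = w * b)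
    (hw : w * w = 1) : b * x = x * b := by
  have h' : b * x * b⁻¹ = w * x := by rw [← h]; group
  have e := pow_conj_eq h' hc (orderOf b)
  rw [pow_orderOf_eq_one] at e
  obtain ⟨m, hm⟩ := ho
  have : w = 1 := by
    have e2 : w ^ orderOf b = 1 := by
      have : w ^ orderOf b * x = 1 * x := by rw [← e]; group
      exact mul_right_cancel this
    rwa [hm, pow_succ, pow_mul, sq, hw, one_pow, one_mul] at e2
  rw [this, one_mul] at h'
  exact mul_inv_eq_iff_eq_mul.1 h'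

theorem pow_act (hk : k ∈ 𝒩 A) (h : ∀ a ∈ A, k' * a * k'⁻¹ = k * a * k⁻¹) (n : ℕ) :
    ∀ a ∈ A, k' ^ n * a * (k' ^ n)⁻¹ = k ^ n * a * (k ^ n)⁻¹ := by
  induction n with
  | zero => simp
  | succ n ih =>
    intro a ha
    calc k' ^ (n + 1) * a * (k' ^ (n + 1))⁻¹ = k' * (k' ^ n * a * (k' ^ n)⁻¹) * k'⁻¹ := by
          rw [pow_succ']; group
      _ = k * (k ^ n * a * (k ^ n)⁻¹) * k⁻¹ := by
          rw [ih a ha, h _ (conj_mem_of_norm (pow_mem hk n) ha)]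
      _ = _ := by rw [pow_succ']; group

theorem ri_dvd_of_nrm [Finite G] (h : N ⊴ H) (X : Subgroup G) : X.relIndex N ∣ X.relIndex H := by
  have := h.normal
  have e := H1.relIndex_dvd_index_of_normal_right (X.subgroupOf H) (N.subgroupOf H)
  rwa [relIndex_subgroupOf h.le] at e

theorem odd_of_cop2 (h : (orderOf x).Coprime 2) : Odd (orderOf x) := Nat.coprime_two_right.1 h

namespace L1

variable (h : Loc1 A S1 T R v k)
include h

theorem AT : A ≤ T := h.ctr ▸ inf_le_left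
theorem AcT : A ≤ 𝒞 T := h.ctr ▸ inf_le_right
theorem TS : T ≤ S1 := h.sup ▸ le_sup_left
theorem RS : R ≤ S1 := h.sup ▸ le_sup_right
theorem AS : A ≤ S1 := (AT h).trans (TS h)
theorem vS : v ∈ S1 := RS h h.vR
theorem vv : v * v = 1 := by have := h.el.pow h.vR; rwa [sq] at this
theorem rr (hx : x ∈ R) : x * x = 1 := by have := h.el.pow hx; rwa [sq] at this
theorem ivo : Ivo v := ⟨h.v1, vv h⟩

theorem mem (hx : x ∈ S1) : ∃ t ∈ T, ∃ r ∈ R, t * r = x :=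
  (mem_sup_l (le_norm_of_le_cent h.cm)).1 (h.sup ▸ hx)

theorem AcS : A ≤ 𝒞 S1 := by
  rw [← h.sup, cent_sup]
  exact le_inf (AcT h) (cent_symm (cent_mono h.cm le_rfl (AT h)))

theorem RcS : R ≤ 𝒞 S1 := by
  rw [← h.sup, cent_sup]
  exact le_inf h.cm h.el.abel

theorem ScA : S1 ≤ 𝒞 A := cent_symm (AcS h)

theorem vA : v ∉ A := fun e => h.v1 (eq_one_of_mem h.inf ⟨AT h e, h.vR⟩)

theorem sqe {t r : G} (ht : t ∈ T) (hr : r ∈ R) : t * r * (t * r) = t * t := by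
  have e := mem_cent.1 (h.cm hr) t ht
  calc t * r * (t * r) = t * (r * t) * r := by group
    _ = t * t * (r * r) := by rw [← e]; group
    _ = _ := by rw [rr h hr, mul_one]

theorem sqA (hx : x ∈ S1) : x * x ∈ A := by
  obtain ⟨t, ht, r, hr, rfl⟩ := mem h hx
  rw [sqe h ht hr]; exact h.sq t ht

theorem memV (hx : x ∈ S1) (h2 : x * x = 1) : ∃ a ∈ A, ∃ r ∈ R, a * r = x := by
  obtain ⟨t, ht, r, hr, rfl⟩ := mem h hx
  rw [sqe h ht hr] at h2
  exact ⟨t, by simpa using h.inj t ht 1 (one_mem _) (by rw [h2, mul_one]), r, hr, rfl⟩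

theorem sqV (ha : a ∈ A) (hr : x ∈ R) : a * x * (a * x) = 1 := by
  rw [sqe h (AT h ha) hr, h.one a ha]

theorem cen (hx : x ∈ S1) (h2 : x * x = 1) : x ∈ 𝒞 S1 := by
  obtain ⟨a, ha, r, hr, rfl⟩ := memV h hx h2
  exact mul_mem (AcS h ha) (RcS h hr)

theorem kA : k ∈ 𝒩 A := h.ctr ▸ norm_le_norm_ctr T h.kT

theorem kS : k ∈ 𝒩 S1 := by
  rw [← h.sup]
  exact le_norm_sup (A := zpowers k) (zpowers_le.2 h.kT) (zpowers_le.2 (cent_le_norm _ h.kR))
    (mem_zpowers k)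

theorem kv : k * v * k⁻¹ = v := by rw [← mem_cent.1 h.kR v h.vR]; group

theorem kV (hx : x ∈ S1) (h2 : x * x = 1) : k * x * k⁻¹ * x⁻¹ ∈ A := by
  obtain ⟨a, ha, r, hr, rfl⟩ := memV h hx h2
  have e := mem_cent.1 h.kR r hr
  have : k * (a * r) * k⁻¹ * (a * r)⁻¹ = k * a * k⁻¹ * a⁻¹ := by
    calc _ = k * a * (r * k⁻¹) * r⁻¹ * a⁻¹ := by group
      _ = k * a * (k⁻¹ * r) * r⁻¹ * a⁻¹ := by
        rw [show r * k⁻¹ = k⁻¹ * r by rw [eq_inv_mul_iff_mul_eq, ← mul_assoc, ← e]; group]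
      _ = _ := by group
  rw [this]
  exact mul_mem (conj_mem_of_norm (kA h) ha) (inv_mem ha)

theorem inj (hx : x ∈ S1) (hy : y ∈ S1) (e : x * x = y * y) : x * y⁻¹ * (x * y⁻¹) = 1 := by
  obtain ⟨t, ht, r, hr, rfl⟩ := mem h hx
  obtain ⟨t', ht', r', hr', rfl⟩ := mem h hy
  rw [sqe h ht hr, sqe h ht' hr'] at e
  have e2 := mem_cent.1 (h.cm (mul_mem hr (inv_mem hr'))) _ (inv_mem ht')
  have : t * r * (t' * r')⁻¹ = t * t'⁻¹ * (r * r'⁻¹) := by
    rw [mul_assoc t t'⁻¹, e2]; group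
  rw [this]
  exact sqV h (h.inj t ht t' ht' e) (mul_mem hr (inv_mem hr'))

theorem nT : S1 ≤ 𝒩 T := by
  rw [← h.sup]; exact sup_le (le_norm T) (le_norm_of_le_cent h.cm)

/-- an element of odd order of `N(S₁) ∩ C(A)` acting trivially on `V/A` centralizes `S₁` -/
theorem odd_cent (ho : Odd (orderOf b)) (hn : b ∈ 𝒩 S1) (hA : b ∈ 𝒞 A)
    (hV : ∀ x ∈ S1, x * x = 1 → b * x * b⁻¹ * x⁻¹ ∈ A) : b ∈ 𝒞 S1 := by
  have h1 : ∀ x ∈ S1, x * x = 1 → b * x = x * b := fun x hx h2 =>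
    odd_fix ho rfl (mem_cent.1 hA _ (hV x hx h2)).symm (h.one _ (hV x hx h2))
  refine mem_cent.2 fun x hx => ?_
  have hx' := conj_mem_of_norm hn hx
  have e : b * x * b⁻¹ * (b * x * b⁻¹) = x * x := by
    calc _ = b * (x * x) * b⁻¹ := by group
      _ = _ := by rw [← mem_cent.1 hA _ (sqA h hx)]; group
  have e2 := inj h hx' hx e
  exact (odd_fix ho rfl (h1 _ (mul_mem hx' (inv_mem hx)) e2) e2).symm

theorem coset [Finite G] (a1 : All1 A) (ha : a ∈ A) : ∃ T' R' k', Loc1 A S1 T' R' (v * a) k' := by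
  have : Fact (Nat.Prime 2) := ⟨Nat.prime_two⟩
  have hS : v * a ∈ S1 := mul_mem (vS h) (AS h ha)
  have h2 : v * a * (v * a) = 1 := by
    rw [mem_cent.1 (AcS h ha) v (vS h)]; exact sqV h ha h.vR
  have hA : v * a ∉ A := fun e => vA h ((A.mul_mem_cancel_right ha).1 e)
  have h1 : S1 ≤ 𝒞₁ (v * a) := le_cent1_iff.2 (cen h hS h2)
  obtain ⟨S', hS', hle⟩ := exists_isSyl_ge h.syl.isPGroup h1
  obtain ⟨T', R', k', h'⟩ := a1 (v * a) S' ⟨fun e => hA (e ▸ one_mem _), h2⟩ hA (ScA h hS) hS'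
    ((AS h).trans hle)
  have : S' = S1 := by
    refine h.syl.eq_of_le hS'.isPGroup hle fun x hx => mem_cent1.2 ?_
    have e1 := mem_cent1.1 (hS'.le hx)
    have e2 := mem_cent.1 (ScA h' hx) a ha
    calc x * v = x * (v * a) * a⁻¹ := by group
      _ = v * (a * x) * a⁻¹ := by rw [e1]; group
      _ = v * x := by rw [e2]; group
  exact ⟨T', R', k', this ▸ h'⟩

end L1

end Cfsg.GS.Bx
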