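import Cfsg.Agent.GS.B1
import Cfsg.Agent.BS.RX4

/-! Task L2 of `GS/T3`, part 2. -/

set_option autoImplicit false

namespace Cfsg.GS.Bx

open Subgroup Cfsg.L0 Cfsg.H8 Cfsg.FT Cfsg.BS Cfsg.BS.R Cfsg.GS.T3
open scoped commutatorElement

variable {G : Type} [Group G] {S A S1 T R S2 H N X K : Subgroup G} {v k k' a b c g u w x y : G}

/-- the elements of `N(S₁) ∩ N(A)` acting trivially on `Ω₁(S₁)/A` -/
def G2 (A S1 : Subgroup G) : Subgroup G where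
  carrier := {g | g ∈ 𝒩 S1 ∧ g ∈ 𝒩 A ∧ ∀ x ∈ S1, x * x = 1 → g * x * g⁻¹ * x⁻¹ ∈ A}
  one_mem' := ⟨one_mem _, one_mem _, fun x _ _ => by simp⟩
  mul_mem' := fun {g g'} h h' => ⟨mul_mem h.1 h'.1, mul_mem h.2.1 h'.2.1, fun x hx h2 => by
    have := mul_mem (conj_mem_of_norm h.2.1 (h'.2.2 x hx h2)) (h.2.2 x hx h2)
    convert this using 1; group⟩
  inv_mem' := fun {g} h => ⟨inv_mem h.1, inv_mem h.2.1, fun x hx h2 => by
    have := conj_mem_of_norm' h.2.1 (inv_mem (h.2.2 x hx h2))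
    convert this using 1; group⟩

theorem card_orbit [Finite G] (Y : Subgroup G) (t : G) (s : Set G)
    (h : ∀ z, (∃ y ∈ Y, y * t * y⁻¹ = z) ↔ z ∈ s) : (𝒞₁ t).relIndex Y = s.ncard := by
  rw [← card_conj, ← Nat.card_coe_set_eq]
  exact Nat.card_congr (Equiv.subtypeEquivRight h)

theorem ncard_coset (v : G) (A : Subgroup G) : {z | v⁻¹ * z ∈ A}.ncard = ♯A := by
  rw [← Nat.card_coe_set_eq]
  exact Nat.card_congr ⟨fun z => ⟨v⁻¹ * z.1, z.2⟩, fun a => ⟨v * a.1, by simp⟩,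
    fun z => by simp, fun z => by simp⟩

theorem ncard_sharp [Finite G] (A : Subgroup G) : {z | z ∈ A ∧ z ≠ 1}.ncard = ♯A - 1 := by
  have := X.ncard_sdiff (bot_le : ⊥ ≤ A)
  rw [card_bot'] at this
  rw [← this]; congr 1

theorem exists_third [Finite G] (h : 3 ≤ ♯A) (a b : G) : ∃ c ∈ A, c ≠ a ∧ c ≠ b := by
  by_contra hc
  have : (A : Set G) ⊆ {a, b} := fun c h => by
    by_contra e
    simp only [Set.mem_insert_iff, Set.mem_singleton_iff, not_or] at e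
    exact hc ⟨c, h, e⟩
  have h1 := Set.ncard_le_ncard this
  have h2 := Set.ncard_insert_le a {b}
  rw [Set.ncard_singleton] at h2
  have : ♯A = (A : Set G).ncard := Nat.card_coe_set_eq _
  omega

namespace L1

variable (h : Loc1 A S1 T R v k)
include h

theorem kG : k ∈ G2 A S1 := ⟨kS h, kA h, fun _ => kV h⟩

theorem SG : S1 ≤ G2 A S1 := fun s hs => ⟨le_norm _ hs, cent_le_norm _ (ScA h hs), fun x hx h2 => by
  rw [mem_cent.1 (cen h hx h2) s hs]; simp⟩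

theorem conj_v (hg : g ∈ G2 A S1) : v⁻¹ * (g * v * g⁻¹) ∈ A := by
  have e := hg.2.2 v (vS h) (vv h)
  have := mem_cent.1 (AcS h e) v (vS h)
  rw [show g * v * g⁻¹ = g * v * g⁻¹ * v⁻¹ * v by group, ← this]
  simpa using e

theorem move (ha : a ∈ A) (hb : b ∈ A) (h1 : a ≠ 1) (h2 : b ≠ 1) :
    ∃ n : ℕ, k ^ n * (v * a) * (k ^ n)⁻¹ = v * b := by
  obtain ⟨n, hn⟩ := h.tr a ha b hb h1 h2
  refine ⟨n, ?_⟩
  rw [← hn, ← mul_assoc, ← mem_cent.1 (pow_mem h.kR n) v h.vR]; group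

theorem ri_a [Finite G] (ha : a ∈ A) (h1 : a ≠ 1) : (𝒞₁ a).relIndex (G2 A S1) = ♯A - 1 := by
  rw [← ncard_sharp]
  refine card_orbit _ _ _ fun z => ⟨?_, fun hz => ?_⟩
  · rintro ⟨y, hy, rfl⟩
    exact ⟨conj_mem_of_norm hy.2.1 ha, fun e => h1 (by simpa using e)⟩
  · obtain ⟨n, hn⟩ := h.tr a ha z hz.1 h1 hz.2
    exact ⟨_, pow_mem (kG h) n, hn⟩

theorem ri_v [Finite G] (a1 : All1 A) (h3 : 3 ≤ ♯A) : (𝒞₁ v).relIndex (G2 A S1) = ♯A := by
  rw [← ncard_coset v]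
  refine card_orbit _ _ _ fun z => ⟨?_, fun hz => ?_⟩
  · rintro ⟨y, hy, rfl⟩
    exact conj_v h hy
  · obtain ⟨c, hc, c1, c2⟩ := exists_third h3 1 (v⁻¹ * z)
    obtain ⟨T', R', k', h'⟩ := coset h a1 hc
    obtain ⟨n, hn⟩ := move h' (inv_mem hc) (mul_mem (inv_mem hc) hz) (inv_ne_one.2 c1)
      (fun e => c2 (inv_mul_eq_one.1 e))
    exact ⟨_, pow_mem (kG h') n, by simpa [mul_assoc] using hn⟩

theorem nC : G2 A S1 ≤ 𝒩 (G2 A S1 ⊓ 𝒞 A) :=
  le_norm_inf (le_norm _) (le_norm_cent fun _ h => h.2.1)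

/-- the case that `C₂` moves `v` -/
theorem caseA [Finite G] {e : ℕ} (he : ♯A = 2 ^ e) (hc : c ∈ G2 A S1 ⊓ 𝒞 A) (hv : c ∉ 𝒞₁ v) :
    ∃ S2 k', Loc2 A S1 T R S2 v k' := by
  have : Fact (Nat.Prime 2) := ⟨Nat.prime_two⟩
  set C := G2 A S1 ⊓ 𝒞 A with hC
  have on : ∀ a ∈ A, ∃ s ∈ C, s * v * s⁻¹ = v * a := fun a ha => by
    by_cases a1 : a = 1
    · exact ⟨1, one_mem _, by simp [a1]⟩
    obtain ⟨n, hn⟩ := move h (conj_v h hc.1) ha (fun e => hv (mem_cent1.2 (by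
      rw [inv_mul_eq_one] at e; exact mul_inv_eq_iff_eq_mul.1 e.symm))) a1
    refine ⟨_, conj_mem_of_norm (nC h (pow_mem (kG h) n)) hc, ?_⟩
    have e := mem_cent.1 (inv_mem (pow_mem h.kR n)) v h.vR
    rw [← hn]
    calc _ = k ^ n * c * ((k ^ n)⁻¹ * v) * k ^ n * c⁻¹ * (k ^ n)⁻¹ := by group
      _ = _ := by rw [← e]; group
  have ri : (𝒞₁ v).relIndex C = 2 ^ e := by
    rw [← he, ← ncard_coset v]
    refine card_orbit _ _ _ fun z => ⟨?_, fun hz => ?_⟩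
    · rintro ⟨y, hy, rfl⟩
      exact conj_v h hy.1
    · obtain ⟨s, hs, e⟩ := on _ hz
      exact ⟨s, hs, by simpa using e⟩
  obtain ⟨S2, hS, hle⟩ := exists_isSyl_ge h.syl.isPGroup (le_inf (SG h) (ScA h) : S1 ≤ C)
  have on2 : ∀ a ∈ A, ∃ s ∈ S2, s * v * s⁻¹ = v * a := fun a ha => by
    obtain ⟨s, hs, e⟩ := on a ha
    obtain ⟨x, hx, y, hy, rfl⟩ := exists_mul_of_cop_ri hS.le (inf_le_right : 𝒞₁ v ⊓ C ≤ C)
      (by rw [inf_relIndex_right, ri]; exact hS.coprime.pow_right _) hs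
    refine ⟨x, hx, ?_⟩
    rw [← e, mul_assoc x y, mem_cent1.1 hy.1]; group
  obtain ⟨c1, hc1, n, hn, e1⟩ := hS.frattini (nC h (kG h))
  have nG : n ∈ G2 A S1 := by
    rw [show n = c1⁻¹ * k by rw [e1]; group]; exact mul_mem (inv_mem hc1.1) (kG h)
  obtain ⟨s, hs, e2⟩ := on2 _ (conj_v h nG)
  rw [mul_inv_cancel_left] at e2
  set c2 := s⁻¹ * c1⁻¹ with hc2
  have c2C : c2 ∈ C := mul_mem (inv_mem (hS.le hs)) (inv_mem hc1)
  have e3 : c2 * k = s⁻¹ * n := by rw [hc2, e1]; group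
  have mv : c2 * k ∈ 𝒞₁ v := mem_cent1.2 (by
    rw [e3]
    calc _ = s⁻¹ * (n * v * n⁻¹) * n := by group
      _ = _ := by rw [← e2]; group)
  have kv' : k ∈ 𝒞₁ v := cent_le_cent1 h.vR h.kR
  have c2v : c2 ∈ 𝒞₁ v := ((𝒞₁ v).mul_mem_cancel_right kv').1 mv
  have c2S : c2 ∈ 𝒩 T ⊓ 𝒞 R := by
    obtain ⟨x, y, hx, hy, h1, h2, e⟩ := exists_pPart 2 c2
    have xS : x ∈ S1 := h.syl.mem_of_mem_normalizer (zpowers_le.2 c2v hx) h1
      (zpowers_le.2 c2C hx).1.1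
    have yC := zpowers_le.2 c2C hy
    have yS := odd_cent h (odd_of_cop2 h2) yC.1.1 yC.2 yC.1.2.2
    rw [e]
    exact mul_mem ⟨nT h xS, cent_symm (RcS h) xS⟩
      ⟨cent_le_norm _ (cent_anti (TS h) yS), cent_anti (RS h) yS⟩
  obtain ⟨x, y, hx, hy, h1, h2, e⟩ := exists_pPart 2 (c2 * k)
  have m1 : c2 * k ∈ 𝒩 T ⊓ 𝒞 R := mul_mem c2S ⟨h.kT, h.kR⟩
  have m2 : c2 * k ∈ 𝒩 S2 := e3 ▸ mul_mem (le_norm _ (inv_mem hs)) hn
  have xS : x ∈ S1 := h.syl.mem_of_mem_normalizer (zpowers_le.2 mv hx) h1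
    (zpowers_le.2 (mul_mem c2C.1 (kG h)) hx).1
  have act : ∀ a ∈ A, y * a * y⁻¹ = k * a * k⁻¹ := fun a ha => by
    have e4 := mem_cent.1 (mul_mem (inv_mem (ScA h xS)) c2C.2) _ (conj_mem_of_norm (kA h) ha)
    rw [show y = x⁻¹ * c2 * k by rw [mul_assoc, e]; group]
    calc _ = x⁻¹ * c2 * (k * a * k⁻¹) * (x⁻¹ * c2)⁻¹ := by group
      _ = _ := by rw [← e4]; group
  refine ⟨S2, y, { h with
    odd := odd_of_cop2 h2
    kT := (zpowers_le.2 m1 hy).1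
    tr := fun a ha b hb a1 b1 => ?_
    kR := (zpowers_le.2 m1 hy).2
    le := hle
    p2 := hS.isPGroup
    cA := hS.le.trans inf_le_right
    n1 := fun s hs => (hS.le hs).1.1
    kS := zpowers_le.2 m2 hy
    comm := fun s hs r hr => ?_
    onto := on2 }⟩
  · obtain ⟨n, hn⟩ := h.tr a ha b hb a1 b1
    exact ⟨n, by rw [pow_act (kA h) act n a ha, hn]⟩
  · have := inv_mem ((hS.le hs).1.2.2 r (RS h hr) (rr h hr))
    convert this using 1
    rw [commutatorElement_def]; group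

end L1

theorem five_dvd {e : ℕ} (h : Odd e) : 5 ∣ (2 ^ e) ^ 2 + 1 := by
  obtain ⟨m, rfl⟩ := h
  have : (2 ^ (2 * m + 1)) ^ 2 = 16 ^ m * 4 := by
    rw [show 16 ^ m = 2 ^ (4 * m) by rw [pow_mul]; norm_num]; ring
  rw [this, Nat.dvd_iff_mod_eq_zero, Nat.add_mod, Nat.mul_mod, Nat.pow_mod]; norm_num

theorem not_five_dvd {e : ℕ} (h : Odd e) : ¬ 5 ∣ 2 ^ e - 1 := by
  obtain ⟨m, rfl⟩ := h
  intro hd
  have h1 : 1 ≤ 2 ^ (2 * m + 1) := Nat.one_le_two_pow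
  have h2 : 2 ^ (2 * m + 1) = 4 ^ m * 2 := by rw [pow_succ, pow_mul]; norm_num
  have h3 : 4 ^ m % 5 = 1 ∨ 4 ^ m % 5 = 4 := by
    clear hd h1 h2
    induction m with
    | zero => simp
    | succ m ih => rw [pow_succ]; omega
  rw [h2] at hd h1
  omega

theorem caseB [Finite G] (h0 : K0) (hm : Mn S A) {e : ℕ} (ho : Odd e) (he : ♯A = 2 ^ e)
    (a1 : All1 A) (h : Loc1 A S1 T R v k) : ¬ G2 A S1 ⊓ 𝒞 A ≤ 𝒞₁ v := by
  intro hC
  have : Fact (Nat.Prime 2) := ⟨Nat.prime_two⟩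
  have h3 : 3 ≤ ♯A := by have := hm.big; omega
  obtain ⟨H, ⟨hH, hn, hd⟩, hmin⟩ := exists_min_card' (S := fun H => H ≤ G2 A S1 ∧ ¬ H ≤ 𝒞 A ∧
      ∀ X : Subgroup G, X.relIndex H ∣ X.relIndex (G2 A S1)) ⟨_, le_rfl, fun e => by
    obtain ⟨a, ha, a1, -⟩ := exists_third h3 1 1
    obtain ⟨b, hb, b1, b2⟩ := exists_third h3 1 a
    obtain ⟨n, hn⟩ := h.tr a ha b hb a1 b1
    rw [← mem_cent.1 (e (pow_mem (L1.kG h) n)) a ha] at hn
    exact b2 (by simpa using hn.symm), fun _ => dvd_rfl⟩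
  have HA : H ≤ 𝒩 A := fun _ h => (hH h).2.1
  obtain ⟨Q, _, _, f, hf, hk⟩ := exists_quo (K := H ⊓ 𝒞 A) (M := H)
    ⟨inf_le_left, le_norm_inf (le_norm _) (le_norm_cent HA)⟩
  have nt : Nontrivial Q := by
    by_contra e
    have : Subsingleton Q := not_nontrivial_iff_subsingleton.1 e
    refine hn fun x hx => ?_
    have : x ∈ up f ⊥ := mem_up.2 ⟨hx, Subsingleton.elim _ _⟩
    exact (hk ▸ this).2
  have sm : IsSimpleGroup Q := ⟨fun Y hY => by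
    by_cases c : up f Y ≤ 𝒞 A
    · exact Or.inl (le_bot_iff.1 ((up_le_up_iff hf).1 (hk ▸ le_inf (up_le f Y) c)))
    · have n : up f Y ⊴ H := ⟨up_le f Y, le_normalizer_up f Y⟩
      have := eq_of_card_le n.le (hmin _ ⟨n.le.trans hH, c,
        fun X => (ri_dvd_of_nrm n X).trans (hd X)⟩)
      exact Or.inr (up_injective hf (this.trans (up_top f).symm))⟩
  obtain ⟨a, ha, hx⟩ : ∃ a ∈ A, ¬ H ≤ 𝒞₁ a := by
    by_contra c
    exact hn (cent_symm (le_cent_of_forall fun a ha => by_contra fun e => c ⟨a, ha, e⟩))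
  have a0 : a ≠ 1 := fun e => hx (by rw [e, cent1_one]; exact le_top)
  have d1 := hd (𝒞₁ a)
  rw [L1.ri_a h ha a0, he] at d1
  have kc : (H ⊓ 𝒞 A).relIndex H = Nat.card Q := by
    rw [← hk, ← card_down f le_rfl, down_top hf, Subgroup.card_top]
  by_cases c : IsMulCommutative Q
  · have hp : (Nat.card Q).Prime := by
      let _ : CommGroup Q := { mul_comm := c.is_comm.comm }
      exact IsSimpleGroup.prime_card
    have key : ∀ u, ¬ H ≤ 𝒞₁ u → H ⊓ 𝒞 A ≤ 𝒞₁ u → (𝒞₁ u).relIndex H = Nat.card Q :=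
      fun u h1 h2 => ((Nat.dvd_prime hp).1 (kc ▸ ri_dvd_of_le_left h2 H)).resolve_left
        fun e => h1 (relIndex_eq_one.1 e)
    rw [key a hx (inf_le_right.trans (cent_le_cent1 ha))] at d1
    have d2 : Nat.card Q ∣ 2 ^ e := by
      have hv : H ⊓ 𝒞 A ≤ 𝒞₁ v := (inf_le_inf_right _ hH).trans hC
      by_cases c2 : H ≤ 𝒞₁ v
      · obtain ⟨T', R', k', h'⟩ := L1.coset h a1 ha
        rw [← he, ← L1.ri_v h' a1 h3, ← key (v * a) (fun e => hx fun x hx => mem_cent1.2 ?_)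
          fun x hx => mem_cent1.2 ?_]
        · exact hd _
        · have e1 := mem_cent1.1 (e hx)
          rw [← mul_assoc, mem_cent1.1 (c2 hx), mul_assoc, mul_assoc] at e1
          exact mul_left_cancel e1
        · rw [← mul_assoc, mem_cent1.1 (hv hx), mul_assoc, mul_assoc, mem_cent.1 hx.2 a ha]
      · rw [← he, ← L1.ri_v h a1 h3, ← key v c2 hv]; exact hd _
    have := (Nat.dvd_sub d2 d1)
    rw [Nat.sub_sub_self Nat.one_le_two_pow] at this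
    exact hp.one_lt.ne' (Nat.dvd_one.1 this)
  · have Ht : H ≠ ⊤ := by
      rintro rfl
      have : A.Normal := nrm_top_iff.1 ⟨le_top, HA⟩
      have := hm.simple
      rcases IsSimpleGroup.eq_bot_or_eq_top_of_normal A inferInstance with e | e
      · exact a0 (eq_one_of_mem e ha)
      · exact hn (by have := hm.elem.abel; rw [e] at this ⊢; exact this)
    obtain ⟨F, _, _, m, h1, h2, ⟨e0⟩⟩ := hm.ih H Ht Q (involves_of_surjective hf) sm c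
    set X := down f (H ⊓ 𝒞₁ a)
    have hX : X.relIndex ⊤ = (𝒞₁ a).relIndex H := by
      rw [← down_top hf, ri_down inf_le_left le_rfl
        (hk ▸ inf_le_inf_left _ (cent_le_cent1 ha)), inf_relIndex_left]
    obtain ⟨T0, hT⟩ := exists_isSyl 2 X
    have e1 : 1 ≤ e := ho.pos
    obtain ⟨k0, hs⟩ := h0 Q ⊤ T0 ⟨F, _, _, m, h1, h2, ⟨topEquiv.trans e0⟩⟩
      (hT.trans le_top fun d => by
        have := (hX ▸ d).trans d1
        have : 2 ∣ 2 ^ e := dvd_pow_self 2 (by omega)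
        have : 1 ≤ 2 ^ e := Nat.one_le_two_pow
        omega)
    rcases hs.mx X hT.le le_top with c | c
    · obtain ⟨e', h4, -, h5⟩ := hs.deg
      have := ri_dvd_of_le_left c ⊤
      rw [hs.idx, h5, hX] at this
      exact not_five_dvd ho ((five_dvd h4).trans (this.trans d1))
    · rw [c, relIndex_self] at hX
      exact hx (relIndex_eq_one.1 hX.symm)

end Cfsg.GS.Bx

namespace Cfsg.GS.T3

open Cfsg.GS.Bx

theorem taskL2 (h0 : K0) : TaskL2 := by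
  intro G _ _ S A hm ⟨e, ho, he⟩ a1 v S1 h1 h2 h3 h4 h5
  obtain ⟨T, R, k, h⟩ := a1 v S1 h1 h2 h3 h4 h5
  obtain ⟨c, hc, hv⟩ := SetLike.not_le_iff_exists.1 (caseB h0 hm ho he a1 h)
  obtain ⟨S2, k', h'⟩ := L1.caseA h he hc hv
  exact ⟨T, R, S2, k', h'⟩

end Cfsg.GS.T3
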