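import Cfsg.Agent.GS.B2
import Cfsg.Agent.BS.H1

/-! Task L3 of `GS/T3`, part 1: a fixed singular vector (Chevalley-Warning), and the abstract
setting: `P/A` elementary abelian, `A` central in `P`. -/

set_option autoImplicit false
set_option linter.style.haveILetI false

namespace Cfsg.GS.Cx

open Subgroup Cfsg.L0 Cfsg.H8 Cfsg.FT Cfsg.BS Cfsg.BS.R Cfsg.GS.T3 Cfsg.GS.Bx

open Module Hig in
theorem cw_fix {V W : Type} [AddCommGroup V] [AddCommGroup W] [Finite V] [Finite W]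
    (hV : ∀ v : V, v + v = 0) (hW : ∀ w : W, w + w = 0) {N : V → W} {B : V → V → W} (h : Biadd B)
    (hN : ∀ x y, N (x + y) = N x + N y + B x y) (N0 : N 0 = 0)
    (hlt : Nat.card W ^ 2 < Nat.card V) {σ : V → V} (hσ : ∀ x, σ (σ x) = x) (σ0 : σ 0 = 0)
    (hz : ∀ x, N x = 0 → N (σ x) = 0) : ∃ x, x ≠ 0 ∧ N x = 0 ∧ σ x = x := by
  classical
  letI : Module (ZMod 2) V := AddCommGroup.zmodModule fun v => by rw [two_nsmul, hV]
  letI : Module (ZMod 2) W := AddCommGroup.zmodModule fun v => by rw [two_nsmul, hW]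
  have two : ∀ a : ZMod 2, a = 0 ∨ a = 1 := by decide
  have pol : ∀ x y, QuadraticMap.polar N x y = B x y := fun x y => by
    rw [QuadraticMap.polar, hN]; abel
  let Q : QuadraticMap (ZMod 2) V W := QuadraticMap.ofPolar N
    (fun a x => by rcases two a with rfl | rfl <;> simp [N0]) (fun x x' y => by simp [pol, h.l])
    fun a x y => by rcases two a with rfl | rfl <;> simp [pol, h.zl]
  let b := finBasis (ZMod 2) V
  let c := finBasis (ZMod 2) W
  let L := Q.toBilin b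
  have hL : ∀ x, N x = L x x := fun x =>
    (DFunLike.congr_fun (Q.toQuadraticMap_toBilin b) x).symm
  let f : Fin (finrank (ZMod 2) W) → MvPolynomial (Fin (finrank (ZMod 2) V)) (ZMod 2) := fun j =>
    ∑ i, ∑ k, MvPolynomial.C (c.repr (L (b i) (b k)) j) * (MvPolynomial.X i * MvPolynomial.X k)
  have hf : ∀ j, (f j).totalDegree ≤ 2 := fun j =>
    MvPolynomial.totalDegree_finsetSum_le fun i _ => MvPolynomial.totalDegree_finsetSum_le
      fun k _ => (MvPolynomial.totalDegree_mul _ _).trans (by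
        have := MvPolynomial.totalDegree_mul (MvPolynomial.X (R := ZMod 2) i) (MvPolynomial.X k)
        simpa using this)
  have ev : ∀ x j, MvPolynomial.eval x (f j) = c.repr (N (b.equivFun.symm x)) j := fun x j => by
    rw [hL, Basis.equivFun_symm_apply]
    simp only [f, map_sum, map_mul, MvPolynomial.eval_C, MvPolynomial.eval_X, map_smul,
      LinearMap.sum_apply, LinearMap.smul_apply, Finsupp.finsetSum_apply, Finsupp.smul_apply,
      smul_eq_mul, Finset.mul_sum]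
    rw [Finset.sum_comm]
    exact Finset.sum_congr rfl fun i _ => Finset.sum_congr rfl fun k _ => by ring
  rw [natCard_eq_pow_finrank (K := ZMod 2) (V := V), natCard_eq_pow_finrank (K := ZMod 2) (V := W),
    ← pow_mul] at hlt
  have hlt' := (Nat.pow_lt_pow_iff_right (by simp)).1 hlt
  have hd := char_dvd_card_solutions_of_fintype_sum_lt 2 (f := f)
    (lt_of_le_of_lt (Finset.sum_le_sum fun j _ => hf j) (by simpa using hlt'))
  letI := Fintype.ofFinite V
  have e : { x // ∀ i, MvPolynomial.eval x (f i) = 0 } ≃ {x // N x = 0} :=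
    b.equivFun.symm.toEquiv.subtypeEquiv fun x => ⟨fun h => c.repr.injective (by
      ext j; have := h j; rw [ev] at this; simpa using this), fun h j => by
        rw [ev, show N (b.equivFun.symm x) = 0 from h]; simp⟩
  have h2 : 2 ∣ Fintype.card {x // N x = 0} := by
    rw [← Nat.card_eq_fintype_card, ← Nat.card_congr e, Nat.card_eq_fintype_card]
    convert hd
  let τ : {x // N x = 0} → {x // N x = 0} := fun x => ⟨σ x.1, hz _ x.2⟩
  have hτ : Function.Involutive τ := fun x => Subtype.ext (hσ _)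
  haveI : Fact (Nat.Prime 2) := ⟨Nat.prime_two⟩
  obtain ⟨x, h3, h4⟩ := Equiv.Perm.exists_fixed_point_of_prime' (n := 1) h2 (σ := hτ.toPerm τ)
    (by ext x; simp [sq, hτ x]) (a := ⟨0, N0⟩) (Subtype.ext σ0)
  exact ⟨x.1, fun e => h4 (Subtype.ext e), x.2, congrArg Subtype.val h3⟩

variable {G : Type} [Group G] {A P Y S N : Subgroup G} {s k a b d g u v x y z : G}

theorem comm_of_conj_eq (h : x * s * x⁻¹ = y * s * y⁻¹) : x⁻¹ * y * s = s * (x⁻¹ * y) := by
  calc _ = x⁻¹ * (y * s * y⁻¹) * y := by group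
    _ = _ := by rw [← h]; group

theorem comm_of_c (h : x * y * x⁻¹ * y⁻¹ = 1) : x * y = y * x := by
  calc _ = x * y * x⁻¹ * y⁻¹ * (y * x) := by group
    _ = _ := by rw [h, one_mul]

theorem conj_comm (g : G) (h : x * y = y * x) :
    g * x * g⁻¹ * (g * y * g⁻¹) = g * y * g⁻¹ * (g * x * g⁻¹) := by
  calc _ = g * (x * y) * g⁻¹ := by group
    _ = _ := by rw [h]; group

theorem conj_sq (g : G) (h : x * x = 1) : g * x * g⁻¹ * (g * x * g⁻¹) = 1 := by
  calc _ = g * (x * x) * g⁻¹ := by group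
    _ = _ := by rw [h]; group

theorem inv_of_sq (h : x * x = 1) : x⁻¹ = x := inv_eq_of_mul_eq_one_right h

theorem odd_fix4 (ho : Odd (orderOf b)) (hc : b * (b * x * b⁻¹ * x⁻¹) = b * x * b⁻¹ * x⁻¹ * b)
    (hw : (b * x * b⁻¹ * x⁻¹) ^ 4 = 1) : b * x = x * b := by
  have e := pow_conj_eq (show b * x * b⁻¹ = b * x * b⁻¹ * x⁻¹ * x by group) hc (orderOf b)
  rw [pow_orderOf_eq_one, one_mul, inv_one, mul_one, right_eq_mul] at e
  exact comm_of_c (eq_one_of_pow_coprime (show Nat.Coprime 4 (orderOf b) from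
    (Nat.coprime_two_left.2 ho).pow_left 2) hw e)

/-- `P/A` is elementary abelian, `A` is elementary abelian and central in `P` -/
structure PA (A P : Subgroup G) : Prop where
  pg : IsPGroup 2 P
  le : A ≤ P
  cA : P ≤ 𝒞 A
  one : ∀ a ∈ A, a * a = 1
  sq : ∀ x ∈ P, x * x ∈ A

namespace PA

variable (h : PA A P)
include h

theorem cm (ha : a ∈ A) (hx : x ∈ P) : a * x = x * a := mem_cent.1 (h.cA hx) a ha

theorem cj (ha : a ∈ A) (hx : x ∈ P) : x * a * x⁻¹ = a := by rw [← h.cm ha hx]; group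

theorem c (hx : x ∈ P) (hy : y ∈ P) : x * y * x⁻¹ * y⁻¹ ∈ A := by
  have e := h.cj (h.sq _ (inv_mem hx)) (inv_mem hy)
  have := mul_mem (mul_mem (h.sq _ (mul_mem hx hy)) (h.sq _ (inv_mem hx))) (h.sq _ (inv_mem hy))
  rw [← e] at this
  convert this using 1; group

theorem p4 (hx : x ∈ P) : x ^ 4 = 1 := by
  rw [← h.one _ (h.sq x hx)]; simp [pow_succ, mul_assoc]

theorem sqa (ha : a ∈ A) (hx : x ∈ P) : a * x * (a * x) = x * x := by
  calc _ = a * (x * a) * x := by group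
    _ = a * a * (x * x) := by rw [← h.cm ha hx]; group
    _ = _ := by rw [h.one a ha, one_mul]

theorem ca (ha : a ∈ A) (hb : b ∈ A) (hx : x ∈ P) (hy : y ∈ P) :
    a * x * (b * y) * (a * x)⁻¹ * (b * y)⁻¹ = x * y * x⁻¹ * y⁻¹ := by
  have e1 := h.cj ha (mul_mem (mul_mem (mul_mem hx (h.le hb)) hy) (inv_mem hx))
  have e2 := h.cj hb hx
  have e3 := h.cj (h.c hx hy) (h.le hb)
  calc _ = a * (x * b * y * x⁻¹ * a * (x * b * y * x⁻¹)⁻¹)⁻¹ * (x * b * x⁻¹) *
        (x * y * x⁻¹ * y⁻¹) * b⁻¹ := by group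
    _ = _ := by rw [e1, e2]; refine Eq.trans ?_ e3; group

/-- an element acting trivially on `x` and `y` modulo `A` centralizes their commutator -/
theorem fixc (hx : x ∈ P) (hy : y ∈ P) (h1 : g * x * g⁻¹ * x⁻¹ ∈ A) (h2 : g * y * g⁻¹ * y⁻¹ ∈ A) :
    g * (x * y * x⁻¹ * y⁻¹) = x * y * x⁻¹ * y⁻¹ * g := by
  rw [← mul_inv_eq_iff_eq_mul]; refine Eq.trans ?_ (h.ca h1 h2 hx hy); group

theorem fixs (hx : x ∈ P) (h1 : g * x * g⁻¹ * x⁻¹ ∈ A) : g * (x * x) = x * x * g := by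
  rw [← mul_inv_eq_iff_eq_mul]; refine Eq.trans ?_ (h.sqa h1 hx); group

theorem sqm (hx : x ∈ P) (hy : y ∈ P) :
    x * y * (x * y) = x * x * (y * y) * (x * y * x⁻¹ * y⁻¹) := by
  have e1 := h.cj (h.c hy hx) hx
  have e2 := h.cm (h.c hx hy) (mul_mem (mul_mem hx hx) (mul_mem hy hy))
  have e3 := inv_of_sq (h.one _ (h.c hx hy))
  rw [← e2, ← e3, show (x * y * x⁻¹ * y⁻¹)⁻¹ = y * x * y⁻¹ * x⁻¹ by group, ← e1]; group

theorem cl (hx : x ∈ P) (hy : y ∈ P) (hz : z ∈ P) :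
    x * y * z * (x * y)⁻¹ * z⁻¹ = x * z * x⁻¹ * z⁻¹ * (y * z * y⁻¹ * z⁻¹) := by
  rw [← h.cm (h.c hy hz) (h.le (h.c hx hz)), ← h.cj (h.c hy hz) hx]; group

theorem cr (hx : x ∈ P) (hy : y ∈ P) (hz : z ∈ P) :
    x * (y * z) * x⁻¹ * (y * z)⁻¹ = x * y * x⁻¹ * y⁻¹ * (x * z * x⁻¹ * z⁻¹) := by
  rw [← h.cj (h.c hx hz) hy]; group

theorem fix_sing [Finite G] (hc : ♯A ^ 3 < ♯P) (hP : g ∈ 𝒩 P) (hA : g ∈ 𝒩 A) (h2 : g * g ∈ P) :
    ∃ s ∈ P, s ∉ A ∧ s * s = 1 ∧ g * s * g⁻¹ * s⁻¹ ∈ A := by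
  obtain ⟨Q, _, _, f, hf, hk⟩ := exists_quo (K := A) (M := P) ⟨h.le, le_norm_of_le_cent h.cA⟩
  have k1 : ∀ x : P, f x = 1 ↔ x.1 ∈ A := fun x => by rw [← hk, coe_mem_up, mem_bot]
  have k2 : ∀ x y : P, f x = f y ↔ x.1 * y.1⁻¹ ∈ A := fun x y => by
    rw [← mul_inv_eq_one, ← map_inv, ← map_mul, k1]; rfl
  have cQ : ∀ x y : Q, x * y = y * x := fun x y => by
    obtain ⟨x, rfl⟩ := hf x
    obtain ⟨y, rfl⟩ := hf y
    rw [← map_mul, ← map_mul, k2]
    simpa [mul_assoc] using h.c x.2 y.2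
  letI : CommGroup Q := { mul_comm := cQ }
  letI : CommGroup A := { mul_comm := fun x y => Subtype.ext (h.cm x.2 (h.le y.2)) }
  choose r hr using hf
  have k3 : ∀ x : P, ∃ a ∈ A, (r (f x)).1 = a * x := fun x => ⟨_, (k2 _ x).1 (hr _), by group⟩
  let N : Additive Q → Additive A := fun y =>
    Additive.ofMul ⟨(r y.toMul).1 * (r y.toMul).1, h.sq _ (r _).2⟩
  let B : Additive Q → Additive Q → Additive A := fun y z =>
    Additive.ofMul ⟨_, h.c (r y.toMul).2 (r z.toMul).2⟩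
  let σ : Additive Q → Additive Q := fun y =>
    Additive.ofMul (f ⟨_, conj_mem_of_norm hP (r y.toMul).2⟩)
  have hN : ∀ x : P, N (Additive.ofMul (f x)) = Additive.ofMul ⟨_, h.sq _ x.2⟩ := fun x => by
    obtain ⟨a, ha, e⟩ := k3 x
    exact congrArg Additive.ofMul (Subtype.ext (by simp only [toMul_ofMul, e, h.sqa ha x.2]))
  have hB : ∀ x y : P, B (Additive.ofMul (f x)) (Additive.ofMul (f y)) =
      Additive.ofMul ⟨_, h.c x.2 y.2⟩ := fun x y => by
    obtain ⟨a, ha, e⟩ := k3 x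
    obtain ⟨b, hb, e'⟩ := k3 y
    exact congrArg Additive.ofMul (Subtype.ext (by
      simp only [toMul_ofMul, e, e', h.ca ha hb x.2 y.2]))
  have hσ : ∀ x : P, σ (Additive.ofMul (f x)) =
      Additive.ofMul (f ⟨_, conj_mem_of_norm hP x.2⟩) := fun x => by
    obtain ⟨a, ha, e⟩ := k3 x
    refine congrArg Additive.ofMul ((k2 _ _).2 ?_)
    simp only [toMul_ofMul, e]
    convert conj_mem_of_norm hA ha using 1; group
  have all : ∀ y : Additive Q, ∃ x : P, y = Additive.ofMul (f x) := fun y => ⟨r y.toMul, by simp [hr]⟩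
  have cq : ♯A * Nat.card Q = ♯P := by
    have := card_down_mul' (f := f) le_rfl (hk ▸ h.le)
    rwa [hk, down_top fun y => ⟨r y, hr y⟩, Subgroup.card_top] at this
  obtain ⟨y, h3, h4, h5⟩ := cw_fix (N := N) (B := B) (σ := σ) (fun y => by
      obtain ⟨x, rfl⟩ := all y
      rw [← ofMul_mul, ← map_mul, (k1 _).2 (h.sq _ x.2), ofMul_one])
    (fun a => congrArg Additive.ofMul (Subtype.ext (h.one _ a.toMul.2)))
    ⟨fun x y z => by
      obtain ⟨x, rfl⟩ := all x
      obtain ⟨y, rfl⟩ := all y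
      obtain ⟨z, rfl⟩ := all z
      rw [← ofMul_mul, ← map_mul, hB, hB, hB, ← ofMul_mul]
      exact congrArg Additive.ofMul (Subtype.ext (h.cl x.2 y.2 z.2)), fun x y z => by
      obtain ⟨x, rfl⟩ := all x
      obtain ⟨y, rfl⟩ := all y
      obtain ⟨z, rfl⟩ := all z
      rw [← ofMul_mul, ← map_mul, hB, hB, hB, ← ofMul_mul]
      exact congrArg Additive.ofMul (Subtype.ext (h.cr x.2 y.2 z.2))⟩
    (fun x y => by
      obtain ⟨x, rfl⟩ := all x
      obtain ⟨y, rfl⟩ := all y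
      rw [← ofMul_mul, ← map_mul, hB, hN, hN, hN, ← ofMul_mul, ← ofMul_mul]
      exact congrArg Additive.ofMul (Subtype.ext (h.sqm x.2 y.2)))
    (by rw [← ofMul_one, ← map_one f, hN]; exact congrArg Additive.ofMul (Subtype.ext (by simp)))
    (by
      rw [← cq, pow_succ', Nat.mul_lt_mul_left (card_pos' A)] at hc
      exact hc)
    (fun y => by
      obtain ⟨x, rfl⟩ := all y
      rw [hσ x, hσ]
      refine congrArg Additive.ofMul ((k2 _ _).2 ?_)
      convert h.c h2 x.2 using 1; group)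
    (by
      rw [← ofMul_one, ← map_one f, hσ]
      exact congrArg Additive.ofMul ((k2 _ _).2 (by simp)))
    fun y e => by
      obtain ⟨x, rfl⟩ := all y
      rw [hN] at e
      rw [hσ, hN]
      exact congrArg Additive.ofMul (Subtype.ext (conj_sq g (congrArg Subtype.val
        (Additive.ofMul.injective e))))
  obtain ⟨x, rfl⟩ := all y
  rw [hN] at h4
  rw [hσ] at h5
  exact ⟨x, x.2, fun e => h3 (by rw [(k1 x).2 e, ofMul_one]),
    congrArg Subtype.val (Additive.ofMul.injective h4), (k2 _ _).1 (Additive.ofMul.injective h5)⟩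

end PA

end Cfsg.GS.Cx
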