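import Cfsg.Agent.GS.C1

/-! Task L3 of `GS/T3`, part 2: the local data at an involution of `P \ A`. -/

set_option autoImplicit false

namespace Cfsg.GS.Cx

open Subgroup Cfsg.L0 Cfsg.H8 Cfsg.FT Cfsg.BS Cfsg.BS.R Cfsg.GS.T3 Cfsg.GS.Bx

variable {G : Type} [Group G] {A P Y S V N : Subgroup G} {s k a b d g u v x y z : G}

theorem ri_eq_of_fib {β : Type} (φ : S → β) (hφ : Function.Surjective φ)
    (h : ∀ x y : S, φ x = φ y ↔ x.1⁻¹ * y.1 ∈ V) : V.relIndex S = Nat.card β := by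
  refine Nat.card_congr ((Quotient.congrRight fun x y => ?_).trans
    (Setoid.quotientKerEquivOfSurjective φ hφ))
  rw [QuotientGroup.leftRel_apply, Setoid.ker_def, h]; rfl

theorem comm_of_c_eq (h : z * u * z⁻¹ * u⁻¹ = z * v * z⁻¹ * v⁻¹) :
    z * (u⁻¹ * v) = u⁻¹ * v * z := (comm_of_conj_eq (by
  calc u * z * u⁻¹ = (z * u * z⁻¹ * u⁻¹)⁻¹ * z := by group
    _ = _ := by rw [h]; group)).symm

theorem conj_G2 (h1 : g ∈ 𝒩 S) (h2 : g ∈ 𝒩 A) (h : y ∈ G2 A S) : g * y * g⁻¹ ∈ G2 A S :=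
  ⟨mul_mem (mul_mem h1 h.1) (inv_mem h1), mul_mem (mul_mem h2 h.2.1) (inv_mem h2), fun x hx e => by
    have := conj_mem_of_norm h2 (h.2.2 _ (conj_mem_of_norm' h1 hx)
      (by simpa using conj_sq g⁻¹ e))
    convert this using 1; group⟩

/-- the local data at the involution `s` -/
structure LP (A P : Subgroup G) (s k : G) : Prop where
  sP : s ∈ P
  sA : s ∉ A
  ss : s * s = 1
  cV : ∀ u ∈ P ⊓ 𝒞₁ s, u * u = 1 → u ∈ 𝒞 (P ⊓ 𝒞₁ s)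
  onto : ∀ a ∈ A, ∃ x ∈ P, x * s * x⁻¹ = s * a
  inj : ∀ x ∈ P ⊓ 𝒞₁ s, ∀ y ∈ P ⊓ 𝒞₁ s, x * x = y * y → x * y⁻¹ * (x * y⁻¹) = 1
  ex : ∀ a ∈ A, ∃ x ∈ P ⊓ 𝒞₁ s, x * x = a
  cen : ∀ x ∈ P ⊓ 𝒞₁ s, ∀ y ∈ P ⊓ 𝒞₁ s, x * x ≠ 1 → x * y = y * x →
    y * y = 1 ∨ x * y⁻¹ * (x * y⁻¹) = 1
  kP : k ∈ 𝒩 P
  kA : k ∈ 𝒩 A
  tr : ∀ a ∈ A, ∀ b ∈ A, a ≠ 1 → b ≠ 1 → ∃ n : ℕ, k ^ n * a * (k ^ n)⁻¹ = b
  kV : ∀ u ∈ P ⊓ 𝒞₁ s, u * u = 1 → k * u * k⁻¹ * u⁻¹ ∈ A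

/-- the involutions commuting with `s` -/
def Vx (P : Subgroup G) (s : G) : Subgroup G := Om 2 (𝒵 (P ⊓ 𝒞₁ s))

theorem nV (h : g ∈ 𝒩 (P ⊓ 𝒞₁ s)) : g ∈ 𝒩 (Vx P s) := norm_le_norm_Om _ _ (norm_le_norm_ctr _ h)

theorem PA.AS (h : PA A P) (hs : s ∈ P) : A ≤ P ⊓ 𝒞₁ s := fun _ ha => ⟨h.le ha, mem_cent1.2 (h.cm ha hs)⟩

theorem PA.nS [Finite G] (h : PA A P) (hg : g ∈ 𝒩 P) (h1 : g * s * g⁻¹ * s⁻¹ ∈ A) :
    g ∈ 𝒩 (P ⊓ 𝒞₁ s) := mem_normalizer_of_forall fun x hx => by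
  have h2 := conj_mem_of_norm hg hx.1
  refine ⟨h2, mem_cent1.2 ?_⟩
  have e1 := conj_comm g (mem_cent1.1 hx.2)
  have e2 := h.cm (inv_mem h1) h2
  calc _ = g * x * g⁻¹ * (g * s * g⁻¹ * s⁻¹)⁻¹ * (g * s * g⁻¹) := by group
    _ = (g * s * g⁻¹ * s⁻¹)⁻¹ * (g * x * g⁻¹ * (g * s * g⁻¹)) := by rw [← e2]; group
    _ = _ := by rw [e1]; group

namespace LP

variable (h : LP A P s k)
include h

theorem sS : s ∈ P ⊓ 𝒞₁ s := ⟨h.sP, self_mem_cent1 s⟩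

theorem memV : u ∈ Vx P s ↔ u ∈ P ⊓ 𝒞₁ s ∧ u * u = 1 := by
  rw [Vx, (abel_ctr _).mem_Om, sq]
  exact ⟨fun e => ⟨e.1.1, e.2⟩, fun e => ⟨⟨e.1, h.cV u e.1 e.2⟩, e.2⟩⟩

theorem sV : s ∈ Vx P s := h.memV.2 ⟨h.sS, h.ss⟩

theorem VS : Vx P s ≤ P ⊓ 𝒞₁ s := fun _ e => (h.memV.1 e).1

theorem cm (hu : u ∈ Vx P s) (hx : x ∈ P ⊓ 𝒞₁ s) : x * u = u * x :=
  mem_cent.1 (h.cV u (h.memV.1 hu).1 (h.memV.1 hu).2) x hx

theorem AV (hp : PA A P) : A ≤ Vx P s := fun a ha => h.memV.2 ⟨hp.AS h.sP ha, hp.one a ha⟩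

theorem kG [Finite G] (hp : PA A P) : zpowers k ≤ G2 A (P ⊓ 𝒞₁ s) :=
  zpowers_le.2 ⟨hp.nS h.kP (h.kV s h.sS h.ss), h.kA, h.kV⟩

theorem cardP [Finite G] (hp : PA A P) : ♯P = ♯A * (♯A * ♯(Vx P s)) := by
  have e1 : (𝒞₁ s).relIndex P = ♯A := by
    rw [← ncard_coset s]
    refine card_orbit _ _ _ fun z => ⟨?_, fun hz => ?_⟩
    · rintro ⟨y, hy, rfl⟩
      have := hp.c (inv_mem h.sP) hy
      rw [← hp.cj this hy] at this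
      show _ ∈ A
      have := hp.c (inv_mem h.sP) hy
      convert this using 1; group
    · obtain ⟨x, hx, e⟩ := h.onto _ hz
      exact ⟨x, hx, by simpa using e⟩
  have e2 : (Vx P s).relIndex (P ⊓ 𝒞₁ s) = ♯A :=
    ri_eq_of_fib (fun x => (⟨x.1 * x.1, hp.sq _ x.2.1⟩ : A)) (fun a => by
      obtain ⟨x, hx, e⟩ := h.ex a a.2
      exact ⟨⟨x, hx⟩, Subtype.ext e⟩) fun x y => ⟨fun e => by
        refine h.memV.2 ⟨mul_mem (inv_mem x.2) y.2, ?_⟩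
        simpa using h.inj _ (inv_mem x.2) _ (inv_mem y.2) (by
          rw [← mul_inv_rev, ← mul_inv_rev]; exact congrArg (·⁻¹) (congrArg Subtype.val e)),
      fun e => Subtype.ext (by
        have e1 := h.cm e x.2
        have e2 := (h.memV.1 e).2
        calc x.1 * x.1 = x.1 * x.1 * (x.1⁻¹ * y.1 * (x.1⁻¹ * y.1)) := by rw [e2, mul_one]
          _ = x.1 * (x.1 * (x.1⁻¹ * y.1)) * (x.1⁻¹ * y.1) := by group
          _ = y.1 * y.1 := by rw [e1]; group)⟩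
  rw [← card_inf_mul_ri (𝒞₁ s) P, e1, inf_comm, ← card_mul_ri h.VS, e2]; ring

theorem ltV [Finite G] (hp : PA A P) : A < Vx P s :=
  lt_of_le_of_ne (h.AV hp) fun e => h.sA (e ▸ h.sV)

theorem notS (hp : PA A P) (ha : a ∈ A) (h1 : a ≠ 1) :
    ∃ z ∈ P, z ∉ P ⊓ 𝒞₁ s := by
  obtain ⟨z, hz, e⟩ := h.onto a ha
  refine ⟨z, hz, fun c => h1 ?_⟩
  rw [mem_cent1.1 c.2] at e
  simpa using e.symm

theorem shift (hp : PA A P) (hA : y ∈ 𝒞 A) (hz : z ∈ P) (hu : u ∈ Vx P s)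
    (hu' : y * u * y⁻¹ ∈ Vx P s) (e : y * z * y⁻¹ * z⁻¹ ∈ P ⊓ 𝒞₁ s) :
    z * (u⁻¹ * (y * u * y⁻¹)) = u⁻¹ * (y * u * y⁻¹) * z := by
  have e4 := mem_cent.1 hA _ (hp.c hz (h.VS hu).1)
  have e5 := hp.cl e.1 hz (h.VS hu').1
  rw [h.cm hu' e] at e5
  refine comm_of_c_eq ?_
  calc _ = y * (z * u * z⁻¹ * u⁻¹) * y⁻¹ := by rw [← e4]; group
    _ = y * z * y⁻¹ * z⁻¹ * z * (y * u * y⁻¹) * (y * z * y⁻¹ * z⁻¹ * z)⁻¹ *
        (y * u * y⁻¹)⁻¹ := by group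
    _ = _ := by rw [e5]; group

end LP

/-- the abstract setting -/
structure EP (A P Y : Subgroup G) : Prop extends PA A P where
  big : 8 ≤ ♯A
  odd : Odd ♯Y
  sol : Sol Y
  nP : Y ≤ 𝒩 P
  nA : Y ≤ 𝒩 A
  loc : ∀ s ∈ P, s ∉ A → s * s = 1 → ∃ k ∈ Y, LP A P s k
  two : ∃ v ∈ P, ∃ z ∈ P, v * v = 1 ∧ z * z = 1 ∧ v * z ≠ z * v

namespace EP

variable [Finite G] (h : EP A P Y)
include h

omit [Finite G] in
theorem eqS (l : LP A P s k) (hu : u ∈ Vx P s) (uA : u ∉ A) (hx : x ∈ P) (e : x * u = u * x) :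
    x ∈ P ⊓ 𝒞₁ s := by
  obtain ⟨k', -, l'⟩ := h.loc u (l.VS hu).1 uA (l.memV.1 hu).2
  exact ⟨hx, mem_cent1.2 (l'.cm (l'.memV.2 ⟨⟨l.sP, mem_cent1_comm.1 (l.VS hu).2⟩, l.ss⟩)
    ⟨hx, mem_cent1.2 e⟩)⟩

theorem exA : ∃ a ∈ A, a ≠ 1 := by
  obtain ⟨a, ha, h1, -⟩ := exists_third (A := A) (by have := h.big; omega) 1 1
  exact ⟨a, ha, h1⟩

theorem cent_of (l : LP A P s k) (hy : y ∈ Y) (hA : y ∈ 𝒞 A) (hs : y * s * y⁻¹ * s⁻¹ ∈ A) :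
    y ∈ 𝒞 P := by
  have ho := odd_of_mem h.odd hy
  have f0 : ∀ x, y * x * y⁻¹ * x⁻¹ ∈ A → y * x = x * y := fun x hx =>
    odd_fix ho rfl (mem_cent.1 hA _ hx).symm (h.one _ hx)
  have e0 := f0 s hs
  have nS := h.toPA.nS (h.nP hy) hs
  have e1 : ∀ x ∈ P, y * x * y⁻¹ * x⁻¹ ∈ P ⊓ 𝒞₁ s := fun x hx => by
    refine ⟨P.mul_mem (conj_mem_of_norm (h.nP hy) hx) (P.inv_mem hx), mem_cent1.2 ?_⟩
    have e := mem_cent.1 hA _ (h.c (inv_mem hx) l.sP)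
    have := comm_of_conj_eq (s := s) (x := y * x⁻¹ * y⁻¹) (y := x⁻¹) (by
      calc _ = y * x⁻¹ * y⁻¹ * (s * y) * x * y⁻¹ := by group
        _ = y * (x⁻¹ * s * x⁻¹⁻¹ * s⁻¹) * (s * y⁻¹) := by rw [← e0]; group
        _ = x⁻¹ * s * x⁻¹⁻¹ * s⁻¹ * (y * s) * y⁻¹ := by rw [← e]; group
        _ = _ := by rw [e0]; group)
    simpa [mul_assoc] using this
  have e3 : ∀ u ∈ Vx P s, y * u = u * y := fun u hu => f0 u (by
    obtain ⟨a, ha, a1⟩ := h.exA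
    obtain ⟨z, hz, zS⟩ := l.notS h.toPA ha a1
    have hu' := conj_mem_of_norm (nV nS) hu
    by_contra c
    refine zS (h.eqS l (mul_mem hu' (inv_mem hu)) c hz ?_)
    rw [← l.cm hu' (inv_mem (l.VS hu))]
    exact l.shift h.toPA hA hz hu hu' (e1 z hz))
  have e2 : ∀ x ∈ P ⊓ 𝒞₁ s, y * x = x * y := fun x hx => by
    have hx' := conj_mem_of_norm nS hx
    have e := l.inj _ hx' _ hx (by
      calc _ = y * (x * x) * y⁻¹ := by group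
        _ = _ := by rw [← mem_cent.1 hA _ (h.sq x hx.1)]; group)
    exact odd_fix ho rfl (e3 _ (l.memV.2 ⟨mul_mem hx' (inv_mem hx), e⟩)) e
  exact mem_cent.2 fun x hx => (odd_fix4 ho (e2 _ (e1 x hx)) (h.p4 (e1 x hx).1)).symm

variable (fa : Y ⊓ 𝒞 P = ⊥)
include fa

theorem F1 (hu : u ∈ P) (uA : u ∉ A) (uu : u * u = 1) (hy : y ∈ Y) (hA : y ∈ 𝒞 A)
    (hs : y * u * y⁻¹ * u⁻¹ ∈ A) : y = 1 := by
  obtain ⟨k, -, l⟩ := h.loc u hu uA uu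
  exact eq_one_of_mem fa ⟨hy, h.cent_of l hy hA hs⟩

omit [Finite G] h fa in
/-- an element commuting with `k` and with an element of `A#` centralizes `A` -/
theorem cA_of (l : LP A P s k) (e : k * y = y * k) (ha : a ∈ A) (a1 : a ≠ 1) (e2 : y * a = a * y) :
    y ∈ 𝒞 A := mem_cent.2 fun b hb => by
  by_cases b1 : b = 1
  · simp [b1]
  obtain ⟨n, rfl⟩ := l.tr a ha b hb a1 b1
  have := conj_comm (k ^ n) e2
  rw [(Commute.pow_left (show Commute k y from e) n).eq, mul_inv_cancel_right] at this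
  exact this.symm

variable (l : LP A P s k) (hk : k ∈ Y)
include l hk

theorem K1 (hy : y ∈ zpowers k) (y1 : y ≠ 1) (ha : a ∈ A) (e : y * a = a * y) : a = 1 := by
  by_contra a1
  exact y1 (h.F1 fa l.sP l.sA l.ss (zpowers_le.2 hk hy)
    (cA_of l (mem_cent1.1 (zpowers_le.2 (self_mem_cent1 k) hy)).symm ha a1 e)
    ((l.kG h.toPA hy).2.2 s l.sS l.ss))

theorem K2 (hy : y ∈ zpowers k) (y1 : y ≠ 1) (hx : x ∈ P) (e : y * x * y⁻¹ * x⁻¹ ∈ A) :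
    x ∈ Vx P s :=
  l.memV.2 ⟨⟨hx, mem_cent1.2 (comm_of_c (h.K1 fa l hk hy y1 (h.c hx l.sP)
    (h.fixc hx l.sP e ((l.kG h.toPA hy).2.2 s l.sS l.ss))))⟩,
    h.K1 fa l hk hy y1 (h.sq x hx) (h.fixs hx e)⟩

theorem ordk : ♯(zpowers k) = ♯A - 1 := by
  obtain ⟨a, ha, a1⟩ := h.exA
  have e : (𝒞₁ a).relIndex (zpowers k) = ♯A - 1 := by
    rw [← Bx.ncard_sharp]
    refine card_orbit _ _ _ fun z => ⟨?_, fun hz => ?_⟩
    · rintro ⟨y, hy, rfl⟩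
      exact ⟨conj_mem_of_norm (zpowers_le.2 l.kA hy) ha, fun e => a1 (by simpa using e)⟩
    · obtain ⟨n, hn⟩ := l.tr a ha z hz.1 a1 hz.2
      exact ⟨_, pow_mem (mem_zpowers k) n, hn⟩
  have e2 : 𝒞₁ a ⊓ zpowers k = ⊥ := (eq_bot_iff_forall _).2 fun y hy => by_contra fun c =>
    a1 (h.K1 fa l hk hy.2 c ha (mem_cent1.1 hy.1))
  rw [← card_inf_mul_ri (𝒞₁ a), e, e2, card_bot', one_mul]

theorem k1 : k ≠ 1 := fun e => by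
  have := h.ordk fa l hk
  have := h.big
  rw [e, zpowers_one_eq_bot, card_bot'] at *
  omega

theorem nS (hy : y ∈ zpowers k) (y1 : y ≠ 1) (hd : d ∈ Y) (e : d * y = y * d) :
    d ∈ 𝒩 (P ⊓ 𝒞₁ s) := by
  have h1 : d * s * d⁻¹ ∈ Vx P s := h.K2 fa l hk hy y1 (conj_mem_of_norm (h.nP hd) l.sP) (by
    have := conj_mem_of_norm (h.nA hd) ((l.kG h.toPA hy).2.2 s l.sS l.ss)
    convert this using 1
    calc _ = (y * d) * s * (y * d)⁻¹ * (d * s * d⁻¹)⁻¹ := by group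
      _ = _ := by rw [← e]; group)
  exact mem_normalizer_of_forall fun x hx => h.eqS l h1 (fun c => l.sA (by
    simpa [mul_assoc] using conj_mem_of_norm' (h.nA hd) c)) (conj_mem_of_norm (h.nP hd) hx.1)
    (conj_comm d (mem_cent1.1 hx.2))

/-- the commutator of `k` and an element commuting with a power of `k` -/
theorem cG (hy : y ∈ zpowers k) (y1 : y ≠ 1) (hd : d ∈ Y) (e : d * y = y * d) :
    d * k * d⁻¹ * k⁻¹ ∈ G2 A (P ⊓ 𝒞₁ s) :=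
  mul_mem (conj_G2 (h.nS fa l hk hy y1 hd e) (h.nA hd) (l.kG h.toPA (mem_zpowers k)))
    (inv_mem (l.kG h.toPA (mem_zpowers k)))

end EP

end Cfsg.GS.Cx
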