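import Cfsg.Agent.GS.C2

/-! Task L3 of `GS/T3`, part 3: the cases `C_Y(A) = 1` and `R₀⟨k⟩` Frobenius. -/

set_option autoImplicit false

namespace Cfsg.GS.Cx

open Subgroup Cfsg.L0 Cfsg.H8 Cfsg.FT Cfsg.BS Cfsg.BS.R Cfsg.GS.T3 Cfsg.GS.Bx

variable {G : Type} [Group G] [Finite G] {A P Y S V N K R : Subgroup G}
  {s k a b d g u v x y z : G}

theorem split2 (hN : IsPGroup 2 N) (ho : Odd (orderOf y)) (hK : N ≤ K) (nK : K ≤ 𝒩 N) (nN : y ∈ 𝒩 N)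
    (e : ∀ x ∈ K, y * x * y⁻¹ * x⁻¹ ∈ N) (hx : x ∈ K) :
    ∃ n ∈ N, ∃ c ∈ K, c * y = y * c ∧ n * c = x := by
  have h1 : ∀ n : ℕ, ∀ x ∈ K, y ^ n * x * (y ^ n)⁻¹ * x⁻¹ ∈ N := fun n x hx => by
    induction n with
    | zero => simp
    | succ n ih =>
      have := mul_mem (conj_mem_of_norm nN ih) (e x hx)
      convert this using 1; rw [pow_succ']; group
  have := (mkCA_p' Nat.prime_two (zpowers_le.2 nN) hN (by
    rw [card_zpow]; exact ho.not_two_dvd_nat)).le_sup_cent hK (commutator_le.2 fun x hx g hg => by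
      obtain ⟨n, rfl⟩ := (mem_powers_iff_mem_zpowers.2 hg :)
      have := inv_mem (h1 n x hx)
      convert this using 1; rw [commutatorElement_def]; group) hx
  obtain ⟨n, hn, c, hc, e⟩ := (mem_sup_l (inf_le_left.trans nK)).1 this
  exact ⟨n, hn, c, hc.1, (mem_cent.1 hc.2 y (mem_zpowers y)).symm, e⟩

omit [Finite G] in
theorem PA.nrm (h : PA A P) (h1 : A ≤ N) (h2 : N ≤ P) : P ≤ 𝒩 N := fun x hx =>
  mem_normalizer_iff.2 fun y => ⟨fun hy => by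
    have := mul_mem (h1 (h.c hx (h2 hy))) hy
    simpa using this, fun hy => by
    have := mul_mem (h1 (h.c (inv_mem hx) (h2 hy))) hy
    simpa [mul_assoc] using this⟩

theorem ar_two : ∀ q : ℕ, 9 ≤ q → q * q < 2 ^ (q - 2) := by
  intro q hq
  induction q, hq using Nat.le_induction with
  | base => norm_num
  | succ n hn ih =>
    rw [show n + 1 - 2 = n - 2 + 1 by omega, pow_succ]
    nlinarith

theorem ar_w {q c m : ℕ} (hq : 8 ≤ q) (hc : 2 ≤ c) (hm : q ≤ m)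
    (e : q * (q * (q * c)) = c ^ (q - 1) * m) : q = 8 ∧ c = 2 ∧ m = 8 := by
  have e1 : q * q * q = c ^ (q - 2) * m := by
    rw [show q - 1 = q - 2 + 1 by omega, pow_succ] at e
    exact Nat.eq_of_mul_eq_mul_right (show 0 < c by omega) (by linarith)
  have e2 : c ^ (q - 2) ≤ q * q := by
    refine Nat.le_of_mul_le_mul_right ?_ (show 0 < q by omega)
    rw [e1]; exact Nat.mul_le_mul_left _ hm
  have q8 : q = 8 := by
    by_contra h
    have := ar_two q (by omega)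
    have := Nat.pow_le_pow_left hc (q - 2)
    omega
  subst q8
  have c2 : c = 2 := by
    by_contra h
    have := Nat.pow_le_pow_left (show 3 ≤ c by omega) (8 - 2)
    omega
  subst c2
  omega

namespace EP

variable (h : EP A P Y)
include h

theorem exv : ∃ s k, k ∈ Y ∧ LP A P s k := by
  obtain ⟨v, hv, z, hz, h1, -, h2⟩ := h.two
  obtain ⟨k, hk, l⟩ := h.loc v hv (fun e => h2 (h.cm e hz)) h1
  exact ⟨v, k, hk, l⟩

theorem reg_of (hR : R ≤ Y) (hn : Y ≤ 𝒩 R) (ab : Abel R) (hc : Y ⊓ 𝒞 A = ⊥) : Reg A R := by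
  obtain ⟨s, k, hk, l⟩ := h.exv
  have key : ∀ a ∈ A, ∀ b ∈ A, a ≠ 1 → b ≠ 1 → R ⊓ 𝒞₁ a ≤ R ⊓ 𝒞₁ b → R ⊓ 𝒞₁ a = R ⊓ 𝒞₁ b :=
    fun a ha b hb a1 b1 e => by
      obtain ⟨n, rfl⟩ := l.tr a ha b hb a1 b1
      refine eq_of_card_le e ?_
      rw [← cj_cent1, ← card_cj (k ^ n) (R ⊓ 𝒞₁ a), cj_inf, cj_eq_of_mem_norm (hn (pow_mem hk n))]
  refine reg_iff.2 fun ρ hρ a ha e => ?_
  by_contra c
  obtain ⟨r1, a1⟩ := not_or.1 c
  obtain ⟨b, hb, eb⟩ : ∃ b ∈ A, b * ρ ≠ ρ * b := by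
    by_contra c
    exact r1 (eq_one_of_mem hc ⟨hR hρ, mem_cent.2 fun b hb => by_contra fun e => c ⟨b, hb, e⟩⟩)
  have ρa : a ∈ 𝒞₁ ρ := mem_cent1.2 e
  have b1 : b ≠ 1 := fun e => eb (by simp [e])
  have ab1 : a * b ≠ 1 := fun e => eb (mem_cent1.1 (by
    rw [← inv_eq_of_mul_eq_one_right e]; exact inv_mem ρa))
  have le : R ⊓ 𝒞₁ (a * b) ≤ R ⊓ 𝒞₁ a := fun d hd => ⟨hd.1, by
    by_contra c
    have hw : a⁻¹ * (d * a * d⁻¹) ∈ A := mul_mem (inv_mem ha) (conj_mem_of_norm (h.nA (hR hd.1)) ha)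
    have w1 : a⁻¹ * (d * a * d⁻¹) ≠ 1 := fun e => c (mem_cent1.2 (by
      rw [inv_mul_eq_one] at e; exact mul_inv_eq_iff_eq_mul.1 e.symm))
    have e1 : a⁻¹ * (d * a * d⁻¹) = b * (d * b * d⁻¹)⁻¹ := by
      calc _ = a⁻¹ * (d * (a * b)) * b⁻¹ * d⁻¹ := by group
        _ = _ := by rw [mem_cent1.1 hd.2]; group
    have k1 := key a ha _ hw a1 w1 fun r hr => ⟨hr.1, mem_cent1_comm.1 (by
      have h1 := mem_cent1_comm.1 hr.2
      have h2 : d ∈ 𝒞₁ r := mem_cent1.2 (ab.comm hd.1 hr.1)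
      exact mul_mem (inv_mem h1) (mul_mem (mul_mem h2 h1) (inv_mem h2)))⟩
    have k2 := key b hb _ hw b1 w1 fun r hr => ⟨hr.1, mem_cent1_comm.1 (by
      have h1 := mem_cent1_comm.1 hr.2
      have h2 : d ∈ 𝒞₁ r := mem_cent1.2 (ab.comm hd.1 hr.1)
      rw [e1]
      exact mul_mem h1 (inv_mem (mul_mem (mul_mem h2 h1) (inv_mem h2))))⟩
    have : ρ ∈ R ⊓ 𝒞₁ b := by rw [k2, ← k1]; exact ⟨hρ, mem_cent1_comm.1 ρa⟩
    exact eb (mem_cent1.1 this.2).symm⟩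
  have : ρ ∈ R ⊓ 𝒞₁ (a * b) := by
    rw [key _ (mul_mem ha hb) a ha ab1 a1 le]; exact ⟨hρ, mem_cent1_comm.1 ρa⟩
  exact eb (mem_cent1.1 (((𝒞₁ ρ).mul_mem_cancel_left ρa).1 (mem_cent1_comm.1 this.2)))

variable (fa : Y ⊓ 𝒞 P = ⊥)
include fa

theorem case1 : Y ⊓ 𝒞 A ≠ ⊥ := by
  intro hc
  obtain ⟨s0, k0, hk0, l0⟩ := h.exv
  obtain ⟨R, hR, hm⟩ := exists_minI (ne_bot_of_mem hk0 (h.k1 fa l0 hk0)) (le_norm Y)
  obtain ⟨p, hp, -, he⟩ := hm.exists_elem (h.sol.mono hR)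
  have rg := h.reg_of hR hm.norm he.abel hc
  have nA := hR.trans h.nA
  obtain ⟨a, ha, a1⟩ := h.exA
  have cy : Cyc R := by
    by_contra c
    obtain ⟨r, h1, h2, h3⟩ := exists_cent1_ne_bot he.abel c nA (rg.cop nA) (ne_bot_of_mem ha a1)
    exact h3 (rg r h1 h2)
  have gen : ∀ ρ ∈ R, ρ ≠ 1 → zpowers ρ = R := fun ρ h1 h2 => eq_of_card_le (zpowers_le.2 h1) (by
    rw [card_zpow, he.orderOf_eq hp h1 h2]; exact he.card_le_of_cyc hp cy)
  have key : ∀ s ∈ P, s ∉ A → s * s = 1 → ∀ ρ ∈ R, ρ * s * ρ⁻¹ * s⁻¹ ∈ A := fun s h1 h2 h3 => by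
    obtain ⟨k, hk, l⟩ := h.loc s h1 h2 h3
    suffices R ≤ G2 A (P ⊓ 𝒞₁ s) from fun ρ hρ => (this hρ).2.2 s l.sS h3
    have : ¬ Reg R (zpowers k) := fun c => by
      have e1 := c.card_lt ((zpowers_le.2 hk).trans hm.norm) hm.ne
      have e2 := rg.card_lt nA (ne_bot_of_mem ha a1)
      rw [h.ordk fa l hk] at e1
      omega
    rw [reg_iff] at this
    push Not at this
    obtain ⟨y, hy, ρ, hρ, e, y1, r1⟩ := this
    by_cases c : ρ * k * ρ⁻¹ * k⁻¹ = 1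
    · have e1 := comm_of_c c
      obtain ⟨n, hn⟩ := l.tr a ha _ (conj_mem_of_norm (nA hρ) ha) a1 fun e => a1 (by simpa using e)
      have : (k ^ n)⁻¹ * ρ = 1 := eq_one_of_mem hc ⟨Y.mul_mem (Y.inv_mem (pow_mem hk n)) (hR hρ),
        cA_of l (mem_cent1.1 (mul_mem (inv_mem (pow_mem (self_mem_cent1 k) n))
          (mem_cent1.2 e1))).symm ha a1 (comm_of_conj_eq hn)⟩
      rw [← gen ρ hρ r1, zpowers_le, ← inv_mul_eq_one.1 this]
      exact l.kG h.toPA (pow_mem (mem_zpowers k) n)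
    · rw [← gen _ (by simpa [mul_assoc] using mul_mem hρ (conj_mem_of_norm (hm.norm hk) (inv_mem hρ))) c,
        zpowers_le]
      exact h.cG fa l hk hy y1 (hR hρ) e
  obtain ⟨v, hv, z, hz, h1, h2, h3⟩ := h.two
  obtain ⟨ρ, hρ, r1⟩ := exists_ne_one hm.ne
  exact h3 (comm_of_c ((reg_iff.1 rg ρ hρ _ (h.c hv hz) (h.fixc hv hz
    (key v hv (fun e => h3 (h.cm e hz)) h1 ρ hρ)
    (key z hz (fun e => h3 (h.cm e hv).symm) h2 ρ hρ)).symm).resolve_left r1))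

theorem case2a (l : LP A P s k) (hk : k ∈ Y) (hR : R ≤ Y ⊓ 𝒞 A) (hn : Y ≤ 𝒩 R) {r : ℕ}
    (hr : r.Prime) (hd : r ∣ ♯R) (he : IsPGroup r R) : ¬ Reg R (zpowers k) := by
  intro rg
  have k1 := h.k1 fa l hk
  have kk := mem_zpowers k
  have RY := hR.trans inf_le_left
  have R0 := ne_bot_of_dvd hr hd
  have le : R ⊔ zpowers k ≤ Y := sup_le RY (zpowers_le.2 hk)
  have w := G3.wielandt (mk_frob ((zpowers_le.2 hk).trans hn) rg R0 (ne_bot_of_mem kk k1))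
    (le.trans h.nP) (cop_of_pgroup Nat.prime_two h.pg (odd_of_le h.odd le).not_two_dvd_nat)
    (sol_of_pgroup Nat.prime_two h.pg)
  have CV : P ⊓ 𝒞 (zpowers k) ≤ Vx P s := fun x hx => h.K2 fa l hk kk k1 hx.1 (by
    rw [mem_cent.1 hx.2 k kk]; simp)
  have AC : A ⊓ (P ⊓ 𝒞 (zpowers k)) = ⊥ := (eq_bot_iff_forall _).2 fun x hx =>
    h.K1 fa l hk kk k1 hx.1 (mem_cent.1 hx.2.2 k kk)
  have e0 : P ⊓ 𝒞 (R ⊔ zpowers k) = ⊥ := (eq_bot_iff_forall _).2 fun x hx => by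
    have h1 : x ∈ P ⊓ 𝒞 (zpowers k) := ⟨hx.1, cent_anti le_sup_right hx.2⟩
    by_cases c : x ∈ A
    · exact eq_one_of_mem AC ⟨c, h1⟩
    obtain ⟨ρ, hρ, r1⟩ := exists_ne_one R0
    exact absurd (h.F1 fa hx.1 c (l.memV.1 (CV h1)).2 (RY hρ) (hR hρ).2 (by
      rw [mem_cent.1 hx.2 ρ (mem_sup_left hρ)]; simp)) r1
  have e1 : A ⊔ (P ⊓ 𝒞 (zpowers k)) = Vx P s := le_antisymm (sup_le (l.AV h.toPA) CV) fun x hx => by
    obtain ⟨a, ha, c, hc, e, rfl⟩ := split2 (h.pg.to_le h.le) (odd_of_mem h.odd hk) (l.AV h.toPA)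
      (fun x hx => cent_le_norm _ (h.cA (l.VS hx).1)) l.kA
      (fun x hx => l.kV x (l.VS hx) (l.memV.1 hx).2) hx
    exact mul_mem_sup ha ⟨(l.VS hc).1, by rw [cent_zpowers]; exact mem_cent1.2 e⟩
  have e2 := card_sup_of_inf (inf_le_left.trans (le_norm_of_le_cent h.cA)) AC
  have e3 := card_lt (l.ltV h.toPA)
  have e4 := l.cardP h.toPA
  rw [e1] at e2
  rw [e0, card_bot', one_pow, one_mul, h.ordk fa l hk, e4, e2] at w
  have AR : A ≤ P ⊓ 𝒞 R := le_inf h.le (cent_symm (hR.trans inf_le_right))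
  obtain ⟨q8, c2, m8⟩ := ar_w h.big (by
    rw [e2] at e3
    have := card_pos' A
    nlinarith) (card_le AR) w
  have e5 := card_modEq_cent hr he (RY.trans h.nP)
  rw [e2, q8, c2] at e4
  rw [e4, m8] at e5
  have r127 : r = 127 := by
    have h1 : r ∣ 2 ^ 3 * 127 := (Nat.modEq_iff_dvd' (by norm_num)).1 e5.symm
    rcases (Nat.Prime.dvd_mul hr).1 h1 with c | c
    · have := (Nat.prime_dvd_prime_iff_eq hr Nat.prime_two).1 (hr.dvd_of_dvd_pow c)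
      exact absurd (this ▸ hd) (odd_of_le h.odd RY).not_two_dvd_nat
    · exact (Nat.prime_dvd_prime_iff_eq hr (by norm_num)).1 c
  have e6 := Nat.le_of_dvd (card_pos' R) hd
  obtain ⟨a, ha, a1⟩ := h.exA
  obtain ⟨x, hx, x2⟩ := l.ex a ha
  have xA : x ∉ A := fun e => a1 (x2 ▸ h.one x e)
  have e7 : (((P : Set G) \ A) \ {x}).ncard = 1015 := by
    rw [Set.ncard_sdiff_singleton_of_mem (by exact ⟨hx.1, xA⟩), X.ncard_sdiff h.le, e4, q8]
  have e8 : Nat.card (R × A) ≤ Nat.card (((P : Set G) \ A) \ {x} : Set G) := by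
    refine Nat.card_le_card_of_injective (fun p => ⟨p.2.1 * (p.1.1 * s * p.1.1⁻¹), ?_⟩) ?_
    · have h1 := conj_mem_of_norm (h.nP (RY p.1.2)) l.sP
      refine ⟨⟨mul_mem (h.le p.2.2) h1, fun e => l.sA ?_⟩, fun e => a1 ?_⟩
      · simpa [mul_assoc] using conj_mem_of_norm' (h.nA (RY p.1.2)) ((A.mul_mem_cancel_left p.2.2).1 e)
      · rw [← x2, ← (show _ = x from e), h.sqa p.2.2 h1, conj_sq _ l.ss]
    · rintro ⟨⟨d, hd⟩, ⟨a, ha⟩⟩ ⟨⟨d', hd'⟩, ⟨a', ha'⟩⟩ e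
      have e : a * (d * s * d⁻¹) = a' * (d' * s * d'⁻¹) := congrArg Subtype.val e
      have : d'⁻¹ * d = 1 := h.F1 fa l.sP l.sA l.ss (RY (mul_mem (inv_mem hd') hd))
        (hR (mul_mem (inv_mem hd') hd)).2 (by
          have := conj_mem_of_norm' (h.nA (RY hd')) (mul_mem (inv_mem ha) ha')
          convert this using 1
          calc _ = d'⁻¹ * a⁻¹ * (a * (d * s * d⁻¹)) * d' * s⁻¹ := by group
            _ = _ := by rw [e]; group)
      obtain rfl := inv_mul_eq_one.1 this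
      obtain rfl := mul_right_cancel e
      rfl
  rw [Nat.card_prod, Nat.card_coe_set_eq, e7, q8] at e8
  omega

end EP

end Cfsg.GS.Cx
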