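import Cfsg.Agent.GS.C3

/-! Task L3 of `GS/T3`, part 4: an element of `C_Y(A)` commuting with a power of `k`. -/

set_option autoImplicit false

namespace Cfsg.GS.Cx

open Subgroup Cfsg.L0 Cfsg.H8 Cfsg.FT Cfsg.BS Cfsg.BS.R Cfsg.GS.T3 Cfsg.GS.Bx

variable {G : Type} [Group G] [Finite G] {A P Y S V N K R : Subgroup G}
  {s k a b d g u v x y z : G}

namespace LP

variable (l : LP A P s k) (h : PA A P)
include l h

theorem eqc (hx : x ∈ P) (hy : y ∈ P) (e : x * s * x⁻¹ * s⁻¹ = y * s * y⁻¹ * s⁻¹) :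
    x * y⁻¹ ∈ P ⊓ 𝒞₁ s := by
  have h1 : y⁻¹ * x ∈ P ⊓ 𝒞₁ s := ⟨P.mul_mem (P.inv_mem hy) hx,
    mem_cent1.2 (comm_of_conj_eq (mul_right_cancel e).symm)⟩
  simpa [mul_assoc] using conj_mem_of_norm (h.nrm (h.AS l.sP) inf_le_left hy) h1

theorem kc (hg : g ∈ zpowers k) (hx : x ∈ P) :
    g * x * g⁻¹ * s * (g * x * g⁻¹)⁻¹ * s⁻¹ = g * (x * s * x⁻¹ * s⁻¹) * g⁻¹ := by
  have := h.ca (one_mem _) ((l.kG h hg).2.2 s l.sS l.ss)
    (conj_mem_of_norm (zpowers_le.2 l.kP hg) hx) l.sP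
  rw [← this]; group

theorem card2 : ♯(A ⊔ zpowers s) = ♯A * 2 := by
  rw [card_sup_of_inf (zpowers_le.2 (cent_le_norm _ (h.cA l.sP)))
    ((eq_bot_iff_forall _).2 fun x hx => (mem_zp2 l.ss hx.2).resolve_right fun e => l.sA (e ▸ hx.1)),
    card_zpow, Ivo.orderOf (t := s) ⟨fun e => l.sA (e ▸ one_mem _), l.ss⟩]

omit [Finite G] in
theorem mem2 (hx : x ∈ A ⊔ zpowers s) : x ∈ A ∨ x * s⁻¹ ∈ A := by
  obtain ⟨a, ha, e, he, rfl⟩ := (mem_sup_l (zpowers_le.2 (cent_le_norm _ (h.cA l.sP)))).1 hx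
  rcases mem_zp2 l.ss he with rfl | rfl
  · exact Or.inl (by simpa using ha)
  · exact Or.inr (by simpa using ha)

end LP

namespace EP

variable (h : EP A P Y) (fa : Y ⊓ 𝒞 P = ⊥)
include h fa

theorem case2b (l : LP A P s k) (hk : k ∈ Y) (hd : d ∈ Y ⊓ 𝒞 A) (d1 : d ≠ 1)
    (hy : y ∈ zpowers k) (y1 : y ≠ 1) (e : d * y = y * d) : False := by
  have hp := h.toPA
  have dS := h.nS fa l hk hy y1 hd.1 e
  have dP := h.nP hd.1
  have SP := hp.nrm (hp.AS l.sP) inf_le_left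
  have VP := hp.nrm (l.AV hp) (l.VS.trans inf_le_left)
  have dk : d * k = k * d := comm_of_c (h.F1 fa l.sP l.sA l.ss
    (Y.mul_mem (Y.mul_mem (Y.mul_mem hd.1 hk) (Y.inv_mem hd.1)) (Y.inv_mem hk))
    (by simpa [mul_assoc] using mul_mem hd.2 (conj_mem_of_norm (norm_le_norm_cent A l.kA) (inv_mem hd.2)))
    ((h.cG fa l hk hy y1 hd.1 e).2.2 s l.sS l.ss))
  have fp : ∀ u ∈ P, u * u = 1 → d * u * d⁻¹ * u⁻¹ ∈ A → u ∈ A := fun u h1 h2 h3 =>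
    by_contra fun c => d1 (h.F1 fa h1 c h2 hd.1 hd.2 h3)
  have dV := conj_mem_of_norm (nV dS) l.sV
  have mv : ∀ x ∈ P, d * x * d⁻¹ * x⁻¹ ∈ P ⊓ 𝒞₁ s → x ∈ P ⊓ 𝒞₁ s := fun x hx c =>
    h.eqS l (mul_mem (inv_mem l.sV) dV) (fun c => l.sA (fp s l.sP l.ss (by
      rwa [l.cm dV (inv_mem l.sS)] at c))) hx (l.shift hp hd.2 hx l.sV dV c)
  have FS : ∀ f ∈ P, f * d = d * f → f ∈ P ⊓ 𝒞₁ s := fun f hf c => mv f hf (by rw [← c]; simp)
  have FA : ∀ f ∈ P, f * d = d * f → f * f = 1 → f ∈ A := fun f hf c c2 =>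
    fp f hf c2 (by rw [← c]; simp)
  obtain ⟨a, ha, a1⟩ := h.exA
  obtain ⟨z, hz, zS⟩ := l.notS hp ha a1
  have c1 : ∀ x ∈ P, x ∉ P ⊓ 𝒞₁ s → x * s * x⁻¹ * s⁻¹ ≠ 1 := fun x hx c e =>
    c ⟨hx, mem_cent1.2 (comm_of_c e)⟩
  have tr : ∀ x ∈ P, x ∉ P ⊓ 𝒞₁ s → ∀ b ∈ A, b ≠ 1 → ∃ g ∈ zpowers k,
      g * x * g⁻¹ * s * (g * x * g⁻¹)⁻¹ * s⁻¹ = b := fun x hx c b hb b1 => by
    obtain ⟨n, hn⟩ := l.tr _ (hp.c hx l.sP) b hb (c1 x hx c) b1
    exact ⟨_, pow_mem (mem_zpowers k) n, by rw [l.kc hp (pow_mem (mem_zpowers k) n) hx, hn]⟩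
  have kP : zpowers k ≤ 𝒩 P := zpowers_le.2 l.kP
  have hz' := conj_mem_of_norm dP hz
  obtain ⟨κ, hκ, e1⟩ := tr z hz zS _ (hp.c hz' l.sP) (c1 _ hz' fun c => zS (by
    simpa [mul_assoc] using conj_mem_of_norm' dS c))
  have κS := (l.kG hp hκ).1
  set t := κ⁻¹ * d with ht
  have tY : t ∈ Y := mul_mem (inv_mem (zpowers_le.2 hk hκ)) hd.1
  have tS : t ∈ 𝒩 (P ⊓ 𝒞₁ s) := mul_mem (inv_mem κS) dS
  have tk : zpowers k ≤ 𝒞₁ t := zpowers_le.2 (mem_cent1_comm.1 (mul_mem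
    (inv_mem (zpowers_le.2 (self_mem_cent1 k) hκ)) (mem_cent1.2 dk)))
  have td : d ∈ 𝒞₁ t := mem_cent1_comm.1 (mul_mem (inv_mem (zpowers_le.2 (mem_cent1.2 dk.symm) hκ))
    (self_mem_cent1 d))
  have pz : t * z * t⁻¹ * z⁻¹ ∈ P ⊓ 𝒞₁ s := by
    have := conj_mem_of_norm' κS (l.eqc hp hz' (conj_mem_of_norm (kP hκ) hz) e1.symm)
    convert this using 1; rw [ht]; group
  have κ1 : κ ≠ 1 := fun c => zS (mv z hz (by simpa [ht, c] using pz))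
  have pall : ∀ x ∈ P, t * x * t⁻¹ * x⁻¹ ∈ P ⊓ 𝒞₁ s := fun x hx => by
    by_cases c : x ∈ P ⊓ 𝒞₁ s
    · exact mul_mem (conj_mem_of_norm tS c) (inv_mem c)
    obtain ⟨g, hg, e2⟩ := tr z hz zS _ (hp.c hx l.sP) (c1 x hx c)
    have h1 := l.eqc hp hx (conj_mem_of_norm (kP hg) hz) e2.symm
    have h2 := mul_mem (mul_mem (conj_mem_of_norm tS h1) (conj_mem_of_norm (l.kG hp hg).1 pz))
      (inv_mem h1)
    convert h2 using 1
    have e3 := mem_cent1.1 (tk hg)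
    calc _ = t * x * g * z⁻¹ * g⁻¹ * t⁻¹ * (t * g) * z * (t * g)⁻¹ * x⁻¹ := by group
      _ = _ := by rw [← e3]; group
  have κA : ∀ x ∈ A, x * t = t * x → x = 1 := fun x hx c => h.K1 fa l hk hκ κ1 hx (mem_cent1.1 (by
    rw [show κ = d * t⁻¹ by rw [ht, mul_inv_rev, ← mul_assoc, mul_inv_cancel, one_mul, inv_inv]]
    exact mul_mem (cent_le_cent1 hx hd.2) (inv_mem (mem_cent1.2 c.symm))))
  have J1 : ∀ j ∈ P, j * t = t * j → j * j = 1 := fun j hj c => κA _ (h.sq j hj) (by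
    rw [mul_assoc, c, ← mul_assoc, c, mul_assoc])
  have J2 : ∀ j ∈ P ⊓ 𝒞₁ s, j * t = t * j → j = 1 := fun j hj c => κA j (fp j hj.1 (J1 j hj.1 c) (by
    have := (l.kG hp hκ).2.2 j hj (J1 j hj.1 c)
    convert this using 1
    calc _ = κ * (t * j) * d⁻¹ * j⁻¹ := by rw [ht]; group
      _ = _ := by rw [← c, ht]; group)) c
  have sp1 : ∀ x ∈ P, ∃ n ∈ P ⊓ 𝒞₁ s, ∃ j ∈ P, j * t = t * j ∧ n * j = x := fun x hx =>
    split2 (h.pg.to_le inf_le_left) (odd_of_mem h.odd tY) inf_le_left SP tS pall hx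
  have sp2 : ∀ x ∈ P ⊓ 𝒞₁ s, ∃ r ∈ Vx P s, ∃ f ∈ P ⊓ 𝒞₁ s, f * d = d * f ∧ r * f = x := fun x hx =>
    split2 (h.pg.to_le (l.VS.trans inf_le_left)) (odd_of_mem h.odd hd.1) l.VS
      (inf_le_left.trans VP) (nV dS) (fun x hx => by
        have hx' := conj_mem_of_norm dS hx
        exact l.memV.2 ⟨mul_mem hx' (inv_mem hx), l.inj _ hx' _ hx (by
          calc _ = d * (x * x) * d⁻¹ := by group
            _ = _ := by rw [← mem_cent.1 hd.2 _ (h.sq x hx.1)]; group)⟩) hx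
  have FJ : ∀ f ∈ P, f * d = d * f → ∀ j ∈ P, j * t = t * j → f * j = j * f := fun f hf c j hj c2 => by
    have e2 := (mkCA_p' (K := P ⊓ 𝒞₁ t) Nat.prime_two (A := zpowers d)
      (zpowers_le.2 (le_norm_inf (zpowers_le.2 dP) (zpowers_le.2 (le_norm _ td)) (mem_zpowers d)))
      (h.pg.to_le inf_le_left) (by
        rw [card_zpow]; exact (odd_of_mem h.odd hd.1).not_two_dvd_nat)).comm_eq_of_cent
      ((eq_bot_iff_forall _).2 fun x hx => J2 x (FS x hx.1.1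
        (mem_cent.1 hx.2 d (mem_zpowers d)).symm) (mem_cent1.1 hx.1.2))
    have e3 : P ⊓ 𝒞₁ t ≤ 𝒞₁ f := by
      rw [← e2]
      refine commutator_le.2 fun x hx g hg => mem_cent1.2 ?_
      have e4 := mem_cent1.1 (zpowers_le.2 (mem_cent1.2 c.symm) hg)
      have e5 := mem_cent.1 (zpowers_le.2 hd.2 hg) _ (hp.c hf (inv_mem hx.1))
      have := comm_of_c_eq (z := f) (u := x⁻¹) (v := g * x⁻¹ * g⁻¹) (by
        calc _ = g * (f * x⁻¹ * f⁻¹ * x⁻¹⁻¹) * g⁻¹ := by rw [← e5]; group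
          _ = g * f * x⁻¹ * (g * f)⁻¹ * (g * x * g⁻¹) := by group
          _ = _ := by rw [e4]; group)
      simpa [commutatorElement_def, mul_assoc] using this.symm
    exact (mem_cent1.1 (e3 ⟨hj, mem_cent1.2 c2⟩)).symm
  obtain ⟨x, hx, x2⟩ := l.ex a ha
  obtain ⟨r, hr, f, hf, fd, rfl⟩ := sp2 x hx
  have f2 : f * f = a := by
    rw [← x2]
    calc _ = r * r * (f * f) := by rw [(l.memV.1 hr).2, one_mul]
      _ = r * (r * f) * f := by group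
      _ = r * (f * r) * f := by rw [l.cm hr hf]
      _ = _ := by group
  obtain ⟨n, hn, j0, hj0, j0t, rfl⟩ := sp1 z hz
  obtain ⟨g, hg, e2⟩ := tr j0 hj0 (fun c => zS (mul_mem hn c)) a ha a1
  have hj := conj_mem_of_norm (kP hg) hj0
  have jt : g * j0 * g⁻¹ * t = t * (g * j0 * g⁻¹) :=
    mem_cent1.1 (mul_mem (mul_mem (tk hg) (mem_cent1.2 j0t)) (inv_mem (tk hg)))
  generalize g * j0 * g⁻¹ = j at hj jt e2
  have fj := FJ f hf.1 fd j hj jt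
  have fs := mem_cent1.1 hf.2
  have fc : f ∈ 𝒞₁ (f * (j * s)) := mem_cent1_comm.1 (mul_mem (self_mem_cent1 f)
    (mul_mem (mem_cent1.2 fj.symm) (mem_cent1.2 fs.symm)))
  have hs' : f * (j * s) ∈ P := mul_mem hf.1 (mul_mem hj l.sP)
  have s'S : f * (j * s) ∉ P ⊓ 𝒞₁ s := fun c => a1 (by
    rw [← e2, J2 j ((Subgroup.mul_mem_cancel_right _ l.sS).1
      ((Subgroup.mul_mem_cancel_left _ hf).1 c)) jt]; group)
  obtain ⟨k', -, l'⟩ := h.loc _ hs' (fun c => s'S (hp.AS l.sP c)) (by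
    rw [inv_of_sq (J1 j hj jt), inv_of_sq l.ss] at e2
    calc _ = f * (j * s) * f * (j * s) := by group
      _ = f * f * (j * s * j * s) := by rw [← mem_cent1.1 fc]; group
      _ = 1 := by rw [f2, e2, h.one a ha])
  have fin : ∀ r ∈ Vx P s, ∀ i ∈ P, i * t = t * i → r * i ∈ Vx P (f * (j * s)) → r * i ∈ A :=
    fun r hr i hi it c => by
      have i2 := J1 i hi it
      have : i ∈ P ⊓ 𝒞₁ s := by
        by_cases rA : r ∈ A
        · have h1 := mem_cent1_comm.1 ((Subgroup.mul_mem_cancel_left _ (hp.AS hs' rA)).1 (l'.VS c)).2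
          have h2 := J1 _ (mul_mem hi hj) (by rw [mul_assoc, jt, ← mul_assoc, it, mul_assoc])
          have h3 : j * i = i * j := by
            rw [← inv_of_sq h2, mul_inv_rev, inv_of_sq i2, inv_of_sq (J1 j hj jt)]
          exact ⟨hi, mem_cent1_comm.1 ((Subgroup.mul_mem_cancel_left _ (mem_cent1.2 h3)).1
            ((Subgroup.mul_mem_cancel_left _ (mem_cent1.2 (FJ f hf.1 fd i hi it))).1 h1))⟩
        · refine h.eqS l hr rA hi (comm_of_c ?_)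
          rw [inv_of_sq i2, inv_of_sq (l.memV.1 hr).2]
          simpa [mul_assoc] using conj_sq r⁻¹ (l'.memV.1 c).2
      rw [J2 i this it, mul_one] at c ⊢
      by_contra rA
      exact s'S (h.eqS l hr rA hs' (l'.cm c l'.sS))
  have e3 := (l.cardP hp).symm.trans (l'.cardP hp)
  have e4 := Nat.eq_of_mul_eq_mul_left (card_pos' A) (Nat.eq_of_mul_eq_mul_left (card_pos' A) e3)
  have : ¬ Vx P (f * (j * s)) ≤ A ⊔ zpowers (f * (j * s)) := fun c => by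
    have e5 := eq_of_card_le (sup_le (l.AV hp) (zpowers_le.2 l.sV)) (by
      rw [e4, l.card2 hp, ← l'.card2 hp]; exact card_le c)
    rcases l.mem2 hp (e5 ▸ dV) with c | c
    · exact l.sA (by simpa [mul_assoc] using conj_mem_of_norm' (h.nA hd.1) c)
    · exact l.sA (fp s l.sP l.ss c)
  obtain ⟨w, hw, hw'⟩ := SetLike.not_le_iff_exists.1 this
  obtain ⟨n1, hn1, j1, hj1, j1t, rfl⟩ := sp1 w (l'.VS hw).1
  obtain ⟨r1, hr1, f1, hf1, f1d, rfl⟩ := sp2 n1 hn1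
  have ff : f1 ∈ 𝒞₁ f := (Subgroup.mul_mem_cancel_left _ (mem_cent1.2 (l.cm hr1 hf).symm)).1
    ((Subgroup.mul_mem_cancel_right _ (mem_cent1.2 (FJ f hf.1 fd j1 hj1 j1t).symm)).1
      (mem_cent1.2 (l'.cm hw ⟨hf.1, fc⟩).symm))
  rcases l.cen f hf f1 hf1 (f2 ▸ a1) (mem_cent1.1 ff).symm with c | c
  · exact hw' (mem_sup_left (fin _ (mul_mem hr1 (l.AV hp (FA f1 hf1.1 f1d c))) j1 hj1 j1t hw))
  · have h1 := FA _ (mul_mem hf.1 (inv_mem hf1.1)) (mem_cent1.1 (mul_mem (mem_cent1.2 fd)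
      (inv_mem (mem_cent1.2 f1d)))) c
    have h2 := mul_mem hw (inv_mem l'.sV)
    have e5 : r1 * f1 * j1 * (f * (j * s))⁻¹ =
        r1 * (f * f1⁻¹)⁻¹ * (j1 * s⁻¹ * j1⁻¹) * (j1 * j⁻¹) := by
      have e6 := mem_cent1.1 (mul_mem (mul_mem (mem_cent1.2 (FJ f hf.1 fd j1 hj1 j1t).symm)
        (inv_mem (mem_cent1.2 fs.symm))) (inv_mem (mem_cent1.2 fj.symm)))
      calc _ = r1 * f1 * f⁻¹ * (f * (j1 * s⁻¹ * j⁻¹)) * f⁻¹ := by group
        _ = _ := by rw [← e6]; group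
    rw [e5] at h2
    have h3 := fin _ (mul_mem (mul_mem hr1 (inv_mem (l.AV hp h1)))
      (conj_mem_of_norm (VP hj1) (inv_mem l.sV))) _ (mul_mem hj1 (inv_mem hj))
      (mem_cent1.1 (mul_mem (mem_cent1.2 j1t) (inv_mem (mem_cent1.2 jt)))) h2
    rw [← e5] at h3
    exact hw' (by simpa [mul_assoc] using mul_mem_sup h3 (mem_zpowers (f * (j * s))))

theorem false : False := by
  obtain ⟨s, k, hk, l⟩ := h.exv
  obtain ⟨R, hR, hm⟩ := exists_minI (h.case1 fa) (le_norm_inf (le_norm Y) (le_norm_cent h.nA))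
  obtain ⟨p, hp, hd, he⟩ := hm.exists_elem (h.sol.mono (hR.trans inf_le_left))
  have := h.case2a fa l hk hR hm.norm hp hd he.pgroup
  rw [reg_iff] at this
  push Not at this
  obtain ⟨y, hy, d, hd, e, y1, d1⟩ := this
  exact h.case2b fa l hk (hR hd) d1 hy y1 e

end EP

end Cfsg.GS.Cx
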