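import Cfsg.Agent.GS.C4

/-! Task L3 of `GS/T3`, part 5: reduction to the abstract setting. -/

set_option autoImplicit false

namespace Cfsg.GS.Cx

open Subgroup Cfsg.L0 Cfsg.H8 Cfsg.FT Cfsg.BS Cfsg.BS.R Cfsg.GS.T3 Cfsg.GS.Bx
open scoped commutatorElement

variable {G : Type} [Group G] {A P Y S V N K R S1 T : Subgroup G}
  {s k a b d g u v x y z : G}

section down

variable {Q : Type} [Group Q] {f : N →* Q}

theorem eq_of_f (hi : up f ⊥ ⊓ P = ⊥) {a b : N} (ha : a.1 ∈ P) (hb : b.1 ∈ P) (e : f a = f b) :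
    a.1 = b.1 := mul_inv_eq_one.1 (eq_one_of_mem hi ⟨(coe_mem_up (x := a * b⁻¹)).2 (by simp [e]),
      P.mul_mem ha (P.inv_mem hb)⟩)

theorem sq_of_f (hi : up f ⊥ ⊓ P = ⊥) {a : N} (ha : a.1 ∈ P) (e : f a * f a = 1) : a.1 * a.1 = 1 :=
  eq_of_f hi (a := a * a) (b := 1) (mul_mem ha ha) (one_mem _) (by simpa using e)

theorem f_sq {a : N} (e : a.1 * a.1 = 1) : f a * f a = 1 := by
  rw [← map_mul, show a * a = 1 from Subtype.ext e, map_one]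

theorem LP.down (l : LP A P s k) (hA : A ≤ P) (hP : P ≤ N) (hk : k ∈ N) (hi : up f ⊥ ⊓ P = ⊥) :
    LP (down f A) (down f P) (f ⟨s, hP l.sP⟩) (f ⟨k, hk⟩) := by
  have D : ∀ y ∈ H8.down f P ⊓ 𝒞₁ (f ⟨s, hP l.sP⟩), ∃ x : N, x.1 ∈ P ⊓ 𝒞₁ s ∧ f x = y := by
    rintro y ⟨h1, h2⟩
    obtain ⟨x, hx, rfl⟩ := exists_of_mem_down h1
    exact ⟨x, ⟨hx, mem_cent1.2 (eq_of_f hi (a := x * ⟨s, hP l.sP⟩) (b := ⟨s, hP l.sP⟩ * x)
      (mul_mem hx l.sP) (mul_mem l.sP hx) (by simpa using mem_cent1.1 h2))⟩, rfl⟩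
  have U : ∀ x : N, x.1 ∈ P ⊓ 𝒞₁ s → f x ∈ H8.down f P ⊓ 𝒞₁ (f ⟨s, hP l.sP⟩) := fun x hx =>
    ⟨mem_down_of_mem hx.1, mem_cent1.2 (by
      rw [← map_mul, ← map_mul]; exact congrArg f (Subtype.ext (mem_cent1.1 hx.2)))⟩
  refine ⟨mem_down_of_mem l.sP, fun e => ?_, f_sq l.ss, fun u hu e => mem_cent.2 fun x hx => ?_,
    fun a ha => ?_, fun x hx y hy e => ?_, fun a ha => ?_, fun x hx y hy e1 e2 => ?_,
    down_normalizer_le f P (mem_down_of_mem l.kP), down_normalizer_le f A (mem_down_of_mem l.kA),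
    fun a ha b hb a1 b1 => ?_, fun u hu e => ?_⟩
  · obtain ⟨a, ha, e⟩ := exists_of_mem_down e
    exact l.sA (by rwa [eq_of_f hi (hA ha) l.sP e] at ha)
  · replace hu := D u hu; obtain ⟨u, hu, rfl⟩ := hu
    replace hx := D x hx; obtain ⟨x, hx, rfl⟩ := hx
    rw [← map_mul, ← map_mul]
    exact congrArg f (Subtype.ext (mem_cent.1 (l.cV _ hu (sq_of_f hi hu.1 e)) _ hx))
  · replace ha := exists_of_mem_down ha; obtain ⟨a, ha, rfl⟩ := ha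
    obtain ⟨x, hx, e⟩ := l.onto _ ha
    refine ⟨f ⟨x, hP hx⟩, mem_down_of_mem hx, ?_⟩
    rw [← map_inv, ← map_mul, ← map_mul, ← map_mul]
    exact congrArg f (Subtype.ext e)
  · replace hy := D y hy; obtain ⟨y, hy, rfl⟩ := hy
    replace hx := D x hx; obtain ⟨x, hx, rfl⟩ := hx
    rw [← map_inv, ← map_mul]
    exact f_sq (l.inj _ hx _ hy (eq_of_f hi (a := x * x) (b := y * y) (P.mul_mem hx.1 hx.1)
      (P.mul_mem hy.1 hy.1) (by simpa using e)))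
  · replace ha := exists_of_mem_down ha; obtain ⟨a, ha, rfl⟩ := ha
    obtain ⟨x, hx, e⟩ := l.ex _ ha
    refine ⟨f ⟨x, hP hx.1⟩, U _ hx, ?_⟩
    rw [← map_mul]
    exact congrArg f (Subtype.ext e)
  · replace hy := D y hy; obtain ⟨y, hy, rfl⟩ := hy
    replace hx := D x hx; obtain ⟨x, hx, rfl⟩ := hx
    rw [← map_inv, ← map_mul f x y⁻¹]
    exact (l.cen _ hx _ hy (fun c => e1 (f_sq c)) (eq_of_f hi (a := x * y) (b := y * x)
      (P.mul_mem hx.1 hy.1) (P.mul_mem hy.1 hx.1) (by simpa using e2))).imp f_sq f_sq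
  · replace ha := exists_of_mem_down ha; obtain ⟨a, ha, rfl⟩ := ha
    replace hb := exists_of_mem_down hb; obtain ⟨b, hb, rfl⟩ := hb
    obtain ⟨n, hn⟩ := l.tr _ ha _ hb (fun c => a1 (by rw [show a = 1 from Subtype.ext c, map_one]))
      fun c => b1 (by rw [show b = 1 from Subtype.ext c, map_one])
    refine ⟨n, ?_⟩
    rw [← map_pow, ← map_inv, ← map_mul, ← map_mul]
    exact congrArg f (Subtype.ext hn)
  · replace hu := D u hu; obtain ⟨u, hu, rfl⟩ := hu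
    rw [← map_inv, ← map_inv, ← map_mul, ← map_mul, ← map_mul]
    exact mem_down_of_mem (l.kV _ hu (sq_of_f hi hu.1 e))

theorem EP.down (h : EP A P Y) (hP : P ≤ N) (hY : Y ≤ N) (hi : up f ⊥ ⊓ P = ⊥) :
    EP (down f A) (down f P) (down f Y) := by
  refine ⟨⟨isPGroup_down f h.pg, down_mono f h.le, down_le_cent f h.cA, fun a ha => ?_,
    fun x hx => ?_⟩, ?_, odd_down f h.odd, h.sol.down f, down_le_norm f h.nP, down_le_norm f h.nA,
    fun s hs sA ss => ?_, ?_⟩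
  · replace ha := exists_of_mem_down ha; obtain ⟨a, ha, rfl⟩ := ha
    exact f_sq (h.one _ ha)
  · replace hx := exists_of_mem_down hx; obtain ⟨x, hx, rfl⟩ := hx
    rw [← map_mul]
    exact mem_down_of_mem (h.sq _ hx)
  · rw [card_down_eq (h.le.trans hP) (eq_bot_of_le hi (inf_le_inf_left _ h.le))]
    exact h.big
  · replace hs := exists_of_mem_down hs; obtain ⟨s, hs, rfl⟩ := hs
    obtain ⟨k, hk, l⟩ := h.loc _ hs (fun e => sA (mem_down_of_mem e)) (sq_of_f hi hs ss)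
    exact ⟨_, mem_down_of_mem (x := ⟨k, hY hk⟩) hk, l.down h.le hP (hY hk) hi⟩
  · obtain ⟨v, hv, z, hz, h1, h2, h3⟩ := h.two
    exact ⟨f ⟨v, hP hv⟩, mem_down_of_mem hv, f ⟨z, hP hz⟩, mem_down_of_mem hz, f_sq h1, f_sq h2,
      fun e => h3 (eq_of_f hi (a := ⟨v, hP hv⟩ * ⟨z, hP hz⟩) (b := ⟨z, hP hz⟩ * ⟨v, hP hv⟩)
        (mul_mem hv hz) (mul_mem hz hv) (by rw [map_mul, map_mul]; exact e))⟩

end down

theorem LP.cj (l : LP A P s k) (hA : A ≤ P) (g : G) :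
    LP (cj g A) (cj g P) (g * s * g⁻¹) (g * k * g⁻¹) := by
  let f : (⊤ : Subgroup G) →* G := (MulAut.conj g).toMonoidHom.comp (⊤ : Subgroup G).subtype
  have e : ∀ X, H8.down f X = L0.cj g X := fun X => by
    ext x
    rw [mem_down, mem_cj]
    exact ⟨by rintro ⟨y, hy, rfl⟩; simpa [f, mul_assoc] using hy,
      fun h => ⟨⟨_, mem_top _⟩, h, by simp [f, mul_assoc]⟩⟩
  have := l.down (f := f) hA le_top (mem_top _) ((eq_bot_iff_forall _).2 fun x hx => by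
    obtain ⟨_, h⟩ := mem_up.1 hx.1
    simpa [f] using h)
  rwa [e, e] at this

theorem EP.false' [Finite G] (h : EP A P Y) : False := by
  have hN : P ⊔ Y ≤ 𝒩 (Y ⊓ 𝒞 P) := sup_le (le_norm_of_le_cent (cent_symm inf_le_right))
    (le_norm_inf (le_norm Y) (le_norm_cent h.nP))
  obtain ⟨Q, _, _, f, -, hk⟩ := exists_quo (K := Y ⊓ 𝒞 P) (M := P ⊔ Y)
    ⟨inf_le_left.trans le_sup_right, hN⟩
  have hi : Y ⊓ 𝒞 P ⊓ P = ⊥ := inf_eq_bot_of_cop (cop_of_pgroup Nat.prime_two h.pg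
    (odd_of_le h.odd inf_le_left).not_two_dvd_nat).symm
  refine (h.down (f := f) le_sup_left le_sup_right (hk ▸ hi)).false
    ((eq_bot_iff_forall _).2 fun y hy => ?_)
  obtain ⟨y, hy1, rfl⟩ := exists_of_mem_down hy.1
  have : y.1 ∈ up f ⊥ := hk ▸ ⟨hy1, mem_cent.2 fun x hx => (comm_of_c (eq_one_of_mem hi ⟨?_,
    P.mul_mem (conj_mem_of_norm (h.nP hy1) hx) (P.inv_mem hx)⟩)).symm⟩
  · exact coe_mem_up.1 this
  rw [← hk]
  refine (coe_mem_up (f := f) (x := y * ⟨x, mem_sup_left hx⟩ * y⁻¹ * ⟨x, mem_sup_left hx⟩⁻¹)).2 ?_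
  have := mem_cent.1 hy.2 _ (mem_down_of_mem (f := f) (x := ⟨x, mem_sup_left hx⟩) hx)
  rw [map_mul, map_mul, map_mul, ← this]; simp

/-- the stabilizer of `s A` in `C(A)` -/
def Hs (A : Subgroup G) (s : G) : Subgroup G where
  carrier := {g | g ∈ 𝒞 A ∧ g * s * g⁻¹ * s⁻¹ ∈ A}
  one_mem' := ⟨one_mem _, by simp⟩
  mul_mem' := fun {g g'} h h' => ⟨mul_mem h.1 h'.1, by
    have := mul_mem (conj_mem_of_norm (cent_le_norm _ h.1) h'.2) h.2
    convert this using 1; group⟩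
  inv_mem' := fun {g} h => ⟨inv_mem h.1, by
    have := conj_mem_of_norm' (cent_le_norm _ h.1) (inv_mem h.2)
    convert this using 1; group⟩

namespace L2

variable [Finite G] (h : Loc2 A S1 T R P v k)
include h

theorem CP : P ⊓ 𝒞₁ v = S1 :=
  haveI : Fact (Nat.Prime 2) := ⟨Nat.prime_two⟩
  h.syl.eq_of_le (h.p2.to_le inf_le_left) (le_inf h.le h.syl.le) inf_le_right

omit [Finite G] in
theorem vH (hu : u ∈ S1) (uu : u * u = 1) (hx : x ∈ P) : x * u * x⁻¹ * u⁻¹ ∈ A := by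
  obtain ⟨a, ha, r, hr, rfl⟩ := L1.memV h.toLoc1 hu uu
  have := mul_mem (mul_mem ha (inv_mem (h.comm x hx r hr))) (inv_mem ha)
  convert this using 1
  rw [commutatorElement_def, ← mul_assoc, ← mem_cent.1 (h.cA hx) a ha]; group

omit [Finite G] in
theorem adj (hg : g ∈ Hs A v) : ∃ t ∈ P, t⁻¹ * g ∈ 𝒞₁ v := by
  obtain ⟨t, ht, e⟩ := h.onto _ hg.2
  refine ⟨t, ht, mem_cent1.2 (comm_of_conj_eq ?_)⟩
  rw [e, mem_cent.1 (L1.AcS h.toLoc1 hg.2) v (L1.vS h.toLoc1)]; group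

theorem sylH : IsSyl 2 P (Hs A v) :=
  haveI : Fact (Nat.Prime 2) := ⟨Nat.prime_two⟩
  isSyl_of_maximal (fun x hx => ⟨h.cA hx, vH h (L1.vS h.toLoc1) (L1.vv h.toLoc1) hx⟩) h.p2
    fun Q hQ h1 h2 x hx => by
      obtain ⟨t, ht, e⟩ := adj h (h2 hx)
      have e2 := h.syl.eq_of_le (hQ.to_le inf_le_left) (le_inf (h.le.trans h1) h.syl.le) inf_le_right
      have : t⁻¹ * x ∈ S1 := e2 ▸ ⟨Q.mul_mem (Q.inv_mem (h1 ht)) hx, e⟩
      exact (P.mul_mem_cancel_left (inv_mem ht)).1 (h.le this)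

theorem lp (h2 : 2 ≤ ♯A) : LP A P v k := by
  have l := h.toLoc1
  refine ⟨h.le (L1.vS l), L1.vA l, L1.vv l, ?_, h.onto, ?_, ?_, ?_, h.kS, L1.kA l, h.tr, ?_⟩ <;>
    rw [CP h]
  · exact fun u hu => L1.cen l hu
  · exact fun x hx y hy => L1.inj l hx hy
  · intro a ha
    by_cases a1 : a = 1
    · exact ⟨1, one_mem _, by simp [a1]⟩
    obtain ⟨t, ht, tA⟩ := SetLike.not_le_iff_exists.1 (show ¬ T ≤ A from fun e => by
      have := card_le e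
      rw [h.card] at this; nlinarith)
    obtain ⟨n, hn⟩ := h.tr _ (h.sq t ht) a ha (fun e => tA (by
      simpa using h.inj t ht 1 (one_mem _) (by rw [e, mul_one]))) a1
    exact ⟨_, L1.TS l (conj_mem_of_norm (pow_mem h.kT n) ht), by rw [← hn]; group⟩
  · intro x hx y hy e1 e2
    have c1 := fun r hr => mem_cent.1 (L1.RcS l (x := r) hr)
    obtain ⟨t, ht, r, hr, rfl⟩ := Bx.L1.mem l hx
    obtain ⟨t', ht', r', hr', rfl⟩ := Bx.L1.mem l hy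
    rw [L1.sqe l ht hr] at e1
    have e3 : t ∈ 𝒞₁ t' := mem_cent1_comm.1 ((Subgroup.mul_mem_cancel_right _ (mem_cent1.2
      (c1 r' hr' t (L1.TS l ht)).symm)).1 (mem_cent1_comm.1 ((Subgroup.mul_mem_cancel_right _
        (mem_cent1.2 (c1 r hr _ hy).symm)).1 (mem_cent1.2 e2))))
    refine (h.cen t ht (fun c => e1 (h.one t c)) t' ht' (mem_cent1.1 e3)).imp
      (fun c => L1.sqV l c hr') fun c => ?_
    rw [show t * r * (t' * r')⁻¹ = t * t'⁻¹ * (r * r'⁻¹) by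
      rw [mul_assoc t t'⁻¹, c1 _ (mul_mem hr (inv_mem hr')) _ (inv_mem (L1.TS l ht'))]; group]
    exact L1.sqV l c (mul_mem hr (inv_mem hr'))
  · exact fun u hu => L1.kV l hu

theorem cu (a2 : All2 A) (hu : u ∈ S1) (uu : u * u = 1) (uA : u ∉ A) (hx : x ∈ P)
    (e : x * u = u * x) : x ∈ S1 := by
  have : Fact (Nat.Prime 2) := ⟨Nat.prime_two⟩
  have l := h.toLoc1
  obtain ⟨S', hS, hle⟩ := exists_isSyl_ge (h.p2.to_le inf_le_left) (inf_le_right : P ⊓ 𝒞₁ u ≤ _)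
  have h1 : S1 ≤ S' := (le_inf h.le (le_cent1_iff.2 (L1.cen l hu uu))).trans hle
  obtain ⟨T', R', P', k', h'⟩ := a2 u S' ⟨fun e => uA (e ▸ one_mem _), uu⟩ uA (L1.ScA l hu) hS
    ((L1.AS l).trans h1)
  rw [← CP h]
  exact ⟨hx, mem_cent1.2 (mem_cent.1 (L1.cen h'.toLoc1 (h1 (L1.vS l)) (L1.vv l)) x
    (hle ⟨hx, mem_cent1.2 e⟩))⟩

theorem pa (a2 : All2 A) (hz : z ∈ P) (zz : z * z = 1) (zS : z ∉ S1) : PA A P := by
  have l := h.toLoc1
  refine ⟨h.p2, (L1.AS l).trans h.le, h.cA, h.one, fun x hx => ?_⟩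
  have zt : ∀ z ∈ P, z * z = 1 → z ∉ S1 → ∀ t ∈ S1, z * t * z⁻¹ * t⁻¹ ∈ A := fun z hz zz zS t ht => by
    have h1 := conj_mem_of_norm (h.n1 hz) ht
    have h2 := L1.inj l h1 ht (by
      calc _ = z * (t * t) * z⁻¹ := by group
        _ = _ := by rw [← mem_cent.1 (h.cA hz) _ (L1.sqA l ht)]; group)
    by_contra c
    refine zS (cu h a2 (mul_mem h1 (inv_mem ht)) h2 c hz ?_)
    nth_rw 2 [← inv_of_sq h2]
    calc _ = z * z * (t * z⁻¹ * t⁻¹) := by group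
      _ = t * z * t⁻¹ := by rw [zz, inv_of_sq zz, one_mul]
      _ = _ := by group
  by_cases c : x ∈ S1
  · exact L1.sqA l c
  have ne : ∀ x ∈ P, x ∉ S1 → x * v * x⁻¹ * v⁻¹ ≠ 1 := fun x hx c e =>
    c (CP h ▸ ⟨hx, mem_cent1.2 (comm_of_c e)⟩)
  obtain ⟨n, hn⟩ := h.tr _ (vH h (L1.vS l) (L1.vv l) hz) _ (vH h (L1.vS l) (L1.vv l) hx)
    (ne z hz zS) (ne x hx c)
  have h1 := conj_mem_of_norm (pow_mem h.kS n) hz
  have h2 : (k ^ n * z * (k ^ n)⁻¹)⁻¹ * x ∈ S1 := CP h ▸ ⟨P.mul_mem (P.inv_mem h1) hx,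
    mem_cent1.2 (comm_of_conj_eq (by
      have e := mem_cent.1 (pow_mem h.kR n) v h.vR
      calc _ = k ^ n * z * (k ^ n)⁻¹ * (v * k ^ n) * z⁻¹ * (v * k ^ n)⁻¹ * v := by group
        _ = k ^ n * (z * v * z⁻¹ * v⁻¹) * (k ^ n)⁻¹ * v := by rw [e]; group
        _ = _ := by rw [hn]; group))⟩
  have h3 := conj_sq (k ^ n) zz
  have h4 : k ^ n * z * (k ^ n)⁻¹ ∉ S1 := fun e => c ((S1.mul_mem_cancel_left (inv_mem e)).1 h2)
  generalize k ^ n * z * (k ^ n)⁻¹ = w at h1 h2 h3 h4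
  have := mul_mem (zt w h1 h3 h4 _ h2) (L1.sqA l h2)
  convert this using 1
  calc _ = x * (w * w)⁻¹ * x := by rw [h3]; group
    _ = _ := by group

theorem loc (a2 : All2 A) (h2 : 2 ≤ ♯A) (hp : PA A P) (hs : s ∈ P) (sA : s ∉ A) (ss : s * s = 1) :
    ∃ k, LP A P s k ∧ IsSyl 2 (P ⊓ 𝒞₁ s) (𝒞₁ s) := by
  have : Fact (Nat.Prime 2) := ⟨Nat.prime_two⟩
  have l := h.toLoc1
  obtain ⟨S', hS, hle⟩ := exists_isSyl_ge (hp.pg.to_le hp.le) ((hp.AS hs).trans inf_le_right)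
  obtain ⟨T', R', P', k', h'⟩ := a2 s S' ⟨fun e => sA (e ▸ one_mem _), ss⟩ sA (hp.cA hs) hS hle
  obtain ⟨g, hg, e⟩ := (sylH h').exists_cj_le hp.pg fun x hx => ⟨hp.cA hx, hp.c hx hs⟩
  obtain ⟨t, ht, e2⟩ := adj h' hg
  have e3 : P ≤ cj (t⁻¹ * g)⁻¹ P' := by
    rw [← cj_le_iff, cj_mul]; exact cj_le_of_mem (inv_mem ht) e
  have e4 : t⁻¹ * g ∈ 𝒞 A := mul_mem (inv_mem (h'.cA ht)) hg.1
  generalize t⁻¹ * g = c at e2 e3 e4
  have hv : c * v * c⁻¹ ∈ P' := by simpa using mem_cj.1 (e3 (h.le (L1.vS l)))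
  have vv := conj_sq c (L1.vv l)
  have e5 : cj c⁻¹ P' = P := (sylH h).eq_of_le (isPGroup_cj h'.p2 _) e3 fun x hx => by
    have hx' : c * x * c⁻¹ ∈ P' := by simpa using mem_cj.1 hx
    refine ⟨by simpa [mul_assoc] using mul_mem (mul_mem (inv_mem e4) (h'.cA hx')) e4, ?_⟩
    have : c * x * c⁻¹ * (c * v * c⁻¹) * (c * x * c⁻¹)⁻¹ * (c * v * c⁻¹)⁻¹ ∈ A := by
      by_cases c1 : c * v * c⁻¹ ∈ S'
      · exact vH h' c1 vv hx'
      · exact (pa h' a2 hv vv c1).c hx' hv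
    have := conj_mem_of_norm' (cent_le_norm _ e4) this
    convert this using 1; group
  have e6 : c⁻¹ * s * c⁻¹⁻¹ = s := by rw [mem_cent1.1 (inv_mem e2)]; group
  have l' := (lp h' h2).cj ((L1.AS h'.toLoc1).trans h'.le) c⁻¹
  rw [e5, e6, cj_eq_of_mem_cent (inv_mem e4)] at l'
  have e7 := hS.cj c⁻¹
  rw [← CP h', cj_inf, e5, cj_cent1, e6] at e7
  exact ⟨_, l', e7⟩

end L2

end Cfsg.GS.Cx

namespace Cfsg.GS.T3

open Subgroup Cfsg.L0 Cfsg.H8 Cfsg.FT Cfsg.BS Cfsg.BS.R Cfsg.GS.Bx Cfsg.GS.Cx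

theorem taskL3 : TaskL3 := by
  intro G _ _ S A hm a2 S1 T R P v k h z hz zz
  by_contra zS
  have : Fact (Nat.Prime 2) := ⟨Nat.prime_two⟩
  have h2 : 2 ≤ ♯A := by have := hm.big; omega
  have hp := L2.pa h a2 hz zz zS
  have l := L2.lp h h2
  have nA : 𝒩 P ≤ 𝒩 A := fun g hg => mem_normalizer_of_forall fun a ha => by
    obtain ⟨x, hx, rfl⟩ := l.ex a ha
    have := hp.sq _ (conj_mem_of_norm hg hx.1)
    convert this using 1; group
  have syl : IsSyl 2 P (𝒩 P) := ⟨le_norm P, hp.pg, fun d => by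
    obtain ⟨g, hg, h3, h4⟩ := exists_pow_mem_of_dvd_relIndex le_rfl d
    rw [sq] at h4
    obtain ⟨s, hs, sA, ss, e⟩ := hp.fix_sing (by
      have := card_lt (l.ltV hp)
      rw [l.cardP hp]
      have h0 := card_pos' A
      calc ♯A ^ 3 = ♯A * (♯A * ♯A) := by ring
        _ < _ := by gcongr) hg (nA hg) h4
    obtain ⟨k', l', e2⟩ := L2.loc h a2 h2 hp hs sA ss
    obtain ⟨x, hx, e3⟩ := l'.onto _ e
    have e4 : x⁻¹ * g ∈ 𝒞₁ s := mem_cent1.2 (comm_of_conj_eq (by rw [e3, ← hp.cm e hs]; group))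
    have e5 : x⁻¹ * g ∈ 𝒩 P := mul_mem (inv_mem (le_norm P hx)) hg
    have := e2.mem_of_mem_normalizer e4 ⟨3, by
      have : x⁻¹ * g * (x⁻¹ * g) ∈ P := by
        have := mul_mem (mul_mem (inv_mem hx) (conj_mem_of_norm hg (inv_mem hx))) h4
        convert this using 1; group
      rw [show 2 ^ 3 = 2 * 4 by norm_num, pow_mul, sq, hp.p4 this]⟩
      (le_norm_inf (zpowers_le.2 e5) (zpowers_le.2 (le_norm _ e4)) (mem_zpowers _))
    exact h3 ((P.mul_mem_cancel_left (inv_mem hx)).1 this.1)⟩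
  obtain ⟨Y, sd, hY⟩ := exists_sd_syl Nat.prime_two syl le_rfl
  have ho : Odd ♯Y := Nat.not_even_iff_odd.1 fun e => hY e.two_dvd
  refine EP.false' (A := A) (P := P) (Y := Y) ⟨hp, hm.big, ho, hm.ft Y ho, sd.norm,
    sd.norm.trans nA, fun s hs sA ss => ?_, v, l.sP, z, hz, l.ss, zz,
    fun e => zS (L2.CP h ▸ ⟨hz, mem_cent1.2 e.symm⟩)⟩
  obtain ⟨k', l', -⟩ := L2.loc h a2 h2 hp hs sA ss
  obtain ⟨x, hx, y, hy, rfl⟩ := sd.mem l'.kP
  have act : ∀ a ∈ A, y * a * y⁻¹ = x * y * a * (x * y)⁻¹ := fun a ha => by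
    rw [← hp.cj (conj_mem_of_norm (nA (sd.norm hy)) ha) hx]; group
  refine ⟨y, hy, { l' with
    kP := sd.norm hy
    kA := nA (sd.norm hy)
    tr := fun a ha b hb a1 b1 => ?_
    kV := fun u hu uu => ?_ }⟩
  · obtain ⟨n, hn⟩ := l'.tr a ha b hb a1 b1
    exact ⟨n, by rw [pow_act l'.kA act n a ha, hn]⟩
  · have := mul_mem (inv_mem (hp.c hx (conj_mem_of_norm (sd.norm hy) hu.1))) (l'.kV u hu uu)
    convert this using 1; group

end Cfsg.GS.T3
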