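import Cfsg.Agent.GS.F2

/-! Lemmas for the completeness of signalizer functors: involutions acting on groups of odd order,
orbits on an irreducible elementary abelian `2`-group. -/

set_option autoImplicit false
set_option linter.unusedSectionVars false

namespace Cfsg.GS.SFx

open Subgroup Cfsg.L0 Cfsg.H8 Cfsg.FT Cfsg.BS Cfsg.BS.R Cfsg.GS.T3
open scoped commutatorElement

variable {G : Type} [Group G] [Finite G] {A B C E H K R T U V : Subgroup G} {a b c g x y : G}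

theorem inv_cent (ha : a * a = 1) (ho : Odd ♯R) (hn : a ∈ 𝒩 R) (h0 : R ⊓ 𝒞₁ a = ⊥)
    (hK : K ≤ 𝒩 R) : ⁅K, zpowers a⁆ ≤ 𝒞 R := commutator_le.2 fun k hk x hx => by
  rcases mem_zp2 ha hx with rfl | rfl
  · simp
  refine mem_cent.2 fun r hr => ?_
  have h1 := BS.inverts_of_fpf ha hn ho h0 hr
  have h2 := BS.inverts_of_fpf ha hn ho h0 (conj_mem_of_norm' (hK hk) (inv_mem hr))
  rw [commutatorElement_def, inv_eq_of_mul_eq_one_right ha]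
  calc r * (k * x * k⁻¹ * x) = k * (k⁻¹ * r⁻¹ * k)⁻¹ * x * k⁻¹ * x := by group
    _ = k * x * k⁻¹ * r⁻¹ * k * (x * x) * k⁻¹ * x := by rw [← h2]; simp only [mul_assoc]
    _ = k * x * k⁻¹ * x * r * (x * x) := by rw [ha, ← h1, ← ha]; simp [mul_assoc, ha]
    _ = _ := by rw [ha, mul_one]

theorem abel_of_fpf (ha : a * a = 1) (ho : Odd ♯R) (hn : a ∈ 𝒩 R) (h0 : R ⊓ 𝒞₁ a = ⊥) : Abel R :=
  fun x hx => mem_cent.2 fun y hy => comm_of_inverts (z := a) (fun u hu => by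
    rw [inv_eq_of_mul_eq_one_right ha]; exact BS.inverts_of_fpf ha hn ho h0 hu) y hy x hx

theorem eig (hA : Elem 2 A) (ho : Odd ♯K) (hn : A ≤ 𝒩 K) (ha : a ∈ A) (h1 : K ⊓ 𝒞₁ a ≤ T)
    (h2 : ¬ K ≤ T) : ∃ g ∈ K, g ∉ T ∧ a * g * a = g⁻¹ ∧ ∃ B, Hy A B ∧ g ∈ 𝒞 B := by
  by_contra! c
  refine h2 (genH hA ho hn fun B hB x hx => ?_)
  obtain ⟨k, k1, k2, k3⟩ := BS.exists_inv_cent (sq1 hA ha)
    (le_norm_inf hn (le_norm_cent (hA.abel.le_norm hB.le)) ha) (odd_of_le ho inf_le_left) hx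
  simpa using mul_mem (not_not.1 fun q => c k k1.1 q k2 B hB k1.2)
    (h1 ⟨K.mul_mem (K.inv_mem k1.1) hx.1, k3⟩)

theorem Hy.normz (hB : Hy A B) (hA : Elem 2 A) (ha : a ∈ A) (hg : g ∈ 𝒞 B) (h : a * g * a = g⁻¹)
    (ho : Odd (orderOf g)) : A ≤ 𝒩 (zpowers g) := fun e he => by
  have n : B ≤ 𝒩 (zpowers g) := le_norm_of_le_cent (cent_symm (zpowers_le.2 hg))
  by_cases q : a ∈ B
  · rw [eq_one_of_inv_comm ho (sq1 hA ha) h (mem_cent.1 hg a q), zpowers_one_eq_bot, norm_bot]; trivial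
  by_cases r : e ∈ B
  · exact n r
  · exact (mul_mem_cancel_right (mem_norm_zpowers (sq1 hA ha) h)).1 (n (hB.mul e he a ha r q))

theorem exx (hA : Elem 2 A) (ho : Odd ♯K) (hn : A ≤ 𝒩 K) (h0 : K ≠ ⊥) :
    ∃ x ∈ K, x ≠ 1 ∧ ∀ y ∈ zpowers x, A ≤ 𝒩 (zpowers y) := by
  by_cases q : A ≤ 𝒞 K
  · obtain ⟨x, h1, h2⟩ := exists_ne_one h0
    exact ⟨x, h1, h2, fun y hy => le_norm_of_cent q (zpowers_le.2 (zpowers_le.2 h1 hy))⟩
  obtain ⟨a, ha, h1⟩ := SetLike.not_le_iff_exists.1 q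
  obtain ⟨x, x1, x2, x3, B, hB, x4⟩ := eig hA ho hn ha inf_le_right (mt le_cent1_iff.1 h1)
  exact ⟨x, x1, fun e => x2 (e ▸ one_mem _), fun y hy => hB.normz hA ha (zpowers_le.2 x4 hy)
    (inv_pow' (sq1 hA ha) x3 hy) (odd_of_mem ho (zpowers_le.2 x1 hy))⟩

theorem wie (hn : E ≤ 𝒩 K) (h : Reg K E) (h1 : K ≠ ⊥) (h2 : E ≠ ⊥) (n1 : K ≤ 𝒩 U) (n2 : E ≤ 𝒩 U)
    (c1 : (♯U).Coprime ♯K) (c2 : (♯U).Coprime ♯E) (hs : Sol U) :
    ♯U = (𝒞 K).relIndex (U ⊓ 𝒞 E) ^ ♯E * ♯(U ⊓ 𝒞 K) := by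
  have := G3.wielandt (mk_frob hn h h1 h2) (sup_le n1 n2)
    ((c1.mul_right c2).of_dvd_right (card_sup_dvd hn)) hs
  rw [← card_inf_mul_ri (𝒞 K) (U ⊓ 𝒞 E), cent_sup, inf_left_comm, mul_pow, mul_assoc] at this
  exact Nat.eq_of_mul_eq_mul_left (pow_pos (card_pos' _) _) this

theorem Hy.third_hy (h : Hy A B) (h' : Hy A C) : Hy A (h.third h') :=
  ⟨fun _ q => q.1, fun x hx y hy h1 h2 => ⟨mul_mem hx hy, by
    have h1 : ¬ (x ∈ B ↔ x ∈ C) := fun q => h1 ⟨hx, q⟩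
    have h2 : ¬ (y ∈ B ↔ y ∈ C) := fun q => h2 ⟨hy, q⟩
    have := h.mul x hx y hy
    have := h'.mul x hx y hy
    have := fun q : x ∈ B => mul_mem_cancel_left (y := y) q
    have := fun q : x ∈ C => mul_mem_cancel_left (y := y) q
    have := fun q : y ∈ B => mul_mem_cancel_right (y := x) q
    have := fun q : y ∈ C => mul_mem_cancel_right (y := x) q
    grind⟩⟩

theorem Hy.sup (h : Hy A B) (hA : Abel A) (h1 : U ≤ A) (h2 : V ≤ A) (h3 : A ≤ U ⊔ V) :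
    Hy A ((U ⊓ B) ⊔ V) := ⟨sup_le (inf_le_left.trans h1) h2, fun x hx y hy h4 h5 => by
  obtain ⟨u, u1, v, v1, rfl⟩ := (mem_sup_r (h1.trans (hA.le_norm h2))).1 (h3 hx)
  obtain ⟨w, w1, z, z1, rfl⟩ := (mem_sup_r (h1.trans (hA.le_norm h2))).1 (h3 hy)
  rw [mul_assoc, ← mul_assoc v, hA.comm (h2 v1) (h1 w1), mul_assoc, ← mul_assoc]
  exact mul_mem_sup ⟨mul_mem u1 w1, h.mul u (h1 u1) w (h1 w1) (fun q => h4 (mul_mem_sup ⟨u1, q⟩ v1))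
    fun q => h5 (mul_mem_sup ⟨w1, q⟩ z1)⟩ (mul_mem v1 z1)⟩

theorem mem_of_sup (hn : U ≤ 𝒩 V) (h : V ⊓ U = ⊥) (h1 : x ∈ U) (h2 : x ∈ (U ⊓ B) ⊔ V) : x ∈ B := by
  have := dedekind_l (B := V) (inf_le_left : U ⊓ B ≤ U) (inf_le_left.trans hn)
  rw [h, sup_bot_eq] at this
  exact (this.le ⟨h2, h1⟩).2

theorem blocks (hi : Irr A) (hA : Elem 2 A) (h2 : 2 < ♯A) (ha : a ∈ sharp A) (hB : Hy A B)
    (h1 : a ∉ B) (h : ∀ n ∈ 𝒩 A, n * a * n⁻¹ ∈ B → n ∈ H) : 𝒩 A ≤ H := fun m hm => by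
  by_contra m1
  have key : ∀ n ∈ 𝒩 A, ∀ k ∈ 𝒩 A, n * a * n⁻¹ ∈ cj k B → k⁻¹ * n ∈ H := fun n hn k hk q =>
    h _ (mul_mem (inv_mem hk) hn) (by simpa [mul_assoc] using mem_cj.1 q)
  obtain ⟨n₀, n1, n2⟩ := meet hi h2 ha hB
  have cl : ∀ (P Q : G → Prop) (g : G), g ∈ 𝒩 A → (∀ n, P n → Q (g * n)) →
      cj g (closure {x | ∃ n ∈ 𝒩 A, P n ∧ n * a * n⁻¹ = x}) ≤
        closure {x | ∃ n ∈ 𝒩 A, Q n ∧ n * a * n⁻¹ = x} := fun P Q g hg q => by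
    rw [← cj_le_cj_iff g⁻¹, cj_inv_cj, closure_le]
    rintro _ ⟨n, a1, a2, rfl⟩
    exact mem_cj.2 (subset_closure ⟨g * n, mul_mem hg a1, q n a2, by group⟩)
  have lA : ∀ P : G → Prop, closure {x | ∃ n ∈ 𝒩 A, P n ∧ n * a * n⁻¹ = x} ≤ A := fun P =>
    (closure_le _).2 fun _ ⟨n, a1, _, a2⟩ => a2 ▸ conj_mem_of_norm a1 ha.1
  have c1 := fun g hg (q : g ∉ H) => cl (· ∈ H) (· ∉ H) g hg fun n a b =>
    q ((mul_mem_cancel_right a).1 b)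
  have c2 := fun g hg (q : g ∈ H) => cl (· ∉ H) (· ∉ H) g hg fun n a b =>
    a ((mul_mem_cancel_left q).1 b)
  have u1 : ∀ n ∈ 𝒩 A, n ∈ H → n * a * n⁻¹ ∈ closure {x | ∃ n ∈ 𝒩 A, n ∈ H ∧ n * a * n⁻¹ = x} :=
    fun n a1 a2 => subset_closure ⟨n, a1, a2, rfl⟩
  have v1 : ∀ n ∈ 𝒩 A, n ∉ H → n * a * n⁻¹ ∈ closure {x | ∃ n ∈ 𝒩 A, n ∉ H ∧ n * a * n⁻¹ = x} :=
    fun n a1 a2 => subset_closure ⟨n, a1, a2, rfl⟩
  have v2 : closure {x | ∃ n ∈ 𝒩 A, n ∉ H ∧ n * a * n⁻¹ = x} ≤ hB.third (hB.cj n1) := by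
    rw [closure_le]
    rintro _ ⟨n, a1, a2, rfl⟩
    exact ⟨conj_mem_of_norm a1 ha.1, iff_of_false (fun q => a2 (h n a1 q)) fun q =>
      a2 ((mul_mem_cancel_left (inv_mem (h n₀ n1 n2))).1 (key n a1 n₀ n1 q))⟩
  have lU := lA (· ∈ H)
  have lV := lA (· ∉ H)
  generalize closure {x | ∃ n ∈ 𝒩 A, n ∈ H ∧ n * a * n⁻¹ = x} = U at c1 u1 lU
  generalize closure {x | ∃ n ∈ 𝒩 A, n ∉ H ∧ n * a * n⁻¹ = x} = V at c1 c2 v1 v2 lV
  have l : (⨅ n ∈ 𝒩 A, cj n V) ≤ V := (iInf₂_le 1 (one_mem _)).trans (cj_one V).le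
  have e : U ⊓ V = ⊥ := eq_bot_of_le ((hi _ (l.trans lV) fun g hg => mem_norm_of_cj_le
    (le_iInf₂ fun n hn => (cj_mono g (iInf₂_le (g⁻¹ * n) (mul_mem (inv_mem hg) hn))).trans
      (by rw [← cj_mul, mul_inv_cancel_left]))).resolve_right fun q => h1 (by
        simpa [mul_assoc] using mem_cj.1 ((v2 (l (q.ge (conj_mem_of_norm n1 ha.1)))).2.1 n2)))
    (le_iInf₂ fun n hn => le_cj_iff.2 (by
      by_cases q : n⁻¹ ∈ H
      · exact (cj_mono _ inf_le_right).trans (c2 _ (inv_mem hn) q)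
      · exact (cj_mono _ inf_le_left).trans (c1 _ (inv_mem hn) q)))
  have s : A ≤ U ⊔ V := span hi ha fun n hn => by
    by_cases q : n ∈ H
    exacts [mem_sup_left (u1 n hn q), mem_sup_right (v1 n hn q)]
  obtain ⟨n, a1, -, a2⟩ := meet hi h2 ha (((hB.cj hm).sup hA.abel lU lV s).third_hy
    (hB.sup hA.abel lV lU (sup_comm U V ▸ s)))
  by_cases q : n ∈ H
  · exact m1 (inv_mem_iff.1 ((mul_mem_cancel_right q).1 (key n a1 m hm (mem_of_sup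
      (lU.trans (hA.abel.le_norm lV)) (inf_comm U V ▸ e) (u1 n a1 q) (a2.2 (mem_sup_right (u1 n a1 q)))))))
  · exact q (h n a1 (mem_of_sup (lV.trans (hA.abel.le_norm lU)) e (v1 n a1 q)
      (a2.1 (mem_sup_right (v1 n a1 q)))))

theorem tr8 (hi : Irr A) (hA : Elem 2 A) (h8 : ♯A = 8) (ha : a ∈ sharp A) (hc : c ∈ sharp A) :
    ∃ n ∈ 𝒩 A, n * a * n⁻¹ = c := by
  by_contra h
  obtain ⟨Z, z1, z2, hZ⟩ : ∃ Z : G → Prop, Z a ∧ ¬ Z c ∧ ∀ B, Hy A B →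
      (∃ x ∈ sharp B, Z x) ∧ ∃ x ∈ sharp B, ¬ Z x := by
    refine ⟨fun x => ∃ n ∈ 𝒩 A, n * a * n⁻¹ = x, ⟨1, one_mem _, by simp⟩, h, fun B hB => ?_⟩
    obtain ⟨n, n1, n2⟩ := meet hi (by omega) ha hB
    obtain ⟨m, m1, m2⟩ := meet hi (by omega) hc hB
    exact ⟨⟨_, ⟨n2, (conj_sharp n1 ha).2⟩, n, n1, rfl⟩, _, ⟨m2, (conj_sharp m1 hc).2⟩,
      fun ⟨k, k1, k2⟩ => h ⟨m⁻¹ * k, mul_mem (inv_mem m1) k1, by
        rw [show c = m⁻¹ * (m * c * m⁻¹) * m by group, ← k2]; group⟩⟩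
  have n : ∀ {x y}, x ∈ A → y ∈ A → zpowers y ≤ 𝒩 (zpowers x) := fun hx hy =>
    (zpowers_le.2 hy).trans (hA.abel.le_norm (zpowers_le.2 hx))
  have o : ∀ {x}, x ∈ sharp A → ♯(zpowers x) = 2 := fun hx => by
    rw [card_zpow, hA.orderOf_eq Nat.prime_two hx.1 hx.2]
  have line : ∀ x ∈ sharp A, ∀ y ∈ sharp A, x ≠ y →
      (Z x ∨ Z y ∨ Z (x * y)) ∧ (¬ Z x ∨ ¬ Z y ∨ ¬ Z (x * y)) := fun x hx y hy ne => by
    have l := sup_le (zpowers_le.2 hx.1) (zpowers_le.2 hy.1)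
    have h1 := card_lt (left_lt_sup.2 fun q => (mem_zp2 (sq1 hA hx.1) (q (mem_zpowers y))).elim hy.2 ne.symm)
    have h2 := card_mul_ri l
    rw [o hx] at h1
    have m : ∀ z ∈ sharp (zpowers x ⊔ zpowers y), z = x ∨ z = y ∨ z = x * y := fun z hz => by
      obtain ⟨u, u1, v, v1, rfl⟩ := (mem_sup_l (n hx.1 hy.1)).1 hz.1
      rcases mem_zp2 (sq1 hA hx.1) u1 with rfl | rfl <;> rcases mem_zp2 (sq1 hA hy.1) v1 with rfl | rfl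
      exacts [absurd (mul_one 1) hz.2, by simp, by simp, by simp]
    obtain ⟨⟨u, u1, u2⟩, v, v1, v2⟩ := hZ _ (hy_of_dvd l (by
      generalize (zpowers x ⊔ zpowers y).relIndex A = r at h2
      have : r ∣ 8 := h8 ▸ Dvd.intro_left _ h2
      have : r < 3 := by nlinarith
      interval_cases r <;> simp_all))
    exact ⟨by rcases m u u1 with rfl | rfl | rfl <;> simp [u2],
      by rcases m v v1 with rfl | rfl | rfl <;> simp [v2]⟩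
  have ac : a ≠ c := fun q => z2 (q ▸ z1)
  obtain ⟨e, e1, e2⟩ := SetLike.not_le_iff_exists.1 fun q : A ≤ zpowers a ⊔ zpowers c => by
    have := (card_le q).trans (Nat.le_of_dvd (by rw [o ha, o hc]; omega) (card_sup_dvd (n ha.1 hc.1)))
    rw [o ha, o hc] at this
    omega
  have ma : a ∈ zpowers a ⊔ zpowers c := mem_sup_left (mem_zpowers a)
  have mc : c ∈ zpowers a ⊔ zpowers c := mem_sup_right (mem_zpowers c)
  have line' : ∀ x ∈ sharp A, x ∈ zpowers a ⊔ zpowers c → ∀ y ∈ zpowers a ⊔ zpowers c, y ∈ A →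
      (Z x ∨ Z (y * e) ∨ Z (x * (y * e))) ∧ (¬ Z x ∨ ¬ Z (y * e) ∨ ¬ Z (x * (y * e))) :=
    fun x hx h1 y h2 h3 => line x hx (y * e) ⟨mul_mem h3 e1, fun q =>
      e2 ((mul_mem_cancel_left h2).1 (q ▸ one_mem _))⟩ fun q => e2 ((mul_mem_cancel_left h2).1 (q ▸ h1))
  have hac : a * c ∈ sharp A := ⟨mul_mem ha.1 hc.1, fun q =>
    ac (by rw [eq_inv_of_mul_eq_one_left q, inv_eq_of_mul_eq_one_left (sq1 hA hc.1)])⟩
  have l1 := line a ha c hc ac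
  have l2 := line' a ha ma 1 (one_mem _) (one_mem _)
  have l3 := line' c hc mc 1 (one_mem _) (one_mem _)
  have l4 := line' _ hac (mul_mem ma mc) 1 (one_mem _) (one_mem _)
  have l5 := line' a ha ma c mc hc.1
  have l6 := line' c hc mc a ma ha.1
  have l7 := line' _ hac (mul_mem ma mc) a ma ha.1
  rw [one_mul] at l2 l3 l4
  rw [← mul_assoc] at l5
  rw [← mul_assoc, ← hA.abel.comm ha.1 hc.1] at l6
  rw [hA.abel.comm ha.1 hc.1, mul_assoc c, ← mul_assoc a, sq1 hA ha.1, one_mul,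
    ← hA.abel.comm ha.1 hc.1] at l7
  generalize Z a = z₁, Z c = z₂, Z (a * c) = z₃, Z e = z₄, Z (a * e) = z₅, Z (c * e) = z₆,
    Z (a * c * e) = z₇ at *
  clear * - z1 z2 l1 l2 l3 l4 l5 l6 l7
  grind

end Cfsg.GS.SFx
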