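import Cfsg.Agent.GS.T3
import Cfsg.Agent.BS.R1

/-! Signalizer functors for an elementary abelian `2`-group: hyperplanes, the lemma K1,
completeness inside a group of odd order. -/

set_option autoImplicit false
set_option linter.unusedSectionVars false

namespace Cfsg.GS.SFx

open Subgroup Cfsg.L0 Cfsg.H8 Cfsg.FT Cfsg.BS Cfsg.BS.R Cfsg.GS.T3
open scoped commutatorElement

section defs
variable {G : Type} [Group G]

/-- `B` has index at most two in `A` -/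
structure Hy (A B : Subgroup G) : Prop where
  le : B ≤ A
  mul : ∀ x ∈ A, ∀ y ∈ A, x ∉ B → y ∉ B → x * y ∈ B

/-- signalizer functor -/
structure Fn (A : Subgroup G) (θ : G → Subgroup G) : Prop where
  elem : Elem 2 A
  big : 8 ≤ ♯A
  odd : ∀ a ∈ sharp A, Odd ♯(θ a)
  cen : ∀ a ∈ sharp A, θ a ≤ 𝒞₁ a
  inv : ∀ a ∈ sharp A, A ≤ 𝒩 (θ a)
  bal : ∀ a ∈ sharp A, ∀ b ∈ sharp A, θ a ⊓ 𝒞₁ b ≤ θ b

/-- `θ`-subgroup -/
structure In (A : Subgroup G) (θ : G → Subgroup G) (U : Subgroup G) : Prop where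
  odd : Odd ♯U
  inv : A ≤ 𝒩 U
  le : ∀ a ∈ sharp A, U ⊓ 𝒞₁ a ≤ θ a

/-- `⟨θ a : a ∈ A#⟩` -/
def Gn (A : Subgroup G) (θ : G → Subgroup G) : Subgroup G := ⨆ a ∈ sharp A, θ a

end defs

variable {G : Type} [Group G] [Finite G] {A B C K M U V X Y : Subgroup G} {θ : G → Subgroup G}
  {a b g x y : G} {p : ℕ}

theorem hy_of_dvd (h : B ≤ A) (h2 : B.relIndex A ∣ 2) : Hy A B := ⟨h, fun x hx y hy h3 h4 => by
  rcases (Nat.dvd_prime Nat.prime_two).1 h2 with q | q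
  · exact absurd (relIndex_eq_one.1 q hx) h3
  · exact (mul_mem_iff_of_index_two q (a := ⟨x, hx⟩) (b := ⟨y, hy⟩)).2 (iff_of_false h3 h4)⟩

theorem Hy.card (h : Hy A B) : ♯A ≤ 2 * ♯B := by
  have : B.relIndex A ∣ 2 := relIndex_dvd_two_iff.2 (by
    by_cases q : A ≤ B
    · exact ⟨1, one_mem _, fun b hb => .inr (q hb)⟩
    · obtain ⟨x, hx, h1⟩ := SetLike.not_le_iff_exists.1 q
      exact ⟨x, hx, fun b hb => or_iff_not_imp_right.2 fun h2 => h.mul b hb x hx h2 h1⟩)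
  rw [← card_mul_ri h.le, mul_comm]
  exact Nat.mul_le_mul_right _ (Nat.le_of_dvd two_pos this)

theorem Hy.cj (h : Hy A B) (hg : g ∈ 𝒩 A) : Hy A (cj g B) :=
  ⟨(cj_mono g h.le).trans (cj_eq_of_mem_norm hg).le, fun x hx y hy h1 h2 => by
    rw [mem_cj] at h1 h2 ⊢
    simpa [mul_assoc] using h.mul _ (conj_mem_of_norm' hg hx) _ (conj_mem_of_norm' hg hy) h1 h2⟩

theorem Hy.inf (h : Hy A B) (hC : C ≤ A) : Hy C (B ⊓ C) :=
  ⟨inf_le_right, fun x hx y hy h1 h2 => ⟨h.mul x (hC hx) y (hC hy) (fun q => h1 ⟨q, hx⟩)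
    fun q => h2 ⟨q, hy⟩, mul_mem hx hy⟩⟩

/-- the third hyperplane -/
def Hy.third (h : Hy A B) (h' : Hy A C) : Subgroup G where
  carrier := {x | x ∈ A ∧ (x ∈ B ↔ x ∈ C)}
  one_mem' := ⟨one_mem _, iff_of_true (one_mem _) (one_mem _)⟩
  inv_mem' hx := ⟨inv_mem hx.1, by simpa using hx.2⟩
  mul_mem' {x y} hx hy := ⟨mul_mem hx.1 hy.1, by
    by_cases q : x ∈ B
    · rw [mul_mem_cancel_left q, mul_mem_cancel_left (hx.2.1 q), hy.2]
    by_cases r : y ∈ B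
    · rw [mul_mem_cancel_right r, mul_mem_cancel_right (hy.2.1 r), hx.2]
    exact iff_of_true (h.mul x hx.1 y hy.1 q r) (h'.mul x hx.1 y hy.1 (mt hx.2.2 q) (mt hy.2.2 r))⟩

theorem ncyc (hA : Elem 2 A) (h : 2 < ♯A) : ¬ Cyc A := fun q =>
  (hA.card_le_of_cyc Nat.prime_two q).not_gt h

theorem cop2 (hA : Elem 2 A) (ho : Odd ♯K) : (♯K).Coprime ♯A :=
  (cop_of_pgroup Nat.prime_two hA.pgroup ho.not_two_dvd_nat).symm

theorem caE (hA : Elem 2 A) (ho : Odd ♯K) (hn : A ≤ 𝒩 K) : CA A K :=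
  mkCA_p Nat.prime_two hn hA.pgroup ho.not_two_dvd_nat

theorem genH (hA : Elem 2 A) (ho : Odd ♯K) (hn : A ≤ 𝒩 K) (h : ∀ B, Hy A B → K ⊓ 𝒞 B ≤ M) :
    K ≤ M :=
  gen_cent_hyp Nat.prime_two hA hn ho.not_two_dvd_nat fun B h1 h2 => h B (hy_of_dvd h1 h2)

theorem gen1 (hA : Elem 2 A) (h2 : 2 < ♯A) (ho : Odd ♯K) (hn : A ≤ 𝒩 K)
    (h : ∀ a ∈ sharp A, K ⊓ 𝒞₁ a ≤ M) : K ≤ M :=
  gen_cent1 hA.abel (ncyc hA h2) hn (cop2 hA ho) fun a h1 h2 => h a ⟨h1, h2⟩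

theorem sq1 (hA : Elem 2 A) (h : a ∈ A) : a * a = 1 := by rw [← sq, hA.pow h]

theorem conj_sharp (hg : g ∈ 𝒩 A) (h : a ∈ sharp A) : g * a * g⁻¹ ∈ sharp A :=
  ⟨conj_mem_of_norm hg h.1, fun q => h.2 (by simpa using q)⟩

theorem le_norm_closure {S : Set G} (h : ∀ g ∈ M, ∀ x ∈ S, g * x * g⁻¹ ∈ S) : M ≤ 𝒩 (closure S) :=
  fun g hg => inv_mem_iff.1 (mem_norm_of_cj_le (le_cj_iff.1 ((closure_le _).2 fun x hx =>
    mem_cj.2 (subset_closure (by simpa using h g⁻¹ (inv_mem hg) x hx)))))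

/-- (0): an orbit of `N(A)` on `A#` generates `A` and meets every hyperplane -/
theorem span (hi : Irr A) (ha : a ∈ sharp A) (h : ∀ n ∈ 𝒩 A, n * a * n⁻¹ ∈ K) : A ≤ K := by
  have l : closure {x | ∃ n ∈ 𝒩 A, n * a * n⁻¹ = x} ≤ A ⊓ K :=
    (closure_le _).2 fun _ ⟨n, h1, h2⟩ => h2 ▸ ⟨conj_mem_of_norm h1 ha.1, h n h1⟩
  refine ((hi _ (l.trans inf_le_left) (le_norm_closure ?_)).resolve_left
    (ne_bot_of_mem (subset_closure ⟨1, one_mem _, by simp⟩) ha.2)).ge.trans (l.trans inf_le_right)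
  rintro g hg _ ⟨n, h1, rfl⟩
  exact ⟨g * n, mul_mem hg h1, by group⟩

theorem meet (hi : Irr A) (h2 : 2 < ♯A) (ha : a ∈ sharp A) (hB : Hy A B) :
    ∃ n ∈ 𝒩 A, n * a * n⁻¹ ∈ B := by
  by_contra! h
  rcases hi B hB.le (fun g hg => mem_norm_of_cj_le fun x hx =>
    (span (K := hB.third (hB.cj hg)) hi ha (fun n hn => ⟨conj_mem_of_norm hn ha.1,
    iff_of_false (h n hn) fun q => h (g⁻¹ * n) (mul_mem (inv_mem hg) hn)
      (by simpa [mul_assoc] using mem_cj.1 q)⟩) ((hB.cj hg).le hx)).2.2 hx) with q | q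
  · have := hB.card
    rw [q, card_bot'] at this
    omega
  · exact h 1 (one_mem _) (by simpa [q] using ha.1)

/-- K1 -/
theorem k1 (hs : Sol X) (ho : Odd ♯X) (ha : a * a = 1) (hn : a ∈ 𝒩 X) (hp : p.Prime)
    (hY : IsPGroup p Y) (h1 : Y ≤ X) (h2 : a ∈ 𝒩 Y) (h3 : X ⊓ 𝒞₁ a ≤ 𝒩 Y) :
    ⁅Y, zpowers a⁆ ≤ Op {p} X := by
  have za := zpowers_le.2 hn
  obtain ⟨Q, _, _, f, -, e⟩ := exists_quo ((nrm_sup_left za).Op {p})
  have l : X ≤ X ⊔ zpowers a := le_sup_left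
  have ma : a ∈ X ⊔ zpowers a := mem_sup_right (mem_zpowers a)
  have b : down f X ⊓ 𝒞₁ (f ⟨a, ma⟩) ≤ 𝒩 (down f Y) := by
    rw [← cent_zpowers, ← down_zpowers, ← (ca2 ha hn ho).down_cent f le_sup_right, cent_zpowers]
    exact down_le_norm f h3
  have n1 : f ⟨a, ma⟩ ∈ 𝒩 (down f X) := down_normalizer_le f X (mem_down_of_mem hn)
  have n2 : f ⟨a, ma⟩ ∈ 𝒩 (down f Y) := down_normalizer_le f Y (mem_down_of_mem h2)
  have t2 : f ⟨a, ma⟩ * f ⟨a, ma⟩ = 1 := by rw [← map_mul, ← map_one f]; congr 1; exact Subtype.ext ha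
  rw [← e, ← down_eq_bot_iff ((comm_le_sup _ _).trans (sup_le_sup_right h1 _)),
    down_commutator f (h1.trans l) le_sup_right, down_zpowers f ⟨a, ma⟩]
  have o3 := Op_down_eq_bot l e
  have y1 := isPGroup_down f hY
  have y2 := down_mono f h1
  have o2 := odd_down f ho
  have s2 := hs.down f
  generalize down f X = X at *
  generalize down f Y = Y at *
  generalize f ⟨a, ma⟩ = t at *
  by_cases t1 : t = 1
  · simp [t1]
  have c : (♯(Fit X)).Coprime ♯Y := (cop_of_pgroup hp y1 fun d => ((Fit_nil X).Op_syl hp).ne_bot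
    (hp := ⟨hp⟩) d ((Op_Fit hp X).trans o3)).symm
  have c0 := inf_eq_bot_of_cop c
  have w := comm_le_left (zpowers_le.2 n2)
  have nF := y2.trans (Fit_nrm X).norm
  refine eq_bot_of_le c0 (le_inf ((le_inf (w.trans y2) (GW.Mx.k0 t2 t1 (odd_of_le o2 (Fit_le X))
    (Fit_nil X).sol (odd_of_le o2 y2) c (norm_le_norm_Fit X n1) n2 nF ?_)).trans (cent_Fit_le s2)) w)
  exact comm_eq_bot_iff.1 (eq_bot_of_le c0 (le_inf (comm_le_of_le_of_norm' inf_le_left (w.trans nF))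
    (comm_le_of_le_of_norm w ((inf_le_inf_right _ (Fit_le X)).trans b))))

theorem le_Gn (h : a ∈ sharp A) : θ a ≤ Gn A θ := le_iSup₂_of_le (f := fun a _ => θ a) a h le_rfl

theorem Gn_le (h : ∀ a ∈ sharp A, θ a ≤ K) : Gn A θ ≤ K := iSup₂_le h

theorem In.sub (h : In A θ U) (h1 : V ≤ U) (h2 : A ≤ 𝒩 V) : In A θ V :=
  ⟨odd_of_le h.odd h1, h2, fun a ha => (inf_le_inf_right _ h1).trans (h.le a ha)⟩

theorem in_bot : In A θ ⊥ := ⟨by simp, norm_bot.ge.trans' le_top, fun _ _ => by simp⟩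

namespace Fn
variable (h : Fn A θ)
include h

theorem two : 2 < ♯A := by have := h.big; omega

theorem hy (hB : Hy A B) : 2 < ♯B := by have := h.big; have := hB.card; omega

theorem ex (hB : Hy A B) : ∃ b, b ∈ sharp B :=
  exists_ne_one (ne_bot_of_card (by have := h.hy hB; omega))

theorem self (ha : a ∈ sharp A) : In A θ (θ a) := ⟨h.odd a ha, h.inv a ha, h.bal a ha⟩

theorem le_of (hU : In A θ U) (h1 : ∀ a ∈ sharp A, θ a ⊓ U ≤ K) : U ≤ K :=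
  gen1 h.elem h.two hU.odd hU.inv fun a ha => (le_inf (hU.le a ha) inf_le_left).trans (h1 a ha)

theorem norm_Gn : A ≤ 𝒩 (Gn A θ) := fun g hg => inv_mem_iff.1 (mem_norm_of_cj_le (le_cj_iff.1
  (Gn_le fun a ha => (cj_eq_of_mem_norm (h.inv a ha hg)).ge.trans (cj_mono g (le_Gn ha)))))

theorem inf (hK : A ≤ 𝒩 K) : Fn A fun a => θ a ⊓ K :=
  ⟨h.elem, h.big, fun a ha => odd_of_le (h.odd a ha) inf_le_left,
    fun a ha => inf_le_left.trans (h.cen a ha), fun a ha => le_norm_inf (h.inv a ha) hK,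
    fun a ha b hb => le_inf ((inf_le_inf_right _ inf_le_left).trans (h.bal a ha b hb))
      (inf_le_left.trans inf_le_right)⟩

theorem sub (hB : B ≤ A) (h8 : 8 ≤ ♯B) : Fn B θ :=
  have s : ∀ {a}, a ∈ sharp B → a ∈ sharp A := fun q => ⟨hB q.1, q.2⟩
  ⟨h.elem.mono hB, h8, fun a q => h.odd a (s q), fun a q => h.cen a (s q),
    fun a q => hB.trans (h.inv a (s q)), fun a q b r => h.bal a (s q) b (s r)⟩

end Fn

/-- (1): a signalizer functor inside a group of odd order is complete -/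
theorem complete (hFT : OddOrder) (h : Fn A θ) (ho : Odd ♯(Gn A θ)) : In A θ (Gn A θ) := by
  induction hn : ♯(Gn A θ) using Nat.strong_induction_on generalizing G with | _ n ih
  have nW := h.norm_Gn
  by_cases h0 : ∀ Q, Q < Gn A θ → Gn A θ ≤ 𝒩 Q → A ≤ 𝒩 Q → ∀ a ∈ sharp A, θ a ⊓ Q = ⊥
  · by_cases h1 : ∀ b ∈ sharp A, θ b = ⊥
    · rw [eq_bot_iff.2 (Gn_le fun b hb => (h1 b hb).le)]; exact in_bot
    simp only [not_forall] at h1
    obtain ⟨b, hb, h1⟩ := h1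
    have zb := zpowers_le.2 hb.1
    have l := comm_le_left (zb.trans nW)
    refine (h.self hb).sub (Gn_le fun a ha => le_trans (le_inf le_rfl ?_) (h.bal a ha b hb)) nW
    rw [← cent_zpowers, ← comm_eq_bot_iff']
    refine eq_bot_of_le (h0 _ (lt_of_le_of_ne l fun q => h1 ?_) (left_le_norm_comm _ _)
      (le_norm_comm nW (h.elem.abel.le_norm zb)) a ha)
      (le_inf (comm_le_left (zb.trans (h.inv a ha))) (comm_mono (le_Gn ha) le_rfl))
    refine eq_bot_of_le (h0 _ (Sol.der_lt (hFT _ ho) (ne_bot_of_le h1 (le_Gn hb))) (der_nrm _).norm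
      (le_norm_comm nW nW) b hb) (le_inf le_rfl ((le_inf (le_Gn hb) ?_).trans
        (inf_cent_le_der (zb.trans nW) (cop2 (h.elem.mono zb) ho) q)))
    rw [cent_zpowers]; exact h.cen b hb
  simp only [not_forall] at h0
  obtain ⟨Q, q1, q2, q3, a, ha, q4⟩ := h0
  have l : Gn A (fun a => θ a ⊓ Q) < Gn A θ := (Gn_le fun _ _ => inf_le_right).trans_lt q1
  have hK := ih _ (hn ▸ card_lt l) (h.inf q3) (odd_of_le ho l.le) rfl
  have k0 : ∀ a ∈ sharp A, θ a ⊓ Q ≤ Gn A fun a => θ a ⊓ Q := fun a ha =>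
    le_Gn (θ := fun a => θ a ⊓ Q) ha
  generalize Gn A (fun a => θ a ⊓ Q) = K at l hK k0
  have nK : Gn A θ ≤ 𝒩 K := Gn_le fun c hc => genH h.elem (h.odd c hc) (h.inv c hc) fun B hB g hg =>
    inv_mem_iff.1 (mem_norm_of_cj_le (le_cj_iff.1 (gen1 (h.elem.mono hB.le) (h.hy hB) hK.odd
      (hB.le.trans hK.inv) fun b hb => by
        have hb' : b ∈ sharp A := ⟨hB.le hb.1, hb.2⟩
        exact (hK.le b hb').trans ((cj_eq_of_mem_norm (le_norm_inf (le_norm _)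
          ((le_Gn hb').trans q2) (h.bal c hc b hb' ⟨hg.1, cent_le_cent1 hb.1 hg.2⟩))).ge.trans
          (cj_mono g (k0 b hb'))))))
  obtain ⟨Y, _, _, f, -, e⟩ := exists_quo (M := Gn A θ ⊔ A) ⟨l.le.trans le_sup_left, sup_le nK hK.inv⟩
  have inj : Set.InjOn f {a | (a : G) ∈ A} := fun x hx y hy q => by
    refine Subtype.ext (mul_inv_eq_one.1 (eq_one_of_mem (inf_eq_bot_of_cop (cop2 h.elem hK.odd))
      ⟨e.le (coe_mem_up.2 (show f (x * y⁻¹) ∈ ⊥ by simp [q])), A.mul_mem hx (A.inv_mem hy)⟩))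
  let σ : Y → G := fun y => Subtype.val (Function.invFunOn f {a | (a : G) ∈ A} y)
  have σ1 : ∀ x : ↥(Gn A θ ⊔ A), (x : G) ∈ A → σ (f x) = x := fun x hx =>
    congrArg Subtype.val (inj.leftInvOn_invFunOn hx)
  have sh : ∀ y ∈ sharp (down f A), ∃ x : ↥(Gn A θ ⊔ A), (x : G) ∈ sharp A ∧ f x = y :=
    fun y hy => let ⟨x, h1, h2⟩ := mem_down.1 hy.1
      ⟨x, ⟨h1, fun q => hy.2 (by rw [← h2, show x = 1 from Subtype.ext q, map_one])⟩, h2⟩
  have sh' : ∀ x : ↥(Gn A θ ⊔ A), (x : G) ∈ sharp A → f x ∈ sharp (down f A) := fun x hx =>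
    ⟨mem_down_of_mem hx.1, fun q => hx.2 (congrArg Subtype.val
      (inj hx.1 (A.one_mem) (q.trans (map_one f).symm)))⟩
  have dc : ∀ U, Odd ♯U → A ≤ 𝒩 U → ∀ x : ↥(Gn A θ ⊔ A), (x : G) ∈ A →
      down f (U ⊓ 𝒞₁ (x : G)) = down f U ⊓ 𝒞₁ (f x) := fun U o n x hx => by
    rw [← cent_zpowers, ← cent_zpowers, ← down_zpowers,
      (ca2 (sq1 h.elem hx) (n hx) o).down_cent f (zpowers_le.2 x.2)]
  have hf : Fn (down f A) fun y => down f (θ (σ y)) := by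
    refine ⟨h.elem.down f, (card_down_eq le_sup_right
      (e ▸ inf_eq_bot_of_cop (cop2 h.elem hK.odd))).symm ▸ h.big, fun y hy => ?_, fun y hy => ?_,
      fun y hy => ?_, fun y hy z hz => ?_⟩ <;> obtain ⟨x, hx, rfl⟩ := sh y hy <;> rw [σ1 x hx.1]
    · exact odd_down f (h.odd x hx)
    · rw [← inf_eq_left, ← dc _ (h.odd x hx) (h.inv x hx) x hx.1, inf_eq_left.2 (h.cen x hx)]
    · exact down_le_norm f (h.inv x hx)
    · obtain ⟨w, hw, rfl⟩ := sh z hz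
      rw [σ1 w hw.1, ← dc _ (h.odd x hx) (h.inv x hx) w hw.1]
      exact down_mono f (h.bal x hx w hw)
  have eG : Gn (down f A) (fun y => down f (θ (σ y))) = down f (Gn A θ) := by
    refine le_antisymm (Gn_le fun y hy => ?_) ((down_le_iff' le_sup_left).2 (Gn_le fun c hc => ?_))
    · obtain ⟨x, hx, rfl⟩ := sh y hy
      rw [σ1 x hx.1]; exact down_mono f (le_Gn hx)
    · rw [← down_le_iff' ((le_Gn hc).trans le_sup_left)]
      exact (le_Gn (sh' ⟨c, mem_sup_right hc.1⟩ hc)).trans' (by rw [σ1 _ hc.1])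
  have hW := ih _ (by
    rw [eG, ← hn]
    exact card_down_lt le_sup_left (by rw [e, inf_eq_left.2 l.le]; exact ne_bot_of_le q4 (k0 a ha)))
    hf (eG ▸ odd_down f ho) rfl
  refine ⟨ho, nW, fun c hc => ?_⟩
  have := hW.le _ (sh' ⟨c, mem_sup_right hc.1⟩ hc)
  rw [eG, ← dc _ ho nW _ hc.1, σ1 _ hc.1, down_le_down_iff (inf_le_left.trans le_sup_left)
    ((le_Gn hc).trans le_sup_left), e] at this
  refine (le_inf this inf_le_right).trans ?_
  rw [dedekind_l (h.cen c hc) ((le_Gn hc).trans nK)]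
  exact sup_le le_rfl ((hK.le c hc).trans inf_le_left)

/-- (1) for a functor defined on `A \ C` -/
theorem complete_ker (hFT : OddOrder) (hA : Elem 2 A) (hC : C ≤ A) (h8 : 8 * ♯C ≤ ♯A)
    (cen : ∀ a ∈ A, a ∉ C → θ a ≤ 𝒞₁ a) (inv : ∀ a ∈ A, a ∉ C → A ≤ 𝒩 (θ a))
    (bal : ∀ a ∈ A, ∀ b ∈ A, a ∉ C → b ∉ C → θ a ⊓ 𝒞₁ b ≤ θ b) (ho : Odd ♯X)
    (hX : ∀ a ∈ A, a ∉ C → θ a ≤ X) :
    ∃ W, W ≤ X ∧ A ≤ 𝒩 W ∧ (∀ a ∈ A, a ∉ C → W ⊓ 𝒞₁ a = θ a) ∧
      ∀ K, (∀ a ∈ A, a ∉ C → θ a ≤ K) → W ≤ K := by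
  obtain ⟨B, -, hB⟩ := G4.maschke (A := ⊥) Nat.prime_two hA hC bot_le bot_le (by simp)
  have s : ∀ b ∈ sharp B, b ∈ A ∧ b ∉ C := fun b hb =>
    ⟨hB.le_right hb.1, fun q => hb.2 (eq_one_of_mem hB.sd.inf ⟨q, hb.1⟩)⟩
  have od := fun a h1 h2 => odd_of_le ho (hX a h1 h2)
  have h : Fn B θ := ⟨hA.mono hB.le_right, Nat.le_of_mul_le_mul_left
    (by rw [← hB.card, mul_comm]; exact h8) (card_pos' C), fun b q => od b (s b q).1 (s b q).2,
    fun b q => cen b (s b q).1 (s b q).2, fun b q => hB.le_right.trans (inv b (s b q).1 (s b q).2),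
    fun a q b r => bal a (s a q).1 b (s b r).1 (s a q).2 (s b r).2⟩
  have l : Gn B θ ≤ X := Gn_le fun b q => hX b (s b q).1 (s b q).2
  have hW := complete hFT h (odd_of_le ho l)
  refine ⟨_, l, fun g hg => inv_mem_iff.1 (mem_norm_of_cj_le (le_cj_iff.1 (Gn_le fun b q =>
    (cj_eq_of_mem_norm (inv b (s b q).1 (s b q).2 hg)).ge.trans (cj_mono g (le_Gn q))))),
    fun a h1 h2 => le_antisymm (gen1 h.elem h.two (odd_of_le hW.odd inf_le_left)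
      (le_norm_inf hW.inv (le_norm_cent1 (le_cent1_iff.2 (cent_anti hB.le_right (hA.1 h1)))))
      fun b q => ?_) (le_inf (gen1 h.elem h.two (od a h1 h2) (hB.le_right.trans (inv a h1 h2))
      fun b q => (bal a h1 b (s b q).1 h2 (s b q).2).trans (le_Gn q)) (cen a h1 h2)),
    fun K hK => Gn_le fun b q => hK b (s b q).1 (s b q).2⟩
  rw [inf_right_comm]
  exact (inf_le_inf_right _ (hW.le b q)).trans (bal b (s b q).1 a h1 (s b q).2 h2)

end Cfsg.GS.SFx
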