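import Cfsg.Agent.GS.K1
import Cfsg.Agent.GS.F1

/-! The uniqueness case for groups of order prime to `3`, 1: the normal closure of a strongly
closed elementary abelian subgroup in a group with trivial core. -/

set_option autoImplicit false

namespace Cfsg.GS.Ux

open Subgroup Cfsg.L0 Cfsg.H8 Cfsg.FT Cfsg.BS Cfsg.BS.R Cfsg.GS.T3
open scoped commutatorElement

theorem szg_mono {G H : Type} [Group G] [Group H] (h : SzG G) (h2 : Involves H G) : SzG H :=
  fun Y _ _ h3 => h Y (involves_trans h3 h2)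

theorem iso_congr {G H : Type*} [Group G] [Group H] (e : G ≃* H) (h : Lie.IsoSuzuki H) :
    Lie.IsoSuzuki G := by
  obtain ⟨F, _, _, m, a, b, ⟨ψ⟩⟩ := h
  exact ⟨F, _, _, m, a, b, ⟨e.trans ψ⟩⟩

section
variable {G : Type} [Group G] {A B C D H K L S T Y Z : Subgroup G} {a b c g k x y z : G}

theorem comm_eq_sq (x y : G) : ⁅x, y⁆ = x * x * (x⁻¹ * y * (x⁻¹ * y)) * (y⁻¹ * y⁻¹) := by
  rw [commutatorElement_def]; group

theorem der_le_of_sq (h : ∀ x ∈ T, x * x ∈ D) : ⁅T, T⁆ ≤ D := commutator_le.2 fun x hx y hy => by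
  rw [comm_eq_sq]
  exact mul_mem (mul_mem (h x hx) (h _ (mul_mem (inv_mem hx) hy))) (h _ (inv_mem hy))

theorem pow_conj_mem (hk : k ∈ 𝒩 T) (hx : x ∈ T) (n : ℕ) : k ^ n * x * (k ^ n)⁻¹ ∈ T :=
  conj_mem_of_norm (pow_mem hk n) hx

theorem conj_mul_self (g x : G) : g * x * g⁻¹ * (g * x * g⁻¹) = g * (x * x) * g⁻¹ := by group

namespace S2
variable (h : S2G A T k)
include h

theorem AT : A ≤ T := h.ctr ▸ inf_le_left
theorem AcT : A ≤ 𝒞 T := h.ctr ▸ inf_le_right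
theorem kA : k ∈ 𝒩 A := h.ctr ▸ norm_le_norm_ctr T h.kT

theorem mem_of_sq (hx : x ∈ T) (h1 : x * x = 1) : x ∈ A := by
  simpa using h.inj x hx 1 (one_mem _) (by rw [h1, one_mul])

theorem comm_mem (hx : x ∈ T) (hy : y ∈ T) : ⁅x, y⁆ ∈ A :=
  der_le_of_sq h.sq (commutator_mem_commutator hx hy)

/-- the torus is transitive on the non-trivial cosets of the centre -/
theorem trT (hx : x ∈ T) (hy : y ∈ T) (h1 : x ∉ A) (h2 : y ∉ A) :
    ∃ n : ℕ, k ^ n * x * (k ^ n)⁻¹ * y⁻¹ ∈ A := by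
  obtain ⟨n, e⟩ := h.tr _ (h.sq x hx) _ (h.sq y hy) (fun e => h1 (mem_of_sq h hx e))
    fun e => h2 (mem_of_sq h hy e)
  exact ⟨n, h.inj _ (pow_conj_mem h.kT hx n) y hy (by rw [conj_mul_self, e])⟩

theorem exists_not_mem [Finite G] (h1 : 1 < ♯A) : ∃ x ∈ T, x ∉ A := by
  by_contra! e
  have := card_le (show T ≤ A from e)
  rw [h.card] at this
  nlinarith

theorem exists_sq [Finite G] (h1 : 1 < ♯A) (ha : a ∈ A) : ∃ x ∈ T, x * x = a := by
  by_cases e : a = 1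
  · exact ⟨1, one_mem _, by rw [e, one_mul]⟩
  obtain ⟨x, hx, x1⟩ := exists_not_mem h h1
  obtain ⟨n, e⟩ := h.tr _ (h.sq x hx) a ha (fun e => x1 (mem_of_sq h hx e)) e
  exact ⟨_, pow_conj_mem h.kT hx n, by rw [conj_mul_self, e]⟩

theorem eq_one_of_fix [Finite G] (h2 : 2 < ♯A) (ha : a ∈ A) (hc : k * a = a * k) : a = 1 := by
  by_contra e
  have : A ≤ zpowers a := fun b hb => by
    by_cases e' : b = 1
    · exact e' ▸ one_mem _
    obtain ⟨n, rfl⟩ := h.tr a ha b hb e e'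
    rw [((show Commute k a from hc).pow_left n).eq, mul_inv_cancel_right]
    exact mem_zpowers a
  have h3 := card_le this
  rw [card_zpow] at h3
  exact absurd (h3.trans (orderOf_le_of_pow_eq_one two_pos (by rw [sq, h.one a ha]))) (by omega)

end S2

theorem eight (h : SzP L T k) : 8 ≤ ♯(𝒵 T) := by
  obtain ⟨e, -, h3, h4⟩ := h.deg
  exact h4 ▸ Nat.pow_le_pow_right (n := 2) (i := 3) two_pos h3

end

theorem goldIn {H : Type} [Group H] (h : SzG H) : GoldIn H := by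
  intro G _ _ h1 h2 h3 S A hne ha hA
  have i := h G h1 h2 h3
  refine ⟨.inr (.inr (.inl i)), ?_⟩
  obtain ⟨k, p⟩ := Kx.k0 G ⊤ S (iso_congr topEquiv i) (isSyl_sylow S)
  have s := p.s2g
  have a := abel_iff.2 ha
  have z : 𝒵 (S : Subgroup G) ≤ A := by
    obtain ⟨y, hy, y2⟩ := exists_orderOf_eq Nat.prime_two
      (dvd_card_of_pgroup Nat.prime_two (S.isPGroup'.to_le hA.1) hne)
    have y3 : y * y = 1 := by rw [← sq, ← y2, pow_orderOf_eq_one]
    intro b hb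
    by_cases e : b = 1
    · exact e ▸ one_mem _
    obtain ⟨n, rfl⟩ := s.tr y (S2.mem_of_sq s (hA.1 hy) y3) b hb
      (fun e => by simp [e] at y2) e
    exact hA.2 y hy _ hb.1
  refine le_antisymm (fun x hx => ?_) (Om_le_iff.2 fun x hx e => z (S2.mem_of_sq s hx (by rwa [← sq])))
  refine mem_Om (hA.1 hx) (by_contra fun e => ?_)
  have x1 : x ∉ 𝒵 (S : Subgroup G) := fun e' => e (by rw [sq, s.one x e'])
  refine x1 ⟨hA.1 hx, mem_cent.2 fun y hy => ?_⟩
  by_cases e' : y ∈ 𝒵 (S : Subgroup G)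
  · exact a.comm (z e') hx
  obtain ⟨n, h4⟩ := S2.trT s (hA.1 hx) hy x1 e'
  have := mul_mem (inv_mem (z h4)) (hA.2 x hx (k ^ n) (pow_conj_mem s.kT (hA.1 hx) n))
  exact a.comm (by simpa [mul_assoc] using this) hx

variable {G : Type} [Group G] [Finite G] {A B C D H K L S T Y Z : Subgroup G} {a b c g k x y z : G}

theorem sc_of_le (hS : IsSyl 2 S ⊤) (h : SC A S ⊤) (hT : IsPGroup 2 T) (h1 : A ≤ T) : SC A T ⊤ := by
  obtain ⟨g, -, hg⟩ := hS.exists_cj_le hT le_top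
  have n := h.mem_norm (mem_top g) ((cj_mono g h1).trans hg)
  refine ⟨h1, fun x hx u _ h2 => ?_⟩
  have := conj_mem_of_norm' n (h.conj hx (mem_top (g * u))
    (by simpa [mul_assoc] using hg (conj_mem_cj h2)))
  simpa [mul_assoc] using this

omit [Finite G] in
theorem ncl_le' (h : A ≤ H) : ncl H A ≤ H := ncl_le h (le_norm H)

theorem frat (hS : IsSyl 2 S H) (h : SC A S H) (hg : g ∈ H) :
    ∃ u ∈ ncl H A, ∃ n ∈ 𝒩 A, g = u * n := by
  have l := ncl_le' (h.le.trans hS.le)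
  obtain ⟨u, hu, m, hm, rfl⟩ := (hS.inf l (hS.le.trans (le_normalizer_ncl H A))).frattini
    (le_normalizer_ncl H A hg)
  exact ⟨u, hu, m, h.mem_norm ((mul_mem_cancel_left (l hu)).1 hg)
    ((cj_le_of_le (le_inf h.le (le_ncl H A)) hm).trans inf_le_left), rfl⟩

theorem frat_le (hS : IsSyl 2 S H) (h : SC A S H) (h1 : ncl H A ≤ K) (h2 : 𝒩 A ≤ K) : H ≤ K :=
  fun g hg => by
    obtain ⟨u, hu, n, hn, rfl⟩ := frat hS h hg
    exact mul_mem (h1 hu) (h2 hn)

theorem st0 (hz : SzG H) (hS : IsSyl 2 S H) (h : SC A S H) (ha : Abel A) (ho : O2 H = ⊥) :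
    ∃ (Q : Type) (_ : Group Q) (_ : Finite Q) (f : ncl H A →* Q), Function.Surjective f ∧
      up f ⊥ ≤ A ∧ up f ⊥ ≤ 𝒞 (ncl H A) ∧ IsSyl 2 (down f S) ⊤ ∧ L1 (down f S) (down f A) := by
  set K := ncl H A with hK
  have l : K ≤ H := ncl_le' (h.le.trans hS.le)
  have n : K ⊴ H := ⟨l, le_normalizer_ncl H A⟩
  have AK : A ≤ K := le_ncl H A
  have h1 : IsSyl 2 (S ⊓ K) K := hS.inf l (hS.le.trans n.norm)
  have h2 : IsSyl 2 (S.subgroupOf K) ⊤ := by simpa using h1.subgroupOf_top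
  have h3 : SC (A.subgroupOf K) (S.subgroupOf K) ⊤ :=
    ⟨fun _ hx => h.le hx, fun x hx g _ h4 => h.2 x hx g (l g.2) h4⟩
  have h4 : Abel (A.subgroupOf K) := fun x hx => mem_cent.2 fun y hy => Subtype.ext (ha.comm hy hx)
  have h5 : normalClosure (A.subgroupOf K : Set K) = ⊤ := by
    refine map_injective K.subtype_injective ?_
    rw [← MonoidHom.range_eq_map, range_subtype, map_normalClosure_eq_ncl AK]
    refine le_antisymm (ncl_le' AK) (ncl_le_iff.2 fun g hg => ?_)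
    obtain ⟨u, hu, m, hm, rfl⟩ := frat hS h hg
    rw [cj_mul, cj_eq_iff.2 hm]
    exact cj_le_ncl A hu
  have h6 : Op {2}ᶜ (⊤ : Subgroup K) = ⊥ := by
    rw [Op_top_compl, ← H7.pPrimeCoreOf_eq_bot_iff, ← Op_compl_eq Nat.prime_two]
    exact eq_bot_of_le ho (Op_le_Op_of_nrm _ n)
  have hs := QuotientGroup.mk'_surjective (pCore 2 K)
  have p := level2 ((goldIn hz).hg.mono (involves_of_le l)) hs
    (by rw [QuotientGroup.ker_mk', Op_top_two]) h2 h3 h4 h5 h6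
  refine ⟨_, _, inferInstance, _, hs, ?_, ?_, ?_, p.l1⟩
  · rintro _ ⟨x, hx, rfl⟩
    exact p.le hx
  · rintro _ ⟨x, hx, rfl⟩
    exact mem_cent.2 fun y hy => congrArg Subtype.val (mem_center_iff.1 (p.ctr hx) ⟨y, hy⟩)
  · exact map_top_of_surjective _ hs ▸ h2.map _

end Cfsg.GS.Ux
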