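import Cfsg.Agent.GS.K3
import Cfsg.Agent.GS.U1
import Cfsg.Agent.GS.B2
import Cfsg.Agent.GS.F3

/-! Task L4 of `GS/T3`, part 1: the action on the cosets of `M`. -/

set_option autoImplicit false

namespace Cfsg.GS.Dx

open Subgroup Cfsg.L0 Cfsg.H8 Cfsg.FT Cfsg.BS Cfsg.BS.R Cfsg.GS.T3 Cfsg.GS.Kx MulAction
open scoped commutatorElement

variable {G : Type} [Group G] {S A M V H K P T X : Subgroup G} {a b c g u v x y z : G}
  {γ δ : G ⧸ M}

/-- the base point -/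
def pt (M : Subgroup G) : G ⧸ M := ((1 : G) : G ⧸ M)

theorem smul_pt : g • pt M = pt M ↔ g ∈ M := by
  rw [pt, Quotient.smul_mk, smul_eq_mul, mul_one, QuotientGroup.eq, mul_one, inv_mem_iff]

theorem exists_pt (γ : G ⧸ M) : ∃ g : G, g • pt M = γ := by
  obtain ⟨g, rfl⟩ := QuotientGroup.mk_surjective γ
  exact ⟨g, by rw [pt, Quotient.smul_mk, smul_eq_mul, mul_one]⟩

theorem fix_conj : (g * x * g⁻¹) • g • γ = g • γ ↔ x • γ = γ := by
  rw [mul_smul, inv_smul_smul, mul_smul, smul_left_cancel_iff]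

theorem fix_iff : x • g • pt M = g • pt M ↔ g⁻¹ * x * g ∈ M := by
  rw [← smul_pt, mul_smul, mul_smul, inv_smul_eq_iff]

theorem fix_mul (h : x • γ = γ) (h' : (x * y) • γ = γ) : y • γ = γ := by
  rw [mul_smul] at h'
  exact smul_left_cancel x (h'.trans h.symm)

theorem fix_mul' (h : y • γ = γ) (h' : (x * y) • γ = γ) : x • γ = γ := by
  rwa [mul_smul, h] at h'

theorem fix_comm (h : x • γ = γ) (hc : g * x = x * g) : x • g • γ = g • γ := by
  rw [← mul_smul, ← hc, mul_smul, h]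

/-- the elements fixing the orbit of the base point under `H` -/
def Fx (M H : Subgroup G) : Subgroup G where
  carrier := {g | ∀ h ∈ H, g • h • pt M = h • pt M}
  one_mem' _ _ := one_smul _ _
  mul_mem' h h' k hk := by rw [mul_smul, h' k hk, h k hk]
  inv_mem' h k hk := inv_smul_eq_iff.2 (h k hk).symm

theorem Fx_le : Fx M H ≤ M := fun _ h => smul_pt.1 (by simpa using h 1 (one_mem _))

theorem le_norm_Fx : H ≤ 𝒩 (Fx M H) := by
  have : ∀ g ∈ H, ∀ x ∈ Fx M H, g * x * g⁻¹ ∈ Fx M H := fun g hg x hx h hh => by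
    have := hx (g⁻¹ * h) (mul_mem (inv_mem hg) hh)
    rwa [← fix_conj (g := g), mul_smul g⁻¹, smul_inv_smul] at this
  exact fun g hg => mem_normalizer_iff.2 fun x => ⟨this g hg x, fun hx => by
    simpa [mul_assoc] using this _ (inv_mem hg) _ hx⟩

theorem ini_conj (h : InI A x) (g : G) : InI A (g * x * g⁻¹) := by
  obtain ⟨h1, k, h2⟩ := h
  exact ⟨conj_ne_one h1 g, k * g⁻¹, by simpa [mul_assoc] using h2⟩

theorem ini_conj_iff : InI A (g * x * g⁻¹) ↔ InI A x :=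
  ⟨fun h => by simpa [mul_assoc] using ini_conj h g⁻¹, fun h => ini_conj h g⟩

theorem ini_of_mem (h : a ∈ A) (h1 : a ≠ 1) : InI A a := ⟨h1, 1, by simpa using h⟩

theorem pg_two (hx : x * x = 1) (hy : y * y = 1) (h : x * y = y * x) :
    IsPGroup 2 ↥(zpowers x ⊔ zpowers y) :=
  isPGroup_two_of_involutions hx hy (k := 1) (by
    rw [pow_one, sq, mul_assoc, ← mul_assoc y, ← h, mul_assoc, hy, mul_one, hx])

theorem card_orb (H : Subgroup G) : (orbit H (pt M)).ncard = M.relIndex H := by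
  rw [← index_stabilizer, relIndex]
  congr 1
  ext g
  exact smul_pt

theorem mem_orb : γ ∈ orbit H (pt M) ↔ ∃ g ∈ H, g • pt M = γ :=
  ⟨fun ⟨g, e⟩ => ⟨g, g.2, e⟩, fun ⟨g, hg, e⟩ => ⟨⟨g, hg⟩, e⟩⟩

variable [Finite G]

namespace U
variable (h : UC S A M)
include h

theorem SN : S ≤ 𝒩 A := h.sc.le_norm le_top
theorem SM : S ≤ M := (SN h).trans h.nA
omit [Finite G] in
theorem AM : A ≤ M := (le_norm A).trans h.nA
theorem syM : IsSyl 2 S M := h.syl.mono (SM h) le_top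
omit [Finite G] in
theorem aa (ha : a ∈ A) : a * a = 1 := (sq a).symm.trans (h.elem.pow ha)
theorem sc (hT : IsPGroup 2 T) (h1 : A ≤ T) : SC A T ⊤ := Ux.sc_of_le h.syl h.sc hT h1

theorem exA : ∃ a ∈ A, a ≠ 1 := exists_ne_one (ne_bot_of_card fun e => by have := h.big; omega)

omit [Finite G] in
theorem norm_ne (h1 : X ≠ ⊥) (h2 : X ≤ M) : 𝒩 X ≠ ⊤ := fun e =>
  (h.simple.eq_bot_or_eq_top_of_normal X (normal_of_top_le e.ge)).elim h1
    fun e' => h.ne (top_le_iff.1 (e'.ge.trans h2))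

omit [Finite G] in
theorem cent_ne (h1 : u ≠ 1) (h2 : u ∈ M) : 𝒞₁ u ≠ ⊤ := fun e =>
  norm_ne h (ne_bot_of_mem (mem_zpowers u) h1) (zpowers_le.2 h2)
    (top_le_iff.1 (e.ge.trans ((cent_zpowers u).ge.trans (cent_le_norm _))))

omit [Finite G] in
theorem ii (hx : InI A x) : x * x = 1 := by
  obtain ⟨-, g, hg⟩ := hx
  have := aa h hg
  rwa [Ux.conj_mul_self, conj_eq_one_iff] at this

theorem memA (hT : IsPGroup 2 T) (h1 : A ≤ T) (hx : InI A x) (h2 : x ∈ T) : x ∈ A := by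
  obtain ⟨-, g, hg⟩ := hx
  simpa [mul_assoc] using (sc h hT h1).conj hg (mem_top g⁻¹) (by simpa [mul_assoc] using h2)

theorem memS (hx : InI A x) (h2 : x ∈ S) : x ∈ A := memA h h.syl.isPGroup h.sc.le hx h2

theorem ini_mul (hx : InI A x) (hy : InI A y) (hc : x * y = y * x) (h1 : x * y ≠ 1) :
    InI A (x * y) := by
  obtain ⟨g, -, hg⟩ := h.syl.exists_cj_le (pg_two (ii h hx) (ii h hy) hc) le_top
  have := mul_mem (memS h (ini_conj hx g) (hg (conj_mem_cj (mem_sup_left (mem_zpowers x)))))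
    (memS h (ini_conj hy g) (hg (conj_mem_cj (mem_sup_right (mem_zpowers y)))))
  exact ⟨h1, g, by simpa [mul_assoc] using this⟩

/-- a `2`-subgroup fixing a point -/
theorem move (hP : IsPGroup 2 P) (h1 : ∀ x ∈ P, x • γ = γ) :
    ∃ g : G, g • pt M = γ ∧ ∀ x ∈ P, g⁻¹ * x * g ∈ S := by
  obtain ⟨g, rfl⟩ := exists_pt γ
  obtain ⟨m, hm, e⟩ := (syM h).exists_cj_le (isPGroup_cj hP g⁻¹)
    (cj_le_iff_forall.2 fun x hx => by simpa using fix_iff.1 (h1 x hx))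
  exact ⟨g * m⁻¹, by rw [mul_smul, smul_pt.2 (inv_mem hm)], fun x hx => by
    simpa [mul_assoc] using e (conj_mem_cj (conj_mem_cj hx))⟩

theorem uA (ha : a ∈ A) (h1 : a ≠ 1) (h2 : a • γ = γ) : γ = pt M := by
  obtain ⟨g, rfl, hg⟩ := move h (card_zp2 (aa h ha)) fun x hx =>
    (zpowers_le.2 (mem_stabilizer_iff.2 h2) hx : x ∈ stabilizer G γ)
  have := hg a (mem_zpowers a)
  obtain ⟨n, hn, e⟩ := h.sc.fusion h.syl h.elem.abel ha (mem_top g⁻¹)
    (h.sc.conj ha (mem_top _) (by simpa using this))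
  refine smul_pt.2 ((mul_mem_cancel_right (h.nA hn.2)).1 (h.cA a ha h1 (mem_cent1.2 ?_)))
  rw [mul_assoc, ← mul_inv_cancel_right (n * a) n⁻¹, e]; group

theorem uniq (hx : InI A x) (h1 : x • γ = γ) (h2 : x • δ = δ) : γ = δ := by
  obtain ⟨h0, g, hg⟩ := hx
  exact smul_left_cancel g ((uA h hg (conj_ne_one h0 g) (fix_conj.2 h1)).trans
    (uA h hg (conj_ne_one h0 g) (fix_conj.2 h2)).symm)

theorem cfix (hx : InI A x) (h1 : x • γ = γ) (h2 : g * x = x * g) : g • γ = γ :=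
  uniq h hx (fix_comm h1 h2) h1

omit [Finite G] in
theorem exP (hx : InI A x) : ∃ γ : G ⧸ M, x • γ = γ := by
  obtain ⟨-, g, hg⟩ := hx
  exact ⟨g⁻¹ • pt M, fix_iff.2 (by simpa using AM h hg)⟩

theorem exI (γ : G ⧸ M) : ∃ x, InI A x ∧ x • γ = γ := by
  obtain ⟨g, rfl⟩ := exists_pt γ
  obtain ⟨a, ha, h1⟩ := exA h
  exact ⟨_, ini_conj (ini_of_mem ha h1) g, fix_conj.2 (smul_pt.2 (AM h ha))⟩

/-- lemma (b) -/
theorem dih (hz : z * z = 1) (z1 : ¬ InI A z) (hx : InI A x) (h1 : x • γ = γ) (h2 : z • γ ≠ γ) :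
    ∃ c, InI A c ∧ z * c = c * z ∧ z * c * x = x * (z * c) ∧ ¬ InI A (z * c) ∧
      ∀ g, g * z = z * g → g * x = x * g → g * c = c * g := by
  have x2 := ii h hx
  obtain ⟨j, j1, -, j3, j4⟩ := exists_dih ((sq z).trans hz) ((sq x).trans x2) fun o => by
    obtain ⟨g, -, e⟩ := exists_conj_of_odd_orderOf_mul hz x2 o
    exact z1 (ini_conj_iff.1 (e ▸ hx))
  have e : ∀ i, InI A (x * (z * x) ^ (2 * i)) := fun i => by
    have := inverts_pow (inverts_mul_right hz x2) i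
    rw [mul_inv_eq_iff_eq_mul] at this
    convert ini_conj hx ((z * x) ^ i)⁻¹ using 1
    rw [← this, two_mul, pow_add]; group
  have n : ¬ InI A ((z * x) ^ j) := fun i => h2 (cfix h i (cfix h hx h1 j4.symm) j3)
  have c1 : z * (z * (z * x) ^ j) = (z * x) ^ j := by rw [← mul_assoc, hz, one_mul]
  refine ⟨z * (z * x) ^ j, ?_, by rw [mul_assoc, ← j3], by rw [c1, j4], c1.symm ▸ n, fun g a b => ?_⟩
  · obtain ⟨i, rfl | rfl⟩ := Nat.even_or_odd' j
    · refine (n ?_).elim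
      have c2 : x * (x * (z * x) ^ (2 * i)) = (z * x) ^ (2 * i) := by rw [← mul_assoc, x2, one_mul]
      exact c2 ▸ ini_mul h hx (e i) (by rw [mul_assoc, ← j4]) (c2.symm ▸ j1)
    · rw [pow_succ', mul_assoc z x, ← mul_assoc z z, hz, one_mul]; exact e i
  · exact (Commute.mul_right a ((Commute.mul_right a b).pow_right j)).eq

theorem dih_uniq (hz : z * z = 1) (z1 : ¬ InI A z) (hx : InI A x) (h1 : x • γ = γ) (h2 : z • γ ≠ γ)
    (b1 : InI A b) (b2 : z * b = b * z) (b3 : z * b * x = x * (z * b))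
    (c1 : InI A c) (c2 : z * c = c * z) (c3 : z * c * x = x * (z * c)) : b = c := by
  obtain ⟨d, d1, d2, d3, -, d4⟩ := dih h hz z1 hx h1 h2
  suffices ∀ c, InI A c → z * c = c * z → z * c * x = x * (z * c) → d = c from
    (this b b1 b2 b3).symm.trans (this c c1 c2 c3)
  intro c c1 c2 c3
  have e : d * c = z * d * (z * c) := by rw [d2, mul_assoc, ← mul_assoc z, hz, one_mul]
  have f1 : d * c * z = z * (d * c) := ((Commute.mul_right d2 c2).eq).symm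
  have f2 : d * c * x = x * (d * c) := e ▸ (Commute.mul_left d3 c3).eq
  have f3 := d4 _ f1 f2
  rw [mul_assoc, mul_left_cancel_iff] at f3
  by_contra n
  have i := ini_mul h d1 c1 f3.symm fun e => n
    ((eq_inv_of_mul_eq_one_left e).trans (inv_eq_of_mul_eq_one_left (ii h c1)))
  exact h2 (cfix h i (cfix h hx h1 f2) f1.symm)

theorem inf_Fx (hM : ¬ H ≤ M) (ha : a ∈ A) (h1 : a ∈ Fx M H) : a = 1 := by_contra fun e =>
  hM fun g hg => smul_pt.1 (uA h ha e (h1 g hg))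

theorem odd_le (ho : Odd ♯X) (hn : A ≤ 𝒩 X) : X ≤ M :=
  SFx.gen1 h.elem (by have := h.big; omega) ho hn fun a ha => inf_le_right.trans (h.cA a ha.1 ha.2)

/-- the structure of a proper subgroup containing `A` and not contained in `M` -/
theorem kh (hH : H ≠ ⊤) (hT : IsSyl 2 T H) (hA : A ≤ T) (hM : ¬ H ≤ M) :
    ∃ (Q : Type) (_ : Group Q) (_ : Finite Q) (f : H →* Q) (L : Subgroup Q) (k : Q),
      Function.Surjective f ∧ up f ⊥ = O2 H ∧ L.Normal ∧ SzP L (down f T ⊓ L) k ∧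
      down f A = 𝒵 (down f T ⊓ L) ∧ M.relIndex H = ♯A ^ 2 + 1 ∧ ♯(down f A) = ♯A ∧
      up f (𝒞 L) ≤ Fx M H := by
  have s := (sc h hT.isPGroup hA).mono hA le_rfl (le_top : H ≤ ⊤)
  have AH := hA.trans hT.le
  obtain ⟨Q, _, _, f, L, k, hf, hk, hL, p, e⟩ := kOne G H T A M h.ft (h.ih H hH) hT s h.elem
    (by have := h.big; omega) (inf_le_right.trans h.nA)
    (fun b a c => inf_le_right.trans (h.cA b a c)) hM
  have ca := ca_ker hk AH h.elem.pgroup
  have cd : ♯(down f A) = ♯A := card_down_eq AH (inf_eq_bot_of_cop ca.cop')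
  have kM : up f ⊥ ≤ H ⊓ M := le_inf (up_le _ _) (odd_le h (hk ▸ odd_O2 H) ca.norm)
  have nL : ⊤ ≤ 𝒩 L := normalizer_eq_top_iff.2 hL ▸ le_rfl
  have m1 : 𝒩 (down f T ⊓ L) ≤ down f (H ⊓ M) := by
    refine ((norm_le_norm_ctr _).trans ?_).trans (down_mono f (inf_le_inf_left H h.nA))
    rw [ca.down_norm_ker AH le_rfl (up_le _ _), down_top hf, top_inf_eq, e]
  have m2 : down f (H ⊓ M) ≤ 𝒩 (down f T ⊓ L) := by
    have t : down f T ⊓ L ≤ down f (H ⊓ M) ⊓ L := le_inf ((le_norm _).trans m1) inf_le_right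
    rcases p.mx _ t inf_le_right with i | i
    · exact (le_norm_inf (le_norm _) (le_top.trans nL)).trans
        (syl_norm_le Nat.prime_two (p.syl.mono t inf_le_right) i)
    · refine (hM ((le_of_down_le le_rfl inf_le_left kM fun g _ => ?_).trans inf_le_right)).elim
      obtain ⟨l, hl, n, hn, rfl⟩ := p.syl.frattini (nL (mem_top g))
      exact mul_mem ((i.ge.trans inf_le_left) hl) (m1 hn)
  refine ⟨Q, _, ‹_›, f, L, k, hf, hk, hL, p, e, ?_, cd, fun g hg x hx => fix_iff.2 ?_⟩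
  · rw [← inf_relIndex_left, ← ri_down inf_le_left le_rfl kM, le_antisymm m2 m1, down_top hf, ← cd, e,
      ← p.idx, relIndex_top_right]
    exact H1.Fac.index_eq_relIndex fun g => p.syl.frattini' (nL (mem_top g))
  · obtain ⟨g1, g2⟩ := mem_up.1 hg
    have : f ⟨x⁻¹ * g * x, mul_mem (mul_mem (inv_mem hx) g1) hx⟩ ∈ 𝒞 L := by
      have := conj_mem_of_norm' (le_norm_cent nL (mem_top (f ⟨x, hx⟩))) g2
      rwa [← map_inv, ← map_mul, ← map_mul] at this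
    exact ((up_le_of_le_down inf_le_left kM (((cent_anti inf_le_right).trans
      (cent_le_norm _)).trans m1)) (coe_mem_up.2 this)).2

theorem idx (hH : H ≠ ⊤) (hA : A ≤ H) (hM : ¬ H ≤ M) : (orbit H (pt M)).ncard = ♯A ^ 2 + 1 := by
  obtain ⟨T, hT, a⟩ := exists_syl_ge Nat.prime_two h.elem.pgroup hA
  obtain ⟨_, _, _, _, _, _, -, -, -, -, -, e, -⟩ := kh h hH hT a hM
  rw [card_orb, e]

theorem o1 (hH : H ≠ ⊤) (hA : A ≤ H) (hM : ¬ H ≤ M) (h1 : X ≤ H) (ho : Odd ♯X) (hn : A ≤ 𝒩 X) :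
    X ≤ Fx M H := by
  obtain ⟨T, hT, a⟩ := exists_syl_ge Nat.prime_two h.elem.pgroup hA
  obtain ⟨Q, _, _, f, L, k, -, -, hL, p, e, -, c, i⟩ := kh h hH hT a hM
  have nL : ⊤ ≤ 𝒩 L := normalizer_eq_top_iff.2 hL ▸ le_rfl
  have n := down_le_norm f hn
  have o := odd_down f ho
  have AL : down f A ≤ L := e.le.trans (inf_le_left.trans inf_le_right)
  have b : down f X ⊓ L = ⊥ := eq_bot_iff.2 (SFx.gen1 (h.elem.down f) (by have := h.big; omega)
    (odd_of_le o inf_le_left) (le_norm_inf n (le_top.trans nL)) fun a ha => (eq_bot_of_le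
      (inf_eq_bot_of_cop (cop_of_pgroup Nat.prime_two p.syl.isPGroup o.not_two_dvd_nat))
      (le_inf ((inf_le_inf_right _ inf_le_right).trans (p.cz a (e ▸ ha.1) ha.2))
        (inf_le_left.trans inf_le_left))).le)
  have c1 : down f X ≤ 𝒞 (down f A) := comm_eq_bot_iff'.1 (eq_bot_of_le b
    (le_inf (comm_le_left n) (comm_le_of_le_of_norm AL (le_top.trans nL))))
  exact ((down_le_iff' h1).1 fun x hx =>
    p.autO x (nL (mem_top x)) (odd_of_mem o hx) (e ▸ c1 hx)).trans i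

theorem o2 (hH : H ≠ ⊤) (hA : A ≤ H) (hM : ¬ H ≤ M) (h1 : v ∈ H) (h2 : v * v = 1) (h3 : v ∈ 𝒞 A) :
    ∃ a ∈ A, v * a ∈ Fx M H := by
  obtain ⟨T, hT, a⟩ := exists_syl_ge Nat.prime_two h.elem.pgroup hA
  obtain ⟨Q, _, _, f, L, k, -, -, hL, p, e, -, c, i⟩ := kh h hH hT a hM
  have nL : ⊤ ≤ 𝒩 L := normalizer_eq_top_iff.2 hL ▸ le_rfl
  have v2 : f ⟨v, h1⟩ * f ⟨v, h1⟩ = 1 := by
    rw [← map_mul, ← map_one f]; exact congrArg f (Subtype.ext h2)
  have vA : f ⟨v, h1⟩ ∈ 𝒞 (down f A) := down_le_cent f (zpowers_le.2 h3)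
    (mem_down_of_mem (mem_zpowers v))
  obtain ⟨d, hd, l, hl, e1⟩ := (mem_sup_r (cent_le_norm L)).1
    (sup_comm L _ ▸ p.aut2 _ (nL (mem_top _)) ⟨1, (sq _).trans v2⟩)
  have dl := mem_cent.1 hd l hl
  have l2 : l * l = 1 := p.smp.eq_one (mul_mem hl hl) (by
    rw [← e1, mul_assoc, ← mul_assoc l, dl, mul_assoc, ← mul_assoc] at v2
    exact (mul_mem_cancel_left (mul_mem hd hd)).1 (v2 ▸ one_mem _))
  obtain ⟨z, z1, z2⟩ := exists_ne_one (ne_bot_of_card (A := down f A) fun e => by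
    have := h.big; omega)
  have lA : l ∈ 𝒞 (down f A) := (mul_mem_cancel_left
    (cent_anti (e.le.trans (inf_le_left.trans inf_le_right)) hd)).1 (e1 ▸ vA)
  obtain ⟨b, hb, rfl⟩ : l ∈ down f A := e ▸ (szp_mem p).2
    ⟨p.cz z (e ▸ z1) z2 ⟨hl, cent_le_cent1 z1 lA⟩, l2⟩
  refine ⟨b, hb, i (coe_mem_up (x := ⟨v, h1⟩ * b).2 ?_)⟩
  rwa [map_mul, ← e1, mul_assoc, l2, mul_one]

theorem orb_eq (hH : H ≠ ⊤) (hA : A ≤ H) (hM : ¬ H ≤ M) (hK : K ≠ ⊤) (hA' : A ≤ K) (hM' : ¬ K ≤ M)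
    (h1 : ∀ g ∈ H, ∃ k ∈ K, k • pt M = g • pt M) : Fx M H ≤ Fx M K := by
  have := Set.eq_of_subset_of_ncard_le (s := orbit H (pt M)) (t := orbit K (pt M))
    (fun γ hγ => by obtain ⟨g, hg, rfl⟩ := mem_orb.1 hγ; exact mem_orb.2 (h1 g hg))
    (by rw [idx h hH hA hM, idx h hK hA' hM'])
  intro x hx k hk
  obtain ⟨g, hg, e⟩ := mem_orb.1 (this ▸ mem_orb.2 ⟨k, hk, rfl⟩)
  exact e ▸ hx g hg

end U

end Cfsg.GS.Dx
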