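import Cfsg.Agent.GS.D2

/-! Task L4 of `GS/T3`, part 3: `O(M)` is inverted by the involutions of `V \ A`. -/

set_option autoImplicit false

namespace Cfsg.GS.Dx

open Subgroup Cfsg.L0 Cfsg.H8 Cfsg.FT Cfsg.BS Cfsg.BS.R Cfsg.GS.T3 Cfsg.GS.Kx Cfsg.GS.Bx MulAction
open scoped commutatorElement

variable {G : Type} [Group G] [Finite G] {S A M V H K P T R X : Subgroup G}
  {a b c g k s u v w x y z : G} {γ δ ε : G ⧸ M} {p : ℕ}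

omit [Finite G] in
theorem conj_Fx (hs : s ∈ M) (hx : x ∈ Fx M (𝒞₁ u)) : s * x * s⁻¹ ∈ Fx M (𝒞₁ (s * u * s⁻¹)) := by
  intro c hc
  have := fix_conj (g := s).2 (hx (s⁻¹ * c * s) (mem_cent1_conj (g := s).1
    (by simpa [mul_assoc] using hc)))
  rwa [mul_smul _ s (pt M), smul_pt.2 hs, mul_smul s⁻¹, smul_inv_smul] at this

theorem no_comp {L : Subgroup G} (st : St H S V) (hs : SzG H) (hL : Cp L H) (h1 : A ≤ 𝒞 L)
    (h2 : ∀ u ∈ V, u ∉ A → ∀ s ∈ S, s * u = u * s → s * s ∈ A) : V ≤ 𝒞 L := by_contra fun n => by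
  obtain ⟨R, _, _, g, k, -, g1, -, -, -, p, e⟩ := st.comp hs hL n
  obtain ⟨_, ⟨t, t1, rfl⟩, t3⟩ := Ux.S2.exists_not_mem p.s2g (by have := szp_card p; omega)
  have t0 : g t ∈ down g (S ⊓ L) := mem_down_of_mem t1
  obtain ⟨d, d1, d2⟩ : g t * g t ∈ down g V := e ▸ p.s2g.sq _ t0
  have k1 : ∀ x : 𝒩 L, g x = 1 ↔ (x : G) ∈ 𝒞 L := fun x => by rw [← g1, coe_mem_up, mem_bot]
  have e1 : (t : G) * ((d : G)⁻¹ * (t * t)) = (d : G)⁻¹ * (t * t) * t :=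
    mem_cent.1 ((k1 (d⁻¹ * (t * t))).1 (by simp [d2])) _ t1.2
  have e2 : (t : G) * d = d * t := by
    rw [← mul_assoc, mul_assoc _ _ (t : G), mul_assoc (t : G) t t, ← mul_assoc (d : G)⁻¹ t,
      mul_right_cancel_iff] at e1
    exact (Commute.inv_right_iff.1 e1).eq
  have e4 : g t * g t ≠ 1 := fun i => t3 ((szp_mem p).2 ⟨t0, i⟩)
  exact e4 (map_mul g t t ▸ (k1 _).2 (h1 (h2 d d1 (fun i => e4 (d2 ▸ (k1 d).2 (h1 i))) t t1.1 e2)))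

namespace Y
variable (h : Y S A V M)
include h

omit [Finite G] in
theorem pV : IsPGroup 2 V := h.syl.isPGroup.to_le h.VS

theorem ca (ho : Odd ♯X) (hn : V ≤ 𝒩 X) : CA V X := mkCA_p Nat.prime_two hn h.pV ho.not_two_dvd_nat

theorem sylR (hu : u ∈ V) (uA : u ∉ A) : IsSyl 2 (V ⊓ Fx M (𝒞₁ u)) (Fx M (𝒞₁ u)) := by
  have n : Fx M (𝒞₁ u) ⊔ V ≤ 𝒩 (Fx M (𝒞₁ u)) := sup_le (le_norm _) ((h.VC hu).trans le_norm_Fx)
  obtain ⟨P, hP, a⟩ := exists_syl_ge Nat.prime_two h.pV (le_sup_right : V ≤ Fx M (𝒞₁ u) ⊔ V)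
  obtain ⟨m, -, e⟩ := h.syl.exists_cj_le hP.isPGroup le_top
  have mA := h.sc.mem_norm (mem_top m) ((cj_mono m (h.AV.trans a)).trans e)
  have mV : m ∈ 𝒩 V := mem_norm_of_cj_le (cj_le_iff_forall.2 fun x hx =>
    (h.mV _).2 ⟨e (conj_mem_cj (a hx)), Cx.conj_sq m (h.vv hx)⟩)
  have o := fun a => U.inf_Fx (a := a) h.toUC (h.nle hu uA)
  refine (le_antisymm (inf_le_inf_right _ a) fun x hx => ⟨?_, hx.2⟩ : _ = _) ▸
    hP.inf le_sup_left (hP.le.trans n)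
  have x1 := e (conj_mem_cj hx.1)
  have u1 := conj_mem_of_norm mV hu
  have e1 := Cx.comm_of_c (o _ (by simpa [mul_assoc] using conj_mem_of_norm' mA (h.cm _ u1 _ x1))
    (mul_mem (mul_mem (mul_mem hx.2 (h.mem_Fx hu)) (inv_mem hx.2)) (inv_mem (h.mem_Fx hu))))
  have e2 := o _ (by simpa [mul_assoc] using conj_mem_of_norm' mA (h.sq _ u1 (fun i => uA (by
    simpa [mul_assoc] using conj_mem_of_norm' mA i)) _ x1 (Cx.conj_comm m e1))) (mul_mem hx.2 hx.2)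
  simpa [mul_assoc] using conj_mem_of_norm' mV ((h.mV _).2 ⟨x1, Cx.conj_sq m e2⟩)

theorem abO (hu : u ∈ V) (uA : u ∉ A) (h1 : X ≤ Fx M (𝒞₁ u)) (ho : Odd ♯X) (hn : V ≤ 𝒩 X) :
    X ≤ O2 (Fx M (𝒞₁ u)) :=
  (kAb G _ _ h.ft (h.ih _ fun e => h.ne (top_le_iff.1 (e.ge.trans Fx_le))) (h.sylR hu uA)
    (h.ab.mono inf_le_left)).2 X h1 ho (inf_le_left.trans hn)

theorem o1 (hu : u ∈ V) (uA : u ∉ A) (h1 : X ≤ 𝒞₁ u) (ho : Odd ♯X) (hn : V ≤ 𝒩 X) :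
    X ≤ Fx M (𝒞₁ u) :=
  U.o1 h.toUC (h.cne hu uA) (h.AC hu) (h.nle hu uA) h1 ho (h.AV.trans hn)

theorem noX (hu : u ∈ V) (uA : u ∉ A) (ha : a ∈ A) (a1 : a ≠ 1) (h0 : X ≤ M) (h1 : 𝒞₁ u ≤ 𝒩 X)
    (h2 : 𝒞₁ (u * a) ≤ 𝒩 X) : X = ⊥ := by_contra fun e => by
  obtain ⟨b, b1, b2⟩ := U.o2 h.toUC (U.norm_ne h.toUC e h0) ((h.AC hu).trans h1)
    (fun i => h.nle hu uA (h1.trans i)) (h1 (self_mem_cent1 u)) (h.vv hu) (h.sA (h.VS hu))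
  obtain rfl := U.inf_Fx h.toUC (h.nle hu uA) b1 fun c hc => fix_mul (h.mem_Fx hu c hc) (b2 c (h1 hc))
  obtain ⟨u1, u2⟩ := h.mulA hu uA ha
  exact a1 (U.inf_Fx h.toUC (h.nle u1 u2) ha fun c hc =>
    fix_mul (by simpa using b2 c (h2 hc)) (h.mem_Fx u1 c hc))

theorem nWV : M ≤ 𝒩 (O2 M ⊔ V) := by
  obtain ⟨Q, _, _, f, hf, hk⟩ := exists_quo0 (Op_nrm {2}ᶜ M)
  replace hk : up f ⊥ = O2 M := hk
  have st := st_down (szg_gold (h.ih M h.ne)) hk (U.syM h.toUC) (⟨h.VS, fun x hx g _ e =>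
    (h.mV _).2 ⟨e, Cx.conj_sq g (h.vv hx)⟩⟩ : SC V S M) h.ab
  have nA : down f A ⊴ down f M := ⟨down_mono f (U.AM h.toUC), (down_mono f (hk ▸ h.mo)).trans
    ((down_ker_sup f h.nA).le.trans (down_normalizer_le f A))⟩
  have := st.gen' (Y := 𝒩 (down f V)) inf_le_right fun L hL n => (n (no_comp st
    (szg_mono (h.ih M h.ne) (involves_down f le_rfl)) hL
    (hL.cent_of_sol nA.sn (h.elem.abel.down f).sol) ?_)).elim
  · rw [← hk, sup_comm, ← up_down f h.VM]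
    exact le_norm_up le_rfl this
  rintro _ ⟨u, u1, rfl⟩ i _ ⟨s, s1, rfl⟩ e
  have e3 := Cx.comm_of_c (eq_one_of_mem (inf_eq_bot_of_cop (cop_of_pgroup Nat.prime_two
    h.elem.pgroup (odd_O2 M).not_two_dvd_nat)) ⟨h.cm u u1 s s1, hk ▸
      (coe_mem_up (x := s * u * s⁻¹ * u⁻¹)).2 (by simp [e])⟩)
  exact ⟨s * s, h.sq u u1 (fun j => i (mem_down_of_mem j)) s s1 e3, map_mul f s s⟩

theorem leW (h1 : X ≤ O2 M ⊔ V) (ho : Odd ♯X) : X ≤ O2 M := by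
  have n := h.VM.trans (Op_nrm {2}ᶜ M).norm
  refine le_of_cop_ri (sup_le (le_norm _) n) h1 ?_
  rw [ri_sup n]
  exact (cop_of_pgroup Nat.prime_two h.pV ho.not_two_dvd_nat).symm.coprime_dvd_right
    (ri_dvd_card _ _)

theorem hall (hu : u ∈ V) (uA : u ∉ A) (hp : p.Prime) (hd : p ∣ ♯(O2 (Fx M (𝒞₁ u)))) :
    ∃ P, IsSyl p P (O2 M) ∧ V ≤ 𝒩 P ∧ P ≤ Fx M (𝒞₁ u) := by
  have := Fact.mk hp
  have nX := le_norm_Op {2}ᶜ (le_norm_Fx (M := M) (H := 𝒞₁ u))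
  have oX := odd_O2 (Fx M (𝒞₁ u))
  have XM := (Op_le {2}ᶜ _).trans (Fx_le (M := M) (H := 𝒞₁ u))
  have nW := (Op_nrm {2}ᶜ M).norm
  obtain ⟨P, hP, n⟩ := (h.ca oX ((h.VC hu).trans nX)).exists_syl hp
  have fr : ∀ c ∈ 𝒞₁ u, ∃ g ∈ 𝒩 P, g • pt M = c • pt M := fun c hc => by
    obtain ⟨g, hg, x, hx, rfl⟩ := hP.frattini' (nX hc)
    exact ⟨g, hg, by rw [mul_smul, smul_pt.2 (XM hx)]⟩
  have oK : Odd ♯(O2 M ⊔ P) := Odd.of_dvd_nat ((odd_O2 M).mul (odd_of_le oX hP.le))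
    (card_sup_dvd ((hP.le.trans XM).trans nW))
  obtain ⟨T, hT, n1, le⟩ := (h.ca oK (le_norm_sup (h.VM.trans nW) n)).exists_syl_ge hp hP.isPGroup
    le_sup_right n
  have n2 := le_norm_inf n1 (le_norm_norm n)
  have o2 := odd_of_le oK ((inf_le_left : T ⊓ 𝒩 P ≤ T).trans hT.le)
  obtain rfl := (nil_of_pgroup hp hT.isPGroup).eq_of_norm_le le (hP.eq_of_le
    (hT.isPGroup.to_le inf_le_left) (le_inf le (le_norm P)) (h.abO hu uA ((U.o1 h.toUC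
      (U.norm_ne h.toUC (hP.ne_bot hd) (hP.le.trans XM)) (h.AV.trans n) (fun i => h.nle hu uA
        fun c hc => by
          obtain ⟨g, hg, e⟩ := fr c hc
          exact smul_pt.1 (e ▸ smul_pt.2 (i hg))) inf_le_right o2 (h.AV.trans n2)).trans
      fun x hx c hc => by
        obtain ⟨g, hg, e⟩ := fr c hc
        exact e ▸ hx g hg) o2 n2)).le
  exact ⟨_, hT.inf le_sup_left ((hP.le.trans XM).trans nW), le_norm_inf n (h.VM.trans nW),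
    inf_le_left.trans (hP.le.trans (Op_le _ _))⟩

theorem oG_le (hu : u ∈ V) (uA : u ∉ A) (ha : a ∈ A) :
    O2 (Fx M (𝒞₁ u)) ≤ O2 (Fx M (𝒞₁ (u * a))) := by
  obtain ⟨u1, u2⟩ := h.mulA hu uA ha
  have nG := (h.VC hu).trans (le_norm_Fx (M := M) (H := 𝒞₁ u))
  have nX := le_norm_Op {2}ᶜ nG
  have oX := odd_O2 (Fx M (𝒞₁ u))
  have XM := (Op_le {2}ᶜ _).trans (Fx_le (M := M) (H := 𝒞₁ u))
  have nW := (Op_nrm {2}ᶜ M).norm
  have w : O2 M ⊓ Fx M (𝒞₁ u) ≤ Fx M (𝒞₁ (u * a)) := le_of_forall_syl fun p hp hd => by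
    have := Fact.mk hp
    obtain ⟨P, hP, n, le⟩ := h.hall hu uA hp (hd.trans (card_dvd (h.abO hu uA inf_le_right
      (odd_of_le (odd_O2 M) inf_le_left) (le_norm_inf (h.VM.trans nW) nG))))
    obtain ⟨s, s1, s2⟩ := h.onto u hu uA a ha
    have sM := U.SM h.toUC s1
    obtain ⟨c, c1, c2⟩ := (h.ca (odd_O2 M) (h.VM.trans nW)).syl_conj hp (hP.cj_of_mem (nW sM)) hP
      (by rw [← cj_norm]; exact (cj_eq_of_mem_norm (norm_of_mV h.mV (le_norm S s1))).ge.trans (cj_mono s n)) n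
    refine ⟨P, hP.mono (le_inf hP.le le) inf_le_left, ?_⟩
    rw [← c2, ← cj_eq_of_mem_norm (le_norm_Fx (cent_le_cent1 u1 c1.2))]
    exact cj_mono c (cj_le_iff_forall.2 fun x hx => s2 ▸ conj_Fx sM (le hx))
  refine h.abO u1 u2 ((h.ca oX nX).comm_sup_cent.ge.trans (sup_le ((le_inf (h.leW
    (comm_le_of_le_of_norm le_sup_right (XM.trans h.nWV)) (odd_of_le oX (comm_le_left nX)))
    ((comm_le_left nX).trans (Op_le _ _))).trans w) (h.o1 u1 u2 (inf_le_right.trans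
      (cent_le_cent1 u1)) (odd_of_le oX inf_le_left) ?_))) oX nX
  exact le_norm_inf nX (le_norm_cent (le_norm V))

theorem oG (hu : u ∈ V) (uA : u ∉ A) : O2 (Fx M (𝒞₁ u)) = ⊥ := by
  obtain ⟨a, ha, a1⟩ := U.exA h.toUC
  obtain ⟨u1, u2⟩ := h.mulA hu uA ha
  have := h.oG_le u1 u2 ha
  rw [mul_assoc, U.aa h.toUC ha, mul_one] at this
  exact h.noX hu uA ha a1 ((Op_le _ _).trans Fx_le) (le_norm_Op _ le_norm_Fx)
    (le_antisymm (h.oG_le hu uA ha) this ▸ le_norm_Op _ le_norm_Fx)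

theorem eq_bot (hu : u ∈ V) (uA : u ∉ A) (h1 : X ≤ 𝒞₁ u) (ho : Odd ♯X) (hn : V ≤ 𝒩 X) : X = ⊥ :=
  eq_bot_of_le (h.oG hu uA) (h.abO hu uA (h.o1 hu uA h1 ho hn) ho hn)

theorem cW (hu : u ∈ V) (uA : u ∉ A) : O2 M ⊓ 𝒞₁ u = ⊥ :=
  h.eq_bot hu uA inf_le_right (odd_of_le (odd_O2 M) inf_le_left)
    (le_norm_inf (h.VM.trans (Op_nrm _ M).norm) (le_norm_cent1 (h.VC hu)))

theorem invW (hu : u ∈ V) (uA : u ∉ A) (hx : x ∈ O2 M) : u * x * u⁻¹ = x⁻¹ :=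
  inverts_of_fpf ((Op_nrm _ M).norm (h.VM hu)) (fun y _ => by rw [h.vv hu, one_mul, mul_one])
    (fun _ a b => eq_one_of_mem (h.cW hu uA) ⟨a, mem_cent1.2 b.symm⟩) x hx

theorem cW' (hu : u ∈ V) (uA : u ∉ A) (hv : v ∈ V) (vA : v ∉ A) : u * v ∈ 𝒞 (O2 M) :=
  mem_cent.2 fun x hx => by
    have := h.invW hu uA (inv_mem hx)
    rw [← h.invW hv vA hx, h.invW hv vA hx, inv_inv] at this
    nth_rewrite 1 [← this, ← h.invW hv vA hx]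
    group

theorem AW : A ≤ 𝒞 (O2 M) := fun a ha => by
  obtain ⟨v, hv, vA, -⟩ := h.tor
  obtain ⟨u1, u2⟩ := h.mulA hv vA ha
  have := h.cW' hv vA u1 u2
  rwa [← mul_assoc, h.vv hv, one_mul] at this

theorem MN : M ≤ 𝒩 A := h.mo.trans (sup_le (le_norm_of_le_cent (cent_symm h.AW)) le_rfl)

end Y

end Cfsg.GS.Dx
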