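import Cfsg.Agent.GS.D3

/-! Task L4 of `GS/T3`, part 4: `O(M) = 1`, and the conclusion. -/

set_option autoImplicit false

namespace Cfsg.GS.Dx

open Subgroup Cfsg.L0 Cfsg.H8 Cfsg.FT Cfsg.BS Cfsg.BS.R Cfsg.GS.T3 Cfsg.GS.Kx Cfsg.GS.Bx MulAction
open scoped commutatorElement

variable {G : Type} [Group G] [Finite G] {S A M V H K L P T R X : Subgroup G}
  {a b c g k s t u v w x y z : G} {γ δ ε : G ⧸ M} {p : ℕ}

theorem seven (h : 8 ≤ ♯A) : ∃ a ∈ A, ∃ b ∈ A, ∃ c ∈ A, a ≠ 1 ∧ b ≠ 1 ∧ c ≠ 1 ∧ a * b ≠ 1 ∧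
    a * c ≠ 1 ∧ b * c ≠ 1 ∧ a * b * c ≠ 1 := by
  have e : ∀ x y z w : G, ∃ a ∈ A, a ≠ x ∧ a ≠ y ∧ a ≠ z ∧ a ≠ w := fun x y z w => by
    obtain ⟨a, a1, a2⟩ := Set.exists_mem_notMem_of_ncard_lt_ncard (s := {x, y, z, w})
      (t := (A : Set G)) (by
        rw [← Nat.card_coe_set_eq (A : Set G)]
        exact (Set.ncard_insert_le _ _).trans_lt (by
          have := Set.ncard_insert_le y {z, w}
          have := Set.ncard_insert_le z {w}
          have := Set.ncard_singleton w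
          exact lt_of_lt_of_le (by omega) h))
    exact ⟨a, a1, by simpa [not_or] using a2⟩
  obtain ⟨a, a1, a2, -⟩ := e 1 1 1 1
  obtain ⟨b, b1, b2, b3, -⟩ := e 1 a⁻¹ 1 1
  obtain ⟨c, c1, c2, c3, c4, c5⟩ := e 1 a⁻¹ b⁻¹ (a * b)⁻¹
  exact ⟨a, a1, b, b1, c, c1, a2, b2, c2, fun i => b3 (eq_inv_of_mul_eq_one_right i),
    fun i => c3 (eq_inv_of_mul_eq_one_right i), fun i => c4 (eq_inv_of_mul_eq_one_right i),
    fun i => c5 (eq_inv_of_mul_eq_one_right i)⟩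

omit [Finite G] in
theorem odd_k (q : SzP L T k) (hy : y ∈ zpowers k) : Odd (orderOf y) :=
  odd_of_mem (card_zpow k ▸ q.s2g.odd) hy

omit [Finite G] in
theorem eq_one_k (q : SzP L T k) (hg : g ∈ 𝒩 L) (hy : y ∈ zpowers k) (h1 : g * c * g⁻¹ ∈ 𝒵 T)
    (h2 : c ≠ 1) (e : y * c = c * y) : y = 1 := by
  obtain ⟨n, hn⟩ := isPGroup_iff_forall.1 q.syl.isPGroup _ (q.cz _ h1 (conj_ne_one h2 g)
    ⟨conj_mem_of_norm hg (zpowers_le.2 q.kL hy), mem_cent1_conj.2 (mem_cent1.2 e)⟩)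
  exact eq_one_of_pElt_of_coprime ⟨n, by rwa [conj_pow, conj_eq_one_iff] at hn⟩
    (Nat.coprime_two_right.2 (odd_k q hy))

theorem reg_k (q : SzP L T k) : Reg T (zpowers k) := reg_iff.2 fun y hy t ht e => by
  by_contra! i
  by_cases j : t * t = 1
  · exact i.1 (eq_one_k q (one_mem _) hy (by simpa using (szp_mem q).2 ⟨ht, j⟩) i.2 e.symm)
  · exact i.1 (eq_one_k q (one_mem _) hy (by simpa using q.s2g.sq t ht) j
      (Commute.mul_left e e).symm.eq)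

namespace Y
variable (h : Y S A V M)
include h

theorem cenI (z2 : z * z = 1) (h1 : z • γ = γ) (hx : InI A x) (h2 : x • γ = γ) :
    z * x = x * z := by
  obtain ⟨g, rfl, hg⟩ := U.move h.toUC (card_zp2 z2) fun x hx =>
    (zpowers_le.2 (mem_stabilizer_iff.2 h1) hx : x ∈ stabilizer G γ)
  have i := ini_conj hx g⁻¹
  have := U.memA h.toUC (pgroup_sup (zpowers_le.2 (h.MN (by simpa using fix_iff.1 h2))) h.elem.pgroup
    (card_zp2 (U.ii h.toUC i))) le_sup_left i (mem_sup_right (mem_zpowers _))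
  simpa [mul_assoc] using Cx.conj_comm g (mem_cent.1 (h.sA (hg z (mem_zpowers z))) _ this).symm

variable (hv : v ∈ V) (vA : v ∉ A) (w2 : ∀ u ∈ V, u ∉ A → v * u ∈ A)
include hv vA w2

omit hv vA in
theorem gam (hu : u ∈ V) (uA : u ∉ A) (hx : x ∈ Fx M (𝒞₁ u)) : x = 1 ∨ x = u := by
  have o := fun a => U.inf_Fx (a := a) h.toUC (h.nle hu uA)
  have r : ∀ x ∈ V ⊓ Fx M (𝒞₁ u), x = 1 ∨ x = u := fun x hx => by
    by_cases i : x ∈ A
    · exact .inl (o x i hx.2)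
    · exact .inr (inv_mul_eq_one.1 (o _ (by
        simpa [mul_assoc] using mul_mem (inv_mem (w2 u hu uA)) (w2 x hx.1 i))
        (mul_mem (inv_mem (h.mem_Fx hu)) hx.2))).symm
  have := (npc_sd Nat.prime_two (burnside Nat.prime_two (h.sylR hu uA) fun g hg =>
    mem_cent.2 fun y hy => by
      rcases r y hy with rfl | rfl
      · simp
      · exact (mul_inv_eq_iff_eq_mul.1 ((r _ (conj_mem_of_norm hg.2 hy)).resolve_left
          (conj_ne_one (fun e => uA (by rw [e]; exact one_mem _)) g))).symm) (h.sylR hu uA)).mem hx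
  obtain ⟨a, a1, b, b1, rfl⟩ := this
  rw [eq_one_of_mem (h.oG hu uA) a1, one_mul]
  exact r b b1

omit w2 in
theorem exL : ∃ L k, 𝒞₁ v ≤ 𝒩 L ∧ L ≤ 𝒞₁ v ∧ ¬ L ≤ M ∧ SzP L (S ⊓ 𝒞₁ v ⊓ L) k ∧
    A = 𝒵 (S ⊓ 𝒞₁ v ⊓ L) := by
  have s := h.ih _ (h.cne hv vA)
  have a := le_inf h.sc.le (h.AC hv)
  have st : St (𝒞₁ v) (S ⊓ 𝒞₁ v) A := ⟨szg_gold s, h.eq_bot hv vA (Op_le _ _) (odd_O2 _)
    (le_norm_Op _ ((h.VC hv).trans (le_norm _))), h.syl1 v hv vA,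
    h.sc.mono a inf_le_left le_top, h.elem.abel⟩
  obtain ⟨L, hL, -, n⟩ : ∃ L, Cp L (𝒞₁ v) ∧ ¬ A ≤ 𝒞 L ∧ ¬ L ≤ M := by
    by_contra! i
    exact h.nle hv vA (st.gen' (inf_le_right.trans h.nA) i)
  obtain ⟨n1, k, q, e⟩ := st.one s hL (ne_bot_of_card fun e => by have := h.big; omega)
    ((eq_bot_iff_forall _).2 fun b hb => by_contra fun i =>
      n ((le_cent1_iff.2 hb.2).trans (h.cA b hb.1 i)))
  exact ⟨L, k, n1, hL.le, n, q, e⟩

theorem cenT : ∀ s ∈ S ⊓ 𝒞₁ v, s ∈ 𝒞 (O2 M) ∨ s * v ∈ 𝒞 (O2 M) := by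
  have hU := h.toUC
  obtain ⟨L, k, n1, n2, n3, q, e⟩ := h.exL hv vA
  have TL : S ⊓ 𝒞₁ v ⊓ L ≤ L := inf_le_right
  have TM : S ⊓ 𝒞₁ v ⊓ L ≤ M := inf_le_left.trans (inf_le_left.trans (U.SM hU))
  have eT : ∀ x ∈ S ⊓ 𝒞₁ v, x ∈ L → x ∈ S ⊓ 𝒞₁ v ⊓ L := fun _ a b => ⟨a, b⟩
  generalize S ⊓ 𝒞₁ v ⊓ L = T at q e TL TM eT
  have nW := (Op_nrm {2}ᶜ M).norm
  have NM : 𝒩 T ≤ M := ((norm_le_norm_ctr T).trans (e ▸ le_rfl)).trans h.nA
  have HL : ∀ c ∈ 𝒞₁ v, ∃ l ∈ L, l • pt M = c • pt M := fun c hc => by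
    obtain ⟨l, hl, n, hn, rfl⟩ := q.syl.frattini (n1 hc)
    exact ⟨l, hl, by rw [mul_smul, smul_pt.2 (NM hn)]⟩
  have LM : L ⊓ M ≤ 𝒩 T := (q.mx _ (le_inf TL TM) inf_le_left).resolve_right
    fun i => n3 (i.ge.trans inf_le_right)
  have AL : A ≤ L := e.le.trans (inf_le_left.trans TL)
  obtain ⟨w, w1, ww, w3, w4⟩ := q.wl
  have wM : w • pt M ≠ pt M := fun i => w3 (LM ⟨w1, smul_pt.1 i⟩)
  have semi : ∀ t ∈ T, t • w • pt M = w • pt M → t = 1 := fun t ht i => by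
    have j : ∀ a ∈ 𝒵 T, a • w • pt M = w • pt M → a = 1 := fun a ha i => by_contra fun j =>
      wM (U.uA hU (e ▸ ha) j i)
    exact j t ((szp_mem q).2 ⟨ht, j _ (q.s2g.sq t ht) (by rw [mul_smul, i, i])⟩) i
  have kN : zpowers k ≤ 𝒩 T := zpowers_le.2 q.s2g.kT
  have yw : ∀ y ∈ zpowers k, y • w • pt M = w • pt M := fun y hy => fix_iff.2 (by
    have := inverts_of_mem_zpowers (v := w⁻¹) (x := k) (by
      rw [← w4, inv_inv, inv_eq_of_mul_eq_one_left ww]) hy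
    rw [inv_inv] at this
    exact this ▸ inv_mem (NM (kN hy)))
  have fix : ∀ y ∈ zpowers k, y ≠ 1 → ∀ γ : G ⧸ M, y • γ = γ → γ = pt M ∨ γ = w • pt M := by
    intro y hy y1 γ i
    have yL := zpowers_le.2 q.kL hy
    have yv := mem_cent1.1 (n2 yL)
    by_cases j : v • γ = γ
    · obtain ⟨c, hc, rfl⟩ := h.trans0 hv j
      obtain ⟨l, hl, e1⟩ := HL c hc
      rw [← e1] at i ⊢
      refine or_iff_not_imp_left.2 fun l1 => ?_
      obtain ⟨t, ht, e2⟩ := q.rb.two l hl w w1 (fun a => l1 (smul_pt.2 (NM a))) w3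
      have e3 : t • w • pt M = l • pt M := by
        rw [← inv_smul_eq_iff, ← mul_smul, ← mul_smul, smul_pt.2 (NM e2)]
      have e4 := semi _ (mul_mem (inv_mem ht) (conj_mem_of_norm (kN hy) ht)) (by
        rw [mul_smul, mul_smul, yw _ (inv_mem hy), mul_smul, e3, i, ← e3, inv_smul_smul])
      rw [← e3, (reg_iff.1 (reg_k q) y hy t ht (by
        rw [← mul_inv_eq_iff_eq_mul.1 (inv_mul_eq_one.1 e4).symm])).resolve_left y1, one_smul]
    · obtain ⟨x, hx, x1⟩ := U.exI hU γ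
      obtain ⟨c, c1, c2, c3, -⟩ := U.dih hU (h.vv hv) (h.nI hv vA) hx x1 j
      have e1 : v * (y * c * y⁻¹) = y * (v * c) * y⁻¹ := by
        rw [← mul_assoc, ← mul_assoc, ← yv, mul_assoc y]
      have := U.dih_uniq hU (h.vv hv) (h.nI hv vA) hx x1 j (ini_conj c1 y)
        (mem_cent1.1 (mul_mem (mul_mem (n2 yL) (mem_cent1.2 c2.symm)) (inv_mem (n2 yL)))).symm
        (h.cenI (e1 ▸ Cx.conj_sq y (by
          rw [mul_assoc, ← mul_assoc c, ← c2, mul_assoc, U.ii hU c1, mul_one, h.vv hv]))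
          (by rw [e1, ← i, fix_conj]; exact U.cfix hU hx x1 c3) hx x1) c1 c2 c3
      obtain ⟨g, g1, g2⟩ := h.conjA hv vA c1 c2
      exact (y1 (eq_one_k q (n1 g1) hy (e ▸ g2) c1.1 (mul_inv_eq_iff_eq_mul.1 this))).elim
  have reg : Reg (O2 M) (zpowers k) := reg_iff.2 fun y hy x hx i => by
    by_contra! j
    have xM := Op_le _ _ hx
    have ox := odd_of_mem (odd_O2 M) hx
    have x1 : w⁻¹ * x * w ∈ M := fix_iff.1 ((fix y hy j.1 _ (fix_comm (yw y hy) i)).resolve_left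
      fun a => wM ((smul_left_cancel_iff x).1 (a.trans (smul_pt.2 xM).symm)))
    have wv := mem_cent1.1 (n2 w1)
    have x2 : w⁻¹ * x * w ∈ O2 M := by
      have o : Odd (orderOf (w⁻¹ * x * w)) := by
        rwa [← H7.orderOf_conj' w⁻¹ x, inv_inv] at ox
      have := mul_mem (mem_sup_right hv : v ∈ O2 M ⊔ V)
        (conj_mem_of_norm (h.nWV x1) (inv_mem (mem_sup_right hv : v ∈ O2 M ⊔ V)))
      rw [show v * (w⁻¹ * x * w * v⁻¹ * (w⁻¹ * x * w)⁻¹) = (w⁻¹ * x * w)⁻¹ * (w⁻¹ * x * w)⁻¹ by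
        rw [← mul_assoc, mul_right_cancel_iff, mul_inv_rev, mul_inv_rev, inv_inv, ← h.invW hv vA hx,
          ← mul_assoc, ← mul_assoc, ← mul_assoc, (Commute.inv_left wv).symm.eq, mul_assoc _ w,
          (Commute.inv_right wv).eq]
        group] at this
      exact h.leW (zpowers_le.2 (inv_mem_iff.1 (BS.mem_of_sq_mem (by rwa [orderOf_inv]) this)))
        (by rwa [card_zpow]) (mem_zpowers _)
    have n : ∀ a ∈ 𝒞₁ x, a ∈ 𝒩 (zpowers x) := fun a ha => cent_le_norm _ (cent_zpowers x ▸ ha)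
    have H1 := U.norm_ne hU (ne_bot_of_mem (mem_zpowers x) j.2) (zpowers_le.2 xM)
    have H2 : A ≤ 𝒩 (zpowers x) := fun a ha => n a (cent_le_cent1 hx (h.AW ha))
    have H3 : ¬ 𝒩 (zpowers x) ≤ M := fun a => by
      obtain ⟨b, b1, b2⟩ := U.exA hU
      have := mem_cent1_conj (g := w).2 (cent_le_cent1 x2 (h.AW b1))
      exact wM (U.uniq hU (ini_conj (ini_of_mem b1 b2) w) (fix_conj.2 (smul_pt.2 (U.AM hU b1)))
        (smul_pt.2 (a (n _ (by simpa [mul_assoc] using this)))))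
    obtain ⟨a, a1, a2⟩ := U.o2 hU H1 H2 H3 (mem_normalizer_zpowers_of_inverts (h.invW hv vA hx))
      (h.vv hv) (h.sA (h.VS hv))
    obtain ⟨u1, u2⟩ := h.mulA hv vA a1
    rcases h.gam w2 u1 u2 (U.orb_eq hU H1 H2 H3 (h.cne u1 u2) (h.AC u1) (h.nle u1 u2)
      (fun g hg => h.trans0 u1 (a2 g hg)) (U.o1 hU H1 H2 H3 (le_norm _) (card_zpow x ▸ ox) H2
        (mem_zpowers x))) with b | b
    · exact j.2 b
    · exact (show Ivo x from ⟨j.2, b ▸ h.vv u1⟩).not_odd ox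
  have k1 : zpowers k ≠ ⊥ := ne_bot_of_card fun i => by
    have := q.ord
    have := szp_card q
    rw [card_zpow] at i; omega
  have := SFx.wie kN (reg_k q) (ne_bot_of_le (ne_bot_of_card fun i => by
    have := szp_card q; omega) (inf_le_left : 𝒵 T ≤ T)) k1 (TM.trans nW) ((kN.trans NM).trans nW)
    (cop_of_pgroup Nat.prime_two q.syl.isPGroup (odd_O2 M).not_two_dvd_nat).symm
    (reg.cop ((kN.trans NM).trans nW)) (h.ft _ (odd_O2 M))
  rw [reg.cent_eq_bot le_rfl k1, relIndex_bot_right, one_pow, one_mul] at this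
  have TW := cent_symm ((eq_of_card_le inf_le_left this.le).ge.trans inf_le_right)
  intro s hs
  obtain ⟨n, hn⟩ := isPGroup_iff_forall.1 h.syl.isPGroup s hs.1
  obtain ⟨l, hl, c, hc, rfl⟩ := (mem_sup_l (cent_le_norm L)).1 (q.aut2 s (n1 hs.2) ⟨n, hn⟩)
  rcases h.gam w2 hv vA (x := c) (fun g hg => by
    obtain ⟨l, hl, i⟩ := HL g hg
    rw [← i, ← mul_smul, ← mem_cent.1 hc l hl, mul_smul, smul_pt.2 (h.nA (cent_le_norm _
      (cent_anti AL hc)))]) with rfl | rfl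
  · exact .inl (TW (eT _ hs (mul_mem hl (one_mem _))))
  · refine .inr (TW (eT _ (mul_mem hs ⟨h.VS hv, self_mem_cent1 _⟩) ?_))
    rwa [mul_assoc, h.vv hv, mul_one]

theorem case2 (k1 : k ∈ 𝒩 S) (k2 : k * v = v * k)
    (tr : ∀ a ∈ A, ∀ b ∈ A, a ≠ 1 → b ≠ 1 → ∃ n : ℕ, k ^ n * a * (k ^ n)⁻¹ = b) : O2 M = ⊥ := by
  have hU := h.toUC
  have SM := U.SM hU
  have nW := (Op_nrm {2}ᶜ M).norm
  obtain ⟨Q, _, _, f, hf, hk⟩ := exists_quo0 (Op_nrm {2}ᶜ M).cent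
  have k0 : ∀ x : M, f x = 1 ↔ (x : G) ∈ 𝒞 (O2 M) := fun x => by
    rw [← mem_bot, ← coe_mem_up, hk]; exact ⟨fun i => i.2, fun i => ⟨x.2, i⟩⟩
  obtain ⟨v, vM, rfl⟩ : ∃ (y : M) (_ : True), (y : G) = v := ⟨⟨v, h.VM hv⟩, trivial, rfl⟩
  obtain ⟨k, kM, rfl⟩ : ∃ (y : M) (_ : True), (y : G) = k :=
    ⟨⟨k, h.nA (h.sc.norm_le ⟨trivial, k1⟩)⟩, trivial, rfl⟩
  have cv : ∀ d, f v * d = d * f v := fun d => by
    obtain ⟨m, rfl⟩ := hf d
    have := (k0 ⁅m, v⁆).2 (SFx.inv_cent (h.vv hv) (odd_O2 M) (nW v.2) (h.cW hv vA) nW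
      (commutator_mem_commutator m.2 (mem_zpowers _)))
    rw [map_commutatorElement, commutatorElement_eq_one_iff_mul_comm] at this
    exact this.symm
  have v2 : f v * f v = 1 := by
    rw [← map_mul, show v * v = 1 from Subtype.ext (h.vv hv), map_one]
  have c1 : ∀ s : M, (s : G) ∈ S → (s : G) * v = v * s → f s = 1 ∨ f s = f v := fun s a b =>
    (h.cenT hv vA w2 s ⟨a, mem_cent1.2 b⟩).imp (k0 s).2 fun i => by
      rw [← mul_one (f s), ← v2, ← mul_assoc, ← map_mul, (k0 (s * v)).2 i, one_mul]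
  have sA : ∀ s ∈ S, ∀ a ∈ A, s * a * s⁻¹ = a := fun s hs a ha => by
    rw [← mem_cent.1 (h.sA hs) a ha, mul_inv_cancel_right]
  have mul : ∀ s ∈ S, ∀ t a b, b ∈ A → s * v * s⁻¹ = v * a → t * v * t⁻¹ = v * b →
      s * t * v * (s * t)⁻¹ = v * (a * b) := fun s hs t a b hb i j => by
    rw [← mul_assoc (v : G), ← i, ← sA s hs b hb, mul_assoc s t, mul_inv_rev, ← mul_assoc _ t⁻¹,
      mul_assoc s, j]
    group
  have ex : ∀ s ∈ S, ∃ a ∈ A, s * v * s⁻¹ = v * a := fun s hs => ⟨_, h.cm v hv s hs, by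
    rw [← mem_cent.1 (h.sA (h.VS hv)) _ (h.cm v hv s hs), inv_mul_cancel_right]⟩
  have sq : ∀ s : M, (s : G) ∈ S → f s * f s = 1 ∨ f v = 1 := fun s hs => by
    obtain ⟨a, ha, e⟩ := ex s hs
    by_cases a1 : a = 1
    · rw [a1, mul_one, mul_inv_eq_iff_eq_mul] at e
      exact .inl (map_mul f s s ▸ (k0 _).2 (h.AW (h.sq v hv vA s hs e)))
    have e1 := mul s hs s a a ha e e
    rw [U.aa hU ha, mul_one, mul_inv_eq_iff_eq_mul] at e1
    refine (c1 (s * s) (mul_mem hs hs) e1).imp (map_mul f s s ▸ id) fun e2 => ?_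
    have all : ∀ t : M, (t : G) ∈ S → ∀ b ∈ A, b ≠ 1 → t * v * (t : G)⁻¹ = v * b →
        f t ^ 2 = f v := fun t ht b hb b1 e3 => by
      obtain ⟨n, hn⟩ := tr a ha b hb a1 b1
      have kv : (k : G) ^ n * v = v * k ^ n := (Commute.pow_left k2 n).eq
      have := c1 ((k ^ n * s * (k ^ n)⁻¹)⁻¹ * t)
        (S.mul_mem (S.inv_mem (conj_mem_of_norm (pow_mem k1 n) hs)) ht) (Cx.comm_of_conj_eq (by
          rw [e3, ← hn, ← mul_assoc, ← mul_assoc, ← kv, mul_assoc _ (v : G) a, ← e]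
          push_cast
          rw [mul_assoc _ _ (v : G), (Commute.inv_left kv).eq]
          group))
      have e4 : f (k ^ n * s * (k ^ n)⁻¹) ^ 2 = f v := by
        rw [← map_pow, conj_pow, pow_two, map_mul, map_mul, e2, ← cv, map_inv, mul_inv_cancel_right]
      rw [map_mul, map_inv] at this
      rcases this with i | i
      · rw [← inv_mul_eq_one.1 i, e4]
      · rw [inv_mul_eq_iff_eq_mul.1 i, Commute.mul_pow (cv _).symm 2, e4, pow_two, v2, mul_one]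
    obtain ⟨x, x1, y, y1, z, z1, n1, n2, n3, n4, n5, n6, n7⟩ := seven h.big
    obtain ⟨r, r1, r2⟩ := h.onto v hv vA x x1
    obtain ⟨t, t1, t2⟩ := h.onto v hv vA y y1
    obtain ⟨w, w1, w2⟩ := h.onto v hv vA z z1
    have rt := mul r r1 t x y y1 r2 t2
    rw [← all (⟨r, SM r1⟩ * ⟨t, SM t1⟩ * ⟨w, SM w1⟩) (mul_mem (mul_mem r1 t1) w1) _
      (mul_mem (mul_mem x1 y1) z1) n7 (mul _ (mul_mem r1 t1) w _ z z1 rt w2), map_mul, map_mul]
    exact sq_seven cv ((pow_two _).trans v2) (all _ r1 x x1 n1 r2) (all _ t1 y y1 n2 t2)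
      (all _ w1 z z1 n3 w2)
      (map_mul f _ _ ▸ all (⟨r, SM r1⟩ * ⟨t, SM t1⟩) (mul_mem r1 t1) _ (mul_mem x1 y1) n4 rt)
      (map_mul f _ _ ▸ all (⟨r, SM r1⟩ * ⟨w, SM w1⟩) (mul_mem r1 w1) _ (mul_mem x1 z1) n5
        (mul r r1 w x z z1 r2 w2))
      (map_mul f _ _ ▸ all (⟨t, SM t1⟩ * ⟨w, SM w1⟩) (mul_mem t1 w1) _ (mul_mem y1 z1) n6
        (mul t t1 w y z z1 t2 w2))
  refine eq_bot_of_le (h.cW hv vA) (le_inf le_rfl (le_cent1_iff.2 ((k0 v).1 (by_contra fun i => i ?_))))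
  have ab : Abel (down f S) := fun x hx => mem_cent.2 fun y hy => by
    have : ∀ x ∈ down f S, x⁻¹ = x := by
      rintro _ ⟨s, hs, rfl⟩
      exact inv_eq_of_mul_eq_one_left ((sq s hs).resolve_right i)
    rw [← this _ (mul_mem hy hx), mul_inv_rev, this x hx, this y hy]
  have le : S ≤ ⁅M, M⁆ := (syl_le_iff Nat.prime_two (U.syM hU) (der_nrm M)).2 fun j => by
    obtain ⟨N, -, n1, n2⟩ := exists_nrm_ri_eq Nat.prime_two j
    exact h.two N (n1.le.trans h.MN) (le_antisymm h.MN h.nA ▸ n2)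
  have := mem_der_of_central (down_top hf ▸ (U.syM hU).down f le_rfl) (mem_down_of_mem (h.VS hv))
    (mem_center_iff.2 fun d => (cv d).symm) (by
      rw [_root_.commutator_def, ← down_top hf, ← down_commutator f le_rfl le_rfl]
      exact mem_down_of_mem (le (h.VS hv)))
  rwa [abel_iff_der.1 ab, mem_bot] at this

omit hv vA w2 in
theorem false' : False := by
  have : O2 M = ⊥ := by
    obtain ⟨v, hv, vA, k, k1, k2, tr⟩ := h.tor
    by_cases w2 : ∀ u ∈ V, u ∉ A → v * u ∈ A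
    · exact h.case2 hv vA w2 k1 k2 tr
    push Not at w2
    obtain ⟨u, hu, uA, e⟩ := w2
    exact eq_bot_of_le (h.cW (mul_mem hv hu) e) (le_inf le_rfl (le_cent1_iff.2 (h.cW' hv vA hu uA)))
  have n := h.nWV
  rw [this, bot_sup_eq] at n
  have m : ∀ x ∈ M, x * x = 1 → x ∈ V := fun x a b => by
    obtain ⟨g, g1, g2⟩ := (U.syM h.toUC).exists_conj_mem a ⟨1, (pow_two x).trans b⟩
    simpa [mul_assoc] using conj_mem_of_norm' (n g1) ((h.mV _).2 ⟨g2, Cx.conj_sq g b⟩)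
  exact h.step2 fun x a y b c d => h.ab.comm (m x a c) (m y b d)

end Y

theorem _root_.Cfsg.GS.T3.taskL4 (h1 : TaskL1) : TaskL4 := by
  intro G _ _ S A M h a2 l3 z hz
  by_contra i
  obtain ⟨j, mo⟩ := (h1 G S A M h).2 ⟨z, hz, i⟩
  obtain ⟨g, -, e⟩ := h.syl.exists_conj_mem (mem_top z) ⟨1, (pow_two z).trans hz.2⟩
  have c := j _ (U.SN h e) (hz.conj g).2
  obtain ⟨S1, s1, s2⟩ := exists_syl_ge Nat.prime_two h.elem.pgroup (le_cent1_iff.2 c)
  obtain ⟨T, R, P, k, l⟩ := a2 _ S1 (hz.conj g) (fun a => i ⟨hz.1, g, a⟩) c s1 s2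
  obtain ⟨V, y⟩ := exists_Y h a2 l (l3 _ _ _ _ _ _ l) mo
  exact y.false'

end Cfsg.GS.Dx
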