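import Cfsg.Agent.GS.F1
import Cfsg.Agent.GW.M2

/-! Locally complete signalizer functors: transitivity on maximal `p`-subgroups, Bender's lemma. -/

set_option autoImplicit false
set_option linter.unusedSectionVars false

namespace Cfsg.GS.SFx

open Subgroup Cfsg.L0 Cfsg.H8 Cfsg.FT Cfsg.BS Cfsg.BS.R Cfsg.GS.T3 Cfsg.GW.Mx
open scoped commutatorElement

section defs
variable {G : Type} [Group G]

/-- all `θ`-subgroups normalizing `Y` lie in `M` -/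
def No (A : Subgroup G) (θ : G → Subgroup G) (Y M : Subgroup G) : Prop :=
  ∀ U, In A θ U → U ≤ 𝒩 Y → U ≤ M

/-- locally complete signalizer functor -/
structure Lc (A : Subgroup G) (θ : G → Subgroup G) : Prop extends Fn A θ where
  ft : OddOrder
  lc : ∀ Y, In A θ Y → Y ≠ ⊥ → ∃ W, In A θ W ∧ No A θ Y W

/-- maximal `θ`-subgroup -/
structure Ma (A : Subgroup G) (θ : G → Subgroup G) (M : Subgroup G) : Prop extends In A θ M where
  max : ∀ U, In A θ U → M ≤ U → U = M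

/-- maximal `p`-subgroup among the `θ`-subgroups -/
structure Mp (A : Subgroup G) (θ : G → Subgroup G) (p : ℕ) (P : Subgroup G) : Prop
    extends In A θ P where
  pg : IsPGroup p P
  max : ∀ U, In A θ U → IsPGroup p U → P ≤ U → U = P

/-- `θ(A)` -/
def Dd (A : Subgroup G) (θ : G → Subgroup G) : Subgroup G := 𝒞 A ⊓ ⨅ a ∈ sharp A, θ a

end defs

variable {G : Type} [Group G] [Finite G] {A B C K L M P Q U V W X Y : Subgroup G}
  {θ : G → Subgroup G} {a b g x y : G} {p q : ℕ}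

/-- the symmetries of `θ` -/
def Sy (A : Subgroup G) (θ : G → Subgroup G) : Subgroup G where
  carrier := {g | g ∈ 𝒩 A ∧ ∀ a ∈ sharp A, θ (g * a * g⁻¹) = cj g (θ a)}
  one_mem' := ⟨one_mem _, fun a _ => by simp [cj_one]⟩
  mul_mem' {g h} hg hh := ⟨mul_mem hg.1 hh.1, fun a ha => by
    rw [cj_mul, ← hh.2 a ha, ← hg.2 _ (conj_sharp hh.1 ha)]; congr 1; group⟩
  inv_mem' {g} hg := ⟨inv_mem hg.1, fun a ha => by
    rw [← cj_inj g, cj_cj_inv, ← hg.2 _ (conj_sharp (inv_mem hg.1) ha)]; congr 1; group⟩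

theorem In.cj (h : In A θ U) (hg : g ∈ Sy A θ) : In A θ (cj g U) :=
  ⟨(card_cj g U).symm ▸ h.odd, by rw [← cj_norm, ← cj_eq_of_mem_norm hg.1]; exact cj_mono g h.inv,
    fun a ha => by
      have := cj_mono g (h.le _ (conj_sharp (inv_mem hg.1) ha))
      rwa [cj_inf, cj_cent1, (inv_mem hg).2 a ha, cj_cj_inv,
        show g * (g⁻¹ * a * g⁻¹⁻¹) * g⁻¹ = a by group] at this⟩

theorem Ma.cj (h : Ma A θ M) (hg : g ∈ Sy A θ) : Ma A θ (cj g M) :=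
  ⟨h.1.cj hg, fun U h1 h2 => by
    rw [← h.max _ (h1.cj (inv_mem hg)) (by simpa [cj_inv_cj] using cj_mono g⁻¹ h2), cj_cj_inv]⟩

theorem Mp.cj (h : Mp A θ p P) (hg : g ∈ Sy A θ) : Mp A θ p (cj g P) :=
  ⟨h.1.cj hg, isPGroup_cj h.pg g, fun U h1 h0 h2 => by
    rw [← h.max _ (h1.cj (inv_mem hg)) (isPGroup_cj h0 _)
      (by simpa [cj_inv_cj] using cj_mono g⁻¹ h2), cj_cj_inv]⟩

theorem Dd_le (ha : a ∈ sharp A) : Dd A θ ≤ θ a := inf_le_right.trans (iInf₂_le a ha)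

theorem Dd_le_Sy : Dd A θ ≤ Sy A θ := fun g hg => ⟨cent_le_norm A hg.1, fun a ha => by
  rw [cj_eq_of_mem_norm (le_norm _ (Dd_le ha hg)), ← mem_cent.1 hg.1 a ha.1, mul_inv_cancel_right]⟩

theorem In.le_Dd (h : In A θ U) : U ⊓ 𝒞 A ≤ Dd A θ := le_inf inf_le_right
  (le_iInf₂ fun a ha => (inf_le_inf_left _ (cent_le_cent1 ha.1)).trans (h.le a ha))

theorem Fn.le_Sy (h : Fn A θ) : A ≤ Sy A θ := fun g hg => ⟨le_norm A hg, fun a ha => by
  rw [cj_eq_of_mem_norm (h.inv a ha hg), h.elem.abel.comm hg ha.1, mul_inv_cancel_right]⟩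

theorem In.ma (h : In A θ U) : ∃ M, U ≤ M ∧ Ma A θ M :=
  let ⟨M, h1, h2, h3⟩ := exists_maximal_ge (S := In A θ) h; ⟨M, h1, h2, h3⟩

theorem In.mp (h : In A θ U) (hp : IsPGroup p U) : ∃ P, U ≤ P ∧ Mp A θ p P :=
  let ⟨P, h1, h2, h3⟩ := exists_maximal_ge (S := fun P => In A θ P ∧ IsPGroup p P) ⟨h, hp⟩
  ⟨P, h1, h2.1, h2.2, fun U a b => h3 U ⟨a, b⟩⟩

theorem In.Op (h : In A θ U) (π : Set ℕ) : In A θ (Op π U) := h.sub (Op_le _ _) (le_norm_Op π h.inv)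

theorem In.infc (h : In A θ U) (h2 : A ≤ 𝒩 V) : In A θ (U ⊓ 𝒞 V) :=
  h.sub inf_le_left (le_norm_inf h.inv (le_norm_cent h2))

theorem In.infn (h : In A θ U) (h2 : A ≤ 𝒩 V) : In A θ (U ⊓ 𝒩 V) :=
  h.sub inf_le_left (le_norm_inf h.inv (le_norm_norm h2))

theorem No.cent (h : No A θ Y M) (hU : In A θ U) (h1 : U ≤ 𝒞 Y) : U ≤ M :=
  h U hU (h1.trans (cent_le_norm Y))

theorem No.inf (h : No A θ X L) (hM : In A θ M) (h1 : X ≤ Fit M) (h2 : A ≤ 𝒩 X) : Inf M L :=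
  have f := hM.sub (Fit_le M) (hM.inv.trans (norm_le_norm_Fit M))
  (inf_le_inf_left _ (cent_anti (le_inf h1 (h X (f.sub h1 h2) (le_norm X))))).trans
    (h.cent (f.infc h2) inf_le_right)

theorem le_norm_ncl (h1 : A ≤ 𝒩 M) (h2 : A ≤ 𝒩 X) : A ≤ 𝒩 (ncl M X) := fun g hg =>
  inv_mem_iff.1 (mem_norm_of_cj_le (le_cj_iff.1 (ncl_le_iff.2 fun m hm => by
    refine (congrArg (cj m) (cj_eq_of_mem_norm (h2 hg))).ge.trans ?_
    rw [← cj_mul, show m * g = g * (g⁻¹ * m * g) by group, cj_mul]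
    exact cj_mono g (cj_le_ncl X (conj_mem_of_norm' (h1 hg) hm)))))

namespace Lc
variable (h : Lc A θ)
include h

theorem sol (hU : In A θ U) : Sol U := h.ft _ hU.odd

theorem exN (hY : In A θ Y) (h0 : Y ≠ ⊥) : ∃ M, Ma A θ M ∧ No A θ Y M :=
  let ⟨_, h1, h2⟩ := h.lc Y hY h0
  let ⟨M, h3, h4⟩ := h1.ma
  ⟨M, h4, fun U a b => (h2 U a b).trans h3⟩

theorem no (hM : Ma A θ M) (h0 : Y ≠ ⊥) (h1 : Y ⊴ M) (h2 : A ≤ 𝒩 Y) : No A θ Y M :=
  let ⟨W, h3, h4⟩ := h.lc Y (hM.1.sub h1.le h2) h0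
  hM.max W h3 (h4 M hM.1 h1.norm) ▸ h4

/-- (3) -/
theorem trans (hp : p.Prime) (hP : Mp A θ p P) (hQ : Mp A θ p Q) : ∃ d ∈ Dd A θ, cj d P = Q := by
  haveI := Fact.mk hp
  by_contra hc
  obtain ⟨_, ⟨P, Q, hP, hQ, hc, rfl⟩, hmax⟩ := exists_max_card' (S := fun R => ∃ P Q, Mp A θ p P ∧
    Mp A θ p Q ∧ (¬ ∃ d ∈ Dd A θ, cj d P = Q) ∧ P ⊓ Q = R) ⟨_, P, Q, hP, hQ, hc, rfl⟩
  have l1 : P ⊓ Q < P := inf_lt_left.2 fun q => hc ⟨1, one_mem _, by rw [cj_one, hP.max Q hQ.1 hQ.pg q]⟩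
  have l2 : P ⊓ Q < Q := inf_lt_right.2 fun q => hc ⟨1, one_mem _, by rw [cj_one, hQ.max P hP.1 hP.pg q]⟩
  obtain ⟨W, hW, w1, w2⟩ : ∃ W, In A θ W ∧ P ⊓ Q < P ⊓ W ∧ P ⊓ Q < Q ⊓ W := by
    have n := le_norm_inf hP.inv hQ.inv
    by_cases q : P ⊓ Q = ⊥
    · rw [q] at l1 l2 ⊢
      by_contra! c
      refine l1.not_ge (genH h.elem hP.odd hP.inv fun B hB => not_not.1 fun r => l2.not_ge
        (gen1 (h.elem.mono hB.le) (h.hy hB) hQ.odd (hB.le.trans hQ.inv) fun b hb => ?_))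
      have hb' : b ∈ sharp A := ⟨hB.le hb.1, hb.2⟩
      refine (le_inf inf_le_left (hQ.le b hb')).trans (not_bot_lt_iff.1 (c _ (h.self hb')
        (bot_lt_iff_ne_bot.2 fun s => r (s.le.trans' (le_inf inf_le_left ?_))))).le
      exact (inf_le_inf_left _ (cent_le_cent1 hb.1)).trans (hP.le b hb')
    · obtain ⟨W, hW, w⟩ := h.lc _ (hP.1.sub inf_le_left n) q
      exact ⟨W, hW, (lt_inf_normalizer hP.pg l1).trans_le (le_inf inf_le_left
        (w _ (hP.1.infn n) inf_le_right)), (lt_inf_normalizer hQ.pg l2).trans_le (le_inf inf_le_left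
        (w _ (hQ.1.infn n) inf_le_right))⟩
  have ca := caE h.elem hW.odd hW.inv
  obtain ⟨S, s1, s2, s3⟩ := ca.exists_syl_ge hp hP.pg.to_inf_left inf_le_right (le_norm_inf hP.inv hW.inv)
  obtain ⟨T, t1, t2, t3⟩ := ca.exists_syl_ge hp hQ.pg.to_inf_left inf_le_right (le_norm_inf hQ.inv hW.inv)
  obtain ⟨d, d1, rfl⟩ := ca.syl_conj hp s1 t1 s2 t2
  obtain ⟨R, r1, r2⟩ := (hW.sub s1.le s2).mp s1.isPGroup
  have d2 := hW.le_Dd d1
  obtain ⟨e, e1, rfl⟩ : ∃ d ∈ Dd A θ, cj d P = R := not_not.1 fun q =>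
    (hmax _ ⟨P, R, hP, r2, q, rfl⟩).not_gt (card_lt (w1.trans_le (le_inf inf_le_left (s3.trans r1))))
  obtain ⟨f, f1, f2⟩ : ∃ f ∈ Dd A θ, cj f (cj d (cj e P)) = Q := not_not.1 fun q =>
    (hmax _ ⟨_, Q, r2.cj (Dd_le_Sy d2), hQ, q, rfl⟩).not_gt (card_lt (w2.trans_le
      (le_inf (t3.trans (cj_mono d r1)) inf_le_left)))
  exact hc ⟨f * (d * e), mul_mem f1 (mul_mem d2 e1), by rw [cj_mul, cj_mul, f2]⟩

theorem exP (hp : p.Prime) : ∃ P, In A θ P ∧ IsPGroup p P ∧ Sy A θ ≤ 𝒩 P ∧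
    ∀ Y, In A θ Y → IsPGroup p Y → Dd A θ ≤ 𝒩 Y → Y ≤ P := by
  obtain ⟨P, -, hP⟩ := (in_bot (A := A) (θ := θ)).mp (IsPGroup.of_bot (p := p))
  have n : Sy A θ ≤ 𝒩 (sInf {P | Mp A θ p P}) := fun g hg => mem_norm_of_cj_le (le_sInf fun Q hQ =>
    (cj_mono g (sInf_le (hQ.cj (inv_mem hg)))).trans (cj_cj_inv g Q).le)
  refine ⟨_, hP.1.sub (sInf_le hP) (h.le_Sy.trans n), hP.pg.to_le (sInf_le hP), n,
    fun Y h1 h2 h3 => le_sInf fun Q hQ => ?_⟩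
  obtain ⟨R, r1, r2⟩ := h1.mp h2
  obtain ⟨d, d1, rfl⟩ := h.trans hp r2 hQ
  exact (cj_eq_of_mem_norm (h3 d1)).ge.trans (cj_mono d r1)

theorem sylZ (hp : p.Prime) (hM : Ma A θ M) (h0 : M ≠ ⊥) (h1 : Op {p}ᶜ M = ⊥) :
    ∃ P Z, IsSyl p P M ∧ Mp A θ p P ∧ No A θ Z M ∧
      ∀ H, In A θ H → IsSyl p P H → Op {p}ᶜ H = ⊥ → H ≤ 𝒩 Z := by
  haveI := Fact.mk hp
  obtain ⟨P, p1, p2⟩ := (caE h.elem hM.odd hM.inv).exists_syl hp
  have d : p ∣ ♯M := not_not.1 fun q => h0 (eq_bot_of_le h1 (le_Op_compl hp q (Nrm.refl M)))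
  obtain ⟨Z, z1, z2, z3, z4⟩ := G6.t6_2 hp p1.isPGroup (p1.ne_bot d) (odd_of_dvd hM.odd d)
  have z5 : ∀ H, In A θ H → IsSyl p P H → Op {p}ᶜ H = ⊥ → H ≤ 𝒩 Z := fun H a b c => by
    simpa only [c, bot_sup_eq] using z4 H (h.sol a) a.odd b
  have n := h.no hM z3 ⟨z1.trans p1.le, z5 M hM.1 p1 h1⟩ (p2.trans z2)
  refine ⟨P, Z, p1, ⟨hM.1.sub p1.le p2, p1.isPGroup, fun U a b c => not_not.1 fun q => ?_⟩, n, z5⟩
  have l := lt_inf_normalizer b (lt_of_le_of_ne c (Ne.symm q))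
  exact l.ne' (p1.eq_of_le b.to_inf_left l.le (n _ (a.infn p2) (inf_le_right.trans z2)))

theorem charp (hp : p.Prime) (hM : Ma A θ M) (hL : Ma A θ L) (h1 : Op {p}ᶜ M = ⊥)
    (h2 : Op {p}ᶜ L = ⊥) (hD : Dd A θ ≤ M) : L = M := by
  by_cases a : M = ⊥
  · exact hM.max L hL.1 (a.le.trans bot_le)
  by_cases b : L = ⊥
  · exact (hL.max M hM.1 (b.le.trans bot_le)).symm
  obtain ⟨P, Z, -, p2, p3, p4⟩ := h.sylZ hp hM a h1
  obtain ⟨Q, -, q1, q2, -, -⟩ := h.sylZ hp hL b h2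
  obtain ⟨d, d1, rfl⟩ := h.trans hp q2 p2
  have l := hL.cj (Dd_le_Sy d1)
  rw [← cj_inj d, ← l.max M hM.1 (p3 _ l.1 (p4 _ l.1 (q1.cj d) (by rw [← cj_Op, h2, cj_bot]))),
    cj_eq_of_mem_norm (le_norm M (hD d1))]

theorem noZ (hM : Ma A θ M) (hp : p.Prime) (h0 : Op {p} M ≠ ⊥) : No A θ (𝒵 (Op {p} M)) M :=
  h.no hM (ctr_Op_ne hp h0) (Op_nrm _ M).ctr ((le_norm_Op _ hM.inv).trans (norm_le_norm_ctr _))

theorem two' (hi : Inf M L) (hM : Ma A θ M) (hL : In A θ L) (h2 : Two M) (hq : q.Prime)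
    (h0 : Op {q} M ≠ ⊥) : Op {q} L ≤ M := by
  obtain ⟨r, hr, ne, h1⟩ := h2.ex q
  refine (h.noZ hM hr h1).cent (hL.Op _) (cent_symm (AxB hq (not_dvd_of_pgroup hq hr ne
    (Op_pgroup hr M).to_inf_left) (Op_pgroup hq L) (B := Op {q} M ⊓ L) (Op_pgroup hq M).to_inf_left
    ((hi.ctr hr).trans (Op_nrm _ L).norm) (inf_le_right.trans (Op_nrm _ L).norm)
    ((ctr_Op_le hr M).trans (cent_anti (inf_le_left.trans (Op_le_Fit hq M)))) ?_))
  exact ((le_inf inf_le_left ((h.noZ hM hq h0).cent ((hL.Op _).infc (le_norm_inf (le_norm_Op _ hM.inv)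
    hL.inv)) (inf_le_right.trans (cent_anti (le_inf inf_le_left (hi.ctr hq)))))).trans
    (hi.one hq)).trans (cent_anti (inf_le_left.trans (Op_le_compl hr hq ne.symm M)))

/-- (5) -/
theorem bender (hi : Inf M L) (hM : Ma A θ M) (hL : Ma A θ L) (hD : Dd A θ ≤ M)
    (hπ : ∀ q, q.Prime → Op {q} M = ⊥ → Op {q} L = ⊥) : L = M := by
  have sA := h.sol hM.1
  have cL : CC L := cent_Fit_le (h.sol hL.1)
  by_cases h2 : Two M
  swap
  · obtain ⟨p, hp, e⟩ : ∃ p, p.Prime ∧ ∀ q, q.Prime → q ∈ ({p}ᶜ : Set ℕ) → Op {q} M = ⊥ := by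
      by_contra! c
      obtain ⟨p, hp, -, a⟩ := c 2 Nat.prime_two
      obtain ⟨q, hq, ne, b⟩ := c p hp
      exact h2 ⟨q, p, hq, hp, ne, b, a⟩
    exact h.charp hp hM hL (Op_eq_bot_of_forall sA e)
      (Op_eq_bot_of_forall (h.sol hL.1) fun q a b => hπ q a (e q a b)) hD
  have LA : ∀ r, r.Prime → Op {r} L ≤ M := fun r hr => by
    by_cases e : Op {r} M = ⊥
    · simp [hπ r hr e]
    · exact h.two' hi hM hL.1 h2 hr e
  have h' : Inf L M := inf_le_left.trans (Fit_le_of_forall LA)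
  have c : ∀ r, r.Prime → Op {r} L ≤ 𝒞 (Op {r}ᶜ (Fit M)) := fun r hr =>
    (le_inf le_rfl (LA r hr)).trans (hi.one hr)
  have iL := fun π => le_norm_Op π hL.inv
  have nL : ∀ r, r.Prime → Op {r} M ≠ ⊥ → No A θ (Op {r} L) L := fun r hr a =>
    h.no hL (hi.ne_bot h' cL hr a) (Op_nrm _ L) (iL _)
  have dn : ∀ r, r.Prime → ncl M (Op {r} L) ⊴ M := fun r hr =>
    ⟨ncl_le (LA r hr) (le_norm M), le_normalizer_ncl _ _⟩
  have d : ∀ r u, r.Prime → u.Prime → u ≠ r → Op {u} M ≠ ⊥ → ncl M (Op {r} L) ≤ Op {u}ᶜ M :=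
    fun r u hr hu ne a => ncl_le ((le_Op_compl hu (not_dvd_of_pgroup hu hr ne (Op_pgroup hr L))
      ⟨le_inf (LA r hr) (Op_cent (by simpa using ne.symm) L),
        ((nL u hu a).cent (hM.1.infc (iL _)) inf_le_right).trans (Op_nrm _ L).norm⟩).trans
      (Op_cent_le hu sA (Op_pgroup hu L) (LA u hu))) (Op_nrm _ M).norm
  have le : ∀ p q, p.Prime → q.Prime → p ≠ q → Op {q} M ≠ ⊥ → Op {p} L ≤ Op {p} M :=
    fun p q hp hq ne a => by
      have e : ncl M (Op {p} L) ⊓ ncl M (Op {q} L) = ⊥ := by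
        by_contra e
        have n := (dn p hp).inf (dn q hq)
        obtain ⟨u, hu, b⟩ := exists_prime_dvd (inf_Fit_ne_bot (sA.mono n.le) n e)
        obtain ⟨P, p1, p2⟩ := exists_card_eq hu b
        have p3 := ne_bot_of_le (ne_bot_of_prime (p2 ▸ hu)) (le_Op_of_le_Fit
          ((piG_single hu).2 (isPGroup_of_card p2)) (p1.trans inf_le_right))
        refine not_dvd_Op_compl hu M (p2.symm.dvd.trans (card_dvd (p1.trans (inf_le_left.trans ?_))))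
        by_cases e : u = p
        · exact inf_le_right.trans (d q u hq hu (e ▸ ne) p3)
        · exact inf_le_left.trans (d p u hp hu e p3)
      have b : ncl M (Op {p} L) ≤ L := (nL q hq a).cent
        (hM.1.sub (dn p hp).le (le_norm_ncl hM.inv (iL _))) ((le_cent_of_inf_eq_bot
          ((dn p hp).le.trans (dn q hq).norm) ((dn q hq).le.trans (dn p hp).norm) e).trans
          (cent_anti (le_ncl _ _)))
      exact le_Op_of_sn (Op_pi _ L) (((Op_nrm _ L).mono (le_ncl _ _) b).sn.trans (dn p hp).sn)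
  obtain ⟨p, q, hp, hq, ne, a, b⟩ := h2
  have z : 𝒵 (Op {p} M) ≤ Op {p} L := le_Op_of_le_Fit ((Op_pi _ M).mono inf_le_left)
    ((le_inf (hi.ctr hp) (cent_symm (Fit_le_of_forall fun r hr => by
      by_cases e : r = p
      · exact e ▸ (le p q hp hq ne b).trans (cent_symm inf_le_right)
      · exact (c r hr).trans (cent_anti (inf_le_left.trans (Op_le_compl hp hr (Ne.symm e) M)))
      ))).trans cL)
  have k := cent_symm ((c p hp).trans (cent_anti (Op_le_compl hq hp ne.symm M)))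
  have e : Op {q} M ≤ Op {q} L := le_Op_of_sn (Op_pi _ M) (((Op_nrm _ M).mono
    (le_inf ((nL p hp a).cent (hM.1.Op _) k) k) ((h.noZ hM hp a).cent (hL.1.infc (iL _))
      (inf_le_right.trans (cent_anti z)))).sn.trans (Op_nrm _ L).cent.sn)
  exact (hL.max M hM.1 (h.no hM b (Op_nrm _ M) (le_norm_Op _ hM.inv) L hL.1
    (le_antisymm (le q p hq hp ne.symm a) e ▸ (Op_nrm _ L).norm))).symm

end Lc

end Cfsg.GS.SFx
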