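import Cfsg.Agent.GS.F3

/-! Completeness of locally complete signalizer functors with `N(A)` irreducible on `A`. -/

set_option autoImplicit false
set_option linter.unusedSectionVars false

namespace Cfsg.GS.SFx

open Subgroup Cfsg.L0 Cfsg.H8 Cfsg.FT Cfsg.BS Cfsg.BS.R Cfsg.GS.T3 Cfsg.GW.Mx
open scoped commutatorElement

variable {G : Type} [Group G] [Finite G] {A B E K L M U V X Y : Subgroup G} {θ : G → Subgroup G}
  {a b g n x y : G} {p l : ℕ}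

/-- the situation of step (8) -/
structure St (A : Subgroup G) (θ : G → Subgroup G) (a : G) (M : Subgroup G) (p : ℕ) : Prop
    extends Lc A θ where
  irr : Irr A
  sy : 𝒩 A ≤ Sy A θ
  ha : a ∈ sharp A
  hM : Ma A θ M
  hp : p.Prime
  le : θ a ≤ M
  ne : ⁅Op {p} M, zpowers a⁆ ≠ ⊥
  no : No A θ ⁅Op {p} M, zpowers a⁆ M

theorem Fn.fin6 (h : Fn A θ) (hi : Irr A) (ha : a ∈ sharp A) (h1 : ∀ n ∈ 𝒩 A, θ (n * a * n⁻¹) ≤ M) :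
    Gn A θ ≤ M := Gn_le fun b hb => genH h.elem (h.odd b hb) (h.inv b hb) fun B hB =>
  let ⟨n, n1, n2⟩ := meet hi h.two ha hB
  ((inf_le_inf_left _ (cent_le_cent1 n2)).trans (h.bal b hb _ (conj_sharp n1 ha))).trans (h1 n n1)

theorem Fn.nz (h : Fn A θ) (ha : a ∈ A) : A ≤ 𝒩 (zpowers a) := h.elem.abel.le_norm (zpowers_le.2 ha)

theorem Fn.cop (h : Fn A θ) (ha : a ∈ A) (hU : Odd ♯U) : (♯U).Coprime ♯(zpowers a) :=
  cop2 (h.elem.mono (zpowers_le.2 ha)) hU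

theorem Lc.step7 (h : Lc A θ) (hi : Irr A) (hN : 𝒩 A ≤ Sy A θ) (ha : a ∈ sharp A)
    (hM : Ma A θ (θ a)) : θ a ≤ 𝒞 A := by
  refine cent_symm (cent_of_cent_Fit (h.sol hM.1) hM.inv (cop2 h.elem hM.odd)
    (cent_symm (Fit_le_of_forall fun r hr => ?_)))
  by_cases e : Op {r} (θ a) = ⊥
  · simp [e]
  obtain ⟨P, p1, p2, p3, p4⟩ := h.exP hr
  have l := p4 _ (hM.1.Op _) (Op_pgroup hr _) ((Dd_le ha).trans (Op_nrm _ _).norm)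
  have c := cent_zpowers a ▸ h.cen a ha
  have := (nil_of_pgroup hr p2).cent_of_cent_stab ((zpowers_le.2 ha.1).trans p1.inv)
    (h.cop ha.1 p1.odd) (((inf_le_inf_left _ (cent_anti (le_inf l ((Op_le _ _).trans c)))).trans
      ((h.no hM e (Op_nrm _ _) (le_norm_Op _ hM.inv)).cent (p1.infc (le_norm_Op _ hM.inv))
        inf_le_right)).trans c)
  exact l.trans (cent_symm (span hi ha fun n hn =>
    conj_mem_of_norm (le_norm_cent (hN.trans p3) hn) (this (mem_zpowers a))))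

theorem Lc.step8 (h : Lc A θ) (hi : Irr A) (hN : 𝒩 A ≤ Sy A θ) (ha : a ∈ sharp A)
    (hM : ¬ Ma A θ (θ a)) : ∃ M p, St A θ a M p := by
  have za := zpowers_le.2 ha.1
  obtain ⟨M, m1, m2⟩ := (h.self ha).ma
  obtain ⟨p, hp, e⟩ : ∃ p, p.Prime ∧ ⁅Op {p} M, zpowers a⁆ ≠ ⊥ := by
    by_contra! c
    refine hM (le_antisymm m1 ((le_inf le_rfl ?_).trans (m2.le a ha)) ▸ m2)
    exact cent_zpowers a ▸ cent_symm (cent_of_cent_Fit (h.sol m2.1) (za.trans m2.inv)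
      (h.cop ha.1 m2.odd) (cent_symm (Fit_le_of_forall fun r hr => comm_eq_bot_iff'.1 (c r hr))))
  obtain ⟨_, ⟨L, l1, l2, rfl⟩, hmax⟩ := exists_max_card' (S := fun Y => ∃ M, θ a ≤ M ∧ Ma A θ M ∧
    ⁅Op {p} M, zpowers a⁆ = Y) ⟨_, M, m1, m2, rfl⟩
  have y0 : ⁅Op {p} L, zpowers a⁆ ≠ ⊥ := ne_bot_of_card ((one_lt_card e).trans_le
    (hmax _ ⟨M, m1, m2, rfl⟩)).ne'
  have o := l2.1.Op {p}
  have y1 := comm_le_left (za.trans o.inv)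
  have y2 := o.sub y1 (le_norm_comm o.inv (h.nz ha.1))
  have y3 : θ a ≤ 𝒩 ⁅Op {p} L, zpowers a⁆ := le_norm_comm (l1.trans (Op_nrm _ L).norm)
    (le_norm_of_le_cent (cent_zpowers a ▸ h.cen a ha))
  obtain ⟨N, n1, n2⟩ := h.exN y2 y0
  have n3 := n2 _ (h.self ha) y3
  have := k1 (h.sol n1.1) n1.odd (sq1 h.elem ha.1) (n1.inv ha.1) hp ((Op_pgroup hp L).to_le y1)
    (n2 _ y2 (le_norm _)) (y2.inv ha.1) ((n1.le a ha).trans y3)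
  have c := comm_comm (za.trans o.inv) (h.cop ha.1 o.odd)
  rw [c] at this
  have e := eq_of_card_le (c.ge.trans (comm_mono this le_rfl)) (hmax _ ⟨N, n3, n1, rfl⟩)
  exact ⟨N, p, h, hi, hN, ha, n1, hp, n3, e ▸ y0, e ▸ n2⟩

namespace St
variable (h : St A θ a M p)
include h

theorem aa : a * a = 1 := sq1 h.elem h.ha.1

theorem iP : In A θ (Op {p} M) := h.hM.1.Op _

theorem iQ : In A θ (Op {p}ᶜ (Fit M)) := h.hM.1.sub ((Op_le _ _).trans (Fit_le M))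
  (le_norm_Op _ (h.hM.inv.trans (norm_le_norm_Fit M)))

theorem Yle : ⁅Op {p} M, zpowers a⁆ ≤ Op {p} M := comm_le_left (zpowers_le.2 (h.iP.inv h.ha.1))

theorem PQ : Op {p} M ≤ 𝒞 (Op {p}ᶜ (Fit M)) := Op_Fit h.hp M ▸ Op_cent disjoint_compl_right _

theorem lec (hn : n ∈ 𝒩 A) : θ (n * a * n⁻¹) ≤ cj n M :=
  ((h.sy hn).2 a h.ha).le.trans (cj_mono n h.le)

theorem fpf (hV : In A θ V) (h0 : V ⊓ M = ⊥) : V ⊓ 𝒞₁ a = ⊥ :=
  eq_bot_of_le h0 (le_inf inf_le_left ((hV.le a h.ha).trans h.le))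

theorem kk (hL : In A θ L) (h1 : x ∈ Op {p} M) (h2 : x ∈ L) (h3 : a * x * a = x⁻¹) :
    x ∈ Op {p} L :=
  k1 (h.sol hL) hL.odd h.aa (hL.inv h.ha.1) h.hp (Op_pgroup h.hp M).to_inf_left inf_le_right
    (le_norm_inf h.iP.inv hL.inv h.ha.1) (le_norm_inf (((hL.le a h.ha).trans h.le).trans
      (Op_nrm _ M).norm) (le_norm_of_le inf_le_left))
    (inv_mem_comm h.aa ⟨h1, h2⟩ (odd_of_mem hL.odd h2) h3)

theorem u2 (hL : Ma A θ L) (hi : Inf M L) (ne : L ≠ M) : ∃ l, l.Prime ∧ Op {l} M = ⊥ ∧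
    Op {l} L ≠ ⊥ ∧ Op {l} L ⊓ M = ⊥ ∧ ⁅L, zpowers a⁆ ≤ 𝒞 (Op {l} L) ∧
      ¬ ⁅Op {p} M, zpowers a⁆ ≤ L := by
  obtain ⟨l, l1, l2, l3⟩ : ∃ l, l.Prime ∧ Op {l} M = ⊥ ∧ Op {l} L ≠ ⊥ := by
    by_contra! c
    exact ne (h.bender hi h.hM hL ((Dd_le h.ha).trans h.le) c)
  have l4 := hi.one' (cent_Fit_le (h.sol h.hM.1)) l1 l2
  have o := hL.1.Op {l}
  have l5 := inv_cent h.aa o.odd (o.inv h.ha.1) (h.fpf o l4) (Op_nrm _ L).norm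
  refine ⟨l, l1, l2, l3, l4, l5, fun q => l3 (eq_bot_of_le l4 (le_inf le_rfl (h.no.cent o
    (cent_symm (le_trans ?_ l5)))))⟩
  exact (comm_comm (zpowers_le.2 (h.iP.inv h.ha.1)) (h.cop h.ha.1 h.iP.odd)).ge.trans
    (comm_mono q le_rfl)

theorem u3 (h0 : X ≠ ⊥) (h1 : X ≤ Op {p}ᶜ (Fit M)) (h2 : A ≤ 𝒩 X) : No A θ X M := by
  obtain ⟨L, l1, l2⟩ := h.exN (h.iQ.sub h1 h2) h0
  by_contra c
  obtain ⟨-, -, -, -, -, -, q⟩ := h.u2 l1 (l2.inf h.hM.1 (h1.trans (Op_le _ _)) h2) fun e => c (e ▸ l2)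
  exact q (l2.cent (h.iP.sub h.Yle (le_norm_comm h.iP.inv (h.nz h.ha.1)))
    (h.Yle.trans (h.PQ.trans (cent_anti h1))))

theorem end8 (h8 : ♯A = 8) (hQ : Op {p}ᶜ (Fit M) ≠ ⊥) (hl : l.Prime) (h0 : Op {l} M = ⊥)
    (hV : In A θ V) (v0 : V ≠ ⊥) (v1 : IsPGroup l V) (v2 : V ⊓ M = ⊥)
    (v3 : Op {p}ᶜ (Fit M) ≤ 𝒩 V) (hb : b ∈ sharp A) (ne : a ≠ b) (v4 : V ⊓ 𝒞₁ b = ⊥) : False := by
  have iQ := h.iQ
  have va := h.fpf hV v2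
  have bb := sq1 h.elem hb.1
  have hq : ∀ X, X ≠ ⊥ → X ≤ Op {p}ᶜ (Fit M) → A ≤ 𝒩 X → V ⊓ 𝒞 X = ⊥ := fun X a b c =>
    eq_bot_of_le v2 (le_inf inf_le_left ((h.u3 a b c).cent (hV.infc c) inf_le_right))
  have qc : ∀ d ∈ A, ⁅Op {p}ᶜ (Fit M), zpowers d⁆ ≤ Op {p}ᶜ (Fit M) ∧
      A ≤ 𝒩 ⁅Op {p}ᶜ (Fit M), zpowers d⁆ := fun d hd =>
    ⟨comm_le_left (zpowers_le.2 (iQ.inv hd)), le_norm_comm iQ.inv (h.nz hd)⟩
  have qd : ∀ d ∈ A, V ⊓ 𝒞₁ d = ⊥ → d ∈ 𝒞 (Op {p}ᶜ (Fit M)) := fun d hd e =>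
    zpowers_le.1 (comm_eq_bot_iff.1 (not_not.1 fun q => v0 (eq_bot_of_le
      (hq _ q (qc d hd).1 (qc d hd).2) (le_inf le_rfl (cent_symm
        (inv_cent (sq1 h.elem hd) hV.odd (hV.inv hd) e v3))))))
  have hc : a * b ∈ sharp A := ⟨mul_mem h.ha.1 hb.1, fun q =>
    ne (by rw [eq_inv_of_mul_eq_one_left q, inv_eq_of_mul_eq_one_left bb])⟩
  obtain ⟨n, n1, n2⟩ := tr8 h.irr h.elem h8 h.ha hc
  have m := h.hM.cj (h.sy n1)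
  have lc : ∀ U, In A θ U → U ≤ 𝒞₁ (a * b) → U ≤ cj n M := fun U u1 u2 =>
    ((le_inf le_rfl u2).trans (u1.le _ hc)).trans (n2 ▸ h.lec n1)
  have lV := lc V hV fun v hv => mem_cent1.2 (by
    have e1 := BS.inverts_of_fpf h.aa (hV.inv h.ha.1) hV.odd va hv
    have e2 := BS.inverts_of_fpf bb (hV.inv hb.1) hV.odd v4 hv
    calc v * (a * b) = a * (a * v * a) * (b * b) * b := by rw [bb, ← mul_assoc, ← mul_assoc a, ← mul_assoc a, h.aa]; simp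
      _ = a * b * v * (b * b) * (b * b) := by rw [e1, ← e2]; simp only [mul_assoc]
      _ = _ := by rw [bb]; simp)
  have lQ := lc _ iQ (le_cent1_iff.2 (mul_mem (qd a h.ha.1 va) (qd b hb.1 v4)))
  have pl : p ≠ l := fun e => h.ne (eq_bot_of_le (e ▸ h0) h.Yle)
  have nl : ¬ l ∣ ♯(Op {p}ᶜ (Fit M)) := fun d => (Op_syl_Fit hl M).ne_bot (hp := ⟨hl⟩)
    (d.trans (card_dvd (Op_le _ _))) h0
  have c1 : V ≤ 𝒞 (Op {p}ᶜ (Fit (cj n M))) := by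
    have nq := ((Fit_nrm (cj n M)).Op {p}ᶜ).norm.trans (norm_le_norm_cent _)
    have k : ∀ E, CA E V → V ⊓ 𝒞 E = ⊥ → E ≤ 𝒞 (Op {p}ᶜ (Fit (cj n M))) →
        V ≤ 𝒞 (Op {p}ᶜ (Fit (cj n M))) := fun E e1 e2 e3 =>
      (e1.comm_eq_of_cent e2).ge.trans (comm_le_of_le_of_norm e3 (lV.trans nq))
    by_cases e : a ∈ 𝒞 (Op {p}ᶜ (Fit (cj n M)))
    · exact k _ (R.ca2 h.aa (hV.inv h.ha.1) hV.odd) (cent_zpowers a ▸ va) (zpowers_le.2 e)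
    obtain ⟨d, d1, d2⟩ := SetLike.not_le_iff_exists.1 fun q : A ⊓ 𝒞 (Op {p}ᶜ (Fit (cj n M))) ≤
        A ⊓ 𝒞 (Op {p}ᶜ (Fit M)) => e ((eq_of_card_le q (by
      rw [← cj_Fit, ← cj_Op, ← cj_cent, ← card_cj n, cj_inf, cj_eq_of_mem_norm n1])).ge
        ⟨h.ha.1, qd a h.ha.1 va⟩).2
    exact k _ (mkCA_p' hl ((qc d d1.1).1.trans v3) v1 fun q => nl (q.trans (card_dvd (qc d d1.1).1)))
      (hq _ (fun q => d2 ⟨d1.1, zpowers_le.1 (comm_eq_bot_iff.1 q)⟩) (qc d d1.1).1 (qc d d1.1).2)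
      (comm_le_of_le_of_norm (zpowers_le.2 d1.2) (lQ.trans nq))
  have c2 : Op {p} (cj n M) ≤ 𝒞 V := by
    have iU := m.1.Op {p}
    have nU := (Op_nrm {p} (cj n M)).norm
    have pU := Op_pgroup h.hp (cj n M)
    generalize Op {p} (cj n M) = U at iU nU pU
    obtain ⟨x, x1, x2, x3⟩ := exx h.elem iQ.odd iQ.inv hQ
    have zx := zpowers_le.2 x1
    have cq := cop_of_pgroup h.hp pU (not_dvd_Op_compl h.hp (Fit M))
    have cv := cop_of_pgroups h.hp hl pl pU v1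
    have w1 := wie (zpowers_le.2 (hV.inv h.ha.1)) (fun y hy y1 =>
      ((mem_zp2 h.aa hy).resolve_left y1).symm ▸ va) v0 (zpowers_ne_bot.2 h.ha.2) (lV.trans nU)
      (zpowers_le.2 (iU.inv h.ha.1)) cv (h.cop h.ha.1 iU.odd) (h.sol iU)
    have w2 := wie (zx.trans v3) (fun y hy y1 => cent_zpowers y ▸ hq _ (zpowers_ne_bot.2 y1)
      (zpowers_le.2 (zx hy)) (x3 y hy)) v0 (zpowers_ne_bot.2 x2) (lV.trans nU)
      (zx.trans (lQ.trans nU)) cv (cop_mono cq le_rfl zx) (h.sol iU)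
    have le : U ⊓ 𝒞 (zpowers a) ≤ U ⊓ 𝒞 (zpowers x) := le_inf inf_le_left (le_trans
      (comm_eq_bot_iff'.1 (eq_bot_of_le (inf_eq_bot_of_cop cq) (le_inf
        (comm_le_of_le_of_norm' inf_le_left (lQ.trans nU)) (comm_le_right
          ((cent_zpowers a ▸ (iU.le a h.ha).trans h.le).trans ((Fit_nrm M).Op _).norm)))))
      (cent_anti zx))
    have r := relIndex_le_of_le_right (H := 𝒞 V) le FiniteIndex.index_ne_zero
    have o1 : ♯(zpowers a) = 2 := by rw [card_zpow, h.elem.orderOf_eq Nat.prime_two h.ha.1 h.ha.2]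
    have o2 : 2 < ♯(zpowers x) := by
      have := odd_of_le iQ.odd zx
      have := one_lt_card (zpowers_ne_bot.2 x2)
      grind
    have e := Nat.eq_of_mul_eq_mul_right (card_pos' _) (w1.symm.trans w2)
    have r1 : (𝒞 V).relIndex (U ⊓ 𝒞 (zpowers x)) = 1 := by
      by_contra q
      have : 1 < (𝒞 V).relIndex (U ⊓ 𝒞 (zpowers x)) :=
        Nat.one_lt_iff_ne_zero_and_ne_one.2 ⟨FiniteIndex.index_ne_zero, q⟩
      exact ((Nat.pow_le_pow_left r _).trans_lt (Nat.pow_lt_pow_right this (o1 ▸ o2))).ne e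
    rw [r1, one_pow, one_mul] at w2
    exact (eq_of_card_le inf_le_left w2.le).ge.trans inf_le_right
  refine v0 (eq_bot_of_le (by rw [← cj_Op, h0, cj_bot]) (le_Op_of_le_Fit ((piG_single hl).2 v1)
    ((le_inf lV ?_).trans (cent_Fit_le (h.sol m.1)))))
  rw [← ((Fit_nil (cj n M)).dp {p}).sup, cent_sup, Op_Fit h.hp]
  exact le_inf (cent_symm c2) c1

theorem u4 (hQ : Op {p}ᶜ (Fit M) ≠ ⊥) (h0 : X ≠ ⊥) (h1 : X ≤ Op {p} M) (h2 : A ≤ 𝒩 X) :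
    No A θ X M := by
  haveI := Fact.mk h.hp
  have iP := h.iP
  have pP := Op_pgroup h.hp M
  have ex : ∀ X, X ≠ ⊥ → X ≤ Op {p} M → A ≤ 𝒩 X → ¬ No A θ X M → ∃ L, (Ma A θ L ∧ Inf M L ∧
      Op {p}ᶜ (Fit M) ≤ L ∧ L ≠ M) ∧ Op {p} M ⊓ 𝒩 X ≤ Op {p} M ⊓ L := fun X h0 h1 h2 c =>
    let ⟨L, l1, l2⟩ := h.exN (iP.sub h1 h2) h0
    ⟨L, ⟨l1, l2.inf h.hM.1 (h1.trans (Op_le_Fit h.hp M)) h2, l2.cent h.iQ (cent_symm (h1.trans h.PQ)),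
      fun e => c (e ▸ l2)⟩, le_inf inf_le_left (l2 _ (iP.infn h2) inf_le_right)⟩
  by_contra c
  obtain ⟨_, ⟨L, ⟨hL, hi, lQ, ne⟩, rfl⟩, hmax⟩ := exists_max_card' (S := fun T => ∃ L, (Ma A θ L ∧
    Inf M L ∧ Op {p}ᶜ (Fit M) ≤ L ∧ L ≠ M) ∧ Op {p} M ⊓ L = T)
    (let ⟨L, q, _⟩ := ex X h0 h1 h2 c; ⟨_, L, q, rfl⟩)
  obtain ⟨l, hl, l1, l2, l3, l4, l5⟩ := h.u2 hL hi ne
  have iR := hL.1.Op {l}
  have nR := (Op_nrm {l} L).norm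
  have pR := Op_pgroup hl L
  have pt := hi.part {p}
  rw [Op_Fit h.hp] at pt
  have nT := le_norm_inf iP.inv hL.inv
  have lt : Op {p} M ⊓ L < Op {p} M := inf_lt_left.2 fun q => l5 (h.Yle.trans q)
  have tR : Op {p} M ⊓ L ≤ 𝒩 (Op {l} L) := inf_le_right.trans nR
  have w1 : ⁅Op {p} M ⊓ L, zpowers a⁆ ≤ 𝒞 (Op {l} L) := (comm_mono inf_le_right le_rfl).trans l4
  have pt' := le_inf inf_le_left pt
  generalize Op {l} L = R at l2 l3 l4 iR nR pR tR w1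
  generalize Op {p} M ⊓ L = T at hmax nT lt tR w1 pt'
  have hX : ∀ X, X ≠ ⊥ → X ≤ T → X ≤ 𝒞 R → A ≤ 𝒩 X → T ≤ 𝒩 X → Op {p} M ⊓ 𝒩 X ≤ T :=
    fun X x0 x1 x2 x3 x4 => by
      obtain ⟨K, k1, k2⟩ := ex X x0 (x1.trans lt.le) x3 fun q =>
        l2 (eq_bot_of_le l3 (le_inf le_rfl (q.cent iR (cent_symm x2))))
      exact (eq_of_card_le (le_inf lt.le x4) ((card_le k2).trans (hmax _ ⟨K, k1, rfl⟩))).ge
  have za := zpowers_le.2 h.ha.1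
  have w0 : ¬ T ≤ 𝒞 (zpowers a) := fun q => h.ne (comm_eq_bot_iff.2
    ((nil_of_pgroup h.hp pP).cent_of_cent_stab (za.trans iP.inv) (h.cop h.ha.1 iP.odd)
      (((inf_le_inf_left _ (cent_anti (le_inf lt.le q))).trans pt').trans q)))
  obtain ⟨g, g1, g2, g3, B, hB, g4⟩ := eig h.elem (iP.infn nT).odd (iP.infn nT).inv h.ha.1
    ((le_inf (inf_le_left.trans inf_le_left) (le_norm_comm (inf_le_left.trans inf_le_right)
      (le_norm_of_le_cent (inf_le_right.trans (cent_zpowers a).ge)))).trans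
      (hX _ (mt comm_eq_bot_iff'.1 w0) (comm_le_left (za.trans nT)) w1 (le_norm_comm nT (h.nz h.ha.1))
        (left_le_norm_comm _ _))) (lt_inf_normalizer pP lt).not_ge
  obtain ⟨y, y1, y2, y3, C, hC, y4⟩ := eig h.elem (iP.sub lt.le nT).odd nT h.ha.1 inf_le_right
    (cent_zpowers a ▸ w0)
  have y0 : y ≠ 1 := fun e => y2 (e ▸ one_mem _)
  have nS : A ≤ 𝒩 ((zpowers y ⊔ zpowers g) ⊓ T) := le_norm_inf (le_norm_sup
    (hC.normz h.elem h.ha.1 y4 y3 (odd_of_mem iP.odd (lt.le y1)))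
    (hB.normz h.elem h.ha.1 g4 g3 (odd_of_mem iP.odd g1.1))) nT
  have s0 : ¬ (zpowers y ⊔ zpowers g) ⊓ T ≤ 𝒞 R := fun q => g2 (hX _ (ne_bot_of_le
    (ne_bot_of_mem (mem_inf.2 ⟨mem_sup_left (mem_zpowers y), y1⟩) y0) (le_ncl T _))
    (ncl_le inf_le_right (le_norm T)) (ncl_le q (le_norm_cent tR)) (le_norm_ncl nT nS)
    (le_normalizer_ncl _ _) ⟨g1.1, le_norm_ncl (zpowers_le.2 g1.2) (le_norm_inf
      (le_norm_of_le le_sup_right) (zpowers_le.2 g1.2)) (mem_zpowers g)⟩)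
  have s1 : ∀ b ∈ sharp (B ⊓ C), (zpowers y ⊔ zpowers g) ⊓ T ≤ Op {p} (θ b) := fun b hb => by
    have hb' : b ∈ sharp A := ⟨hB.le hb.1.1, hb.2⟩
    exact inf_le_left.trans (sup_le
      (zpowers_le.2 (h.kk (h.self hb') (lt.le y1) (iP.le b hb' ⟨lt.le y1, cent_le_cent1 hb.1.2 y4⟩) y3))
      (zpowers_le.2 (h.kk (h.self hb') g1.1 (iP.le b hb' ⟨g1.1, cent_le_cent1 hb.1.1 g4⟩) g3)))
  have s2 : (zpowers y ⊔ zpowers g) ⊓ T ≤ T := inf_le_right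
  generalize (zpowers y ⊔ zpowers g) ⊓ T = S at nS s0 s1 s2
  have pl : l ≠ p := fun e => h.ne (eq_bot_of_le (e ▸ l1) h.Yle)
  have v0 := comm_le_left (s2.trans tR)
  have iV := iR.sub v0 (le_norm_comm iR.inv nS)
  have v1 := (abel_of_fpf h.aa iR.odd (iR.inv h.ha.1) (h.fpf iR l3)).comm_inf_cent (s2.trans tR)
    (cop_of_pgroups hl h.hp pl pR (pP.to_le (s2.trans lt.le)))
  have v2 : ∀ b ∈ sharp (B ⊓ C), ⁅R, S⁆ ⊓ 𝒞₁ b = ⊥ := fun b hb => eq_bot_of_le v1 (le_inf inf_le_left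
    (comm_eq_bot_iff'.1 (eq_bot_of_le (inf_eq_bot_of_cop (cop_of_pgroups hl h.hp pl pR
      (Op_pgroup h.hp (θ b)))) (le_inf (comm_le_of_le_of_norm' (inf_le_left.trans v0) (s2.trans tR))
      (comm_le_of_le_of_norm (s1 b hb) ((iV.le b ⟨hB.le hb.1.1, hb.2⟩).trans (Op_nrm _ _).norm))))))
  have v3 := mt comm_eq_bot_iff.1 s0
  have d1 : ♯(B ⊓ C) ≤ 2 := not_lt.1 fun q => v3 (eq_bot_iff.2 (gen1 (h.elem.mono
    (inf_le_left.trans hB.le)) q iV.odd ((inf_le_left.trans hB.le).trans iV.inv)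
    fun b hb => (v2 b hb).le))
  have d2 := (hB.inf hC.le).card
  have d3 := hC.card
  have d4 := h.big
  obtain ⟨b, b1, b2⟩ := exists_ne_one (ne_bot_of_card (A := B ⊓ C) (by omega))
  exact h.end8 (by omega) hQ hl l1 iV v3 (pR.to_le v0) (eq_bot_of_le l3 (inf_le_inf_right _ v0))
    (le_norm_comm (lQ.trans nR) (le_norm_of_le_cent (cent_symm ((s2.trans lt.le).trans h.PQ))))
    ⟨hB.le b1.1, b2⟩ (fun e => y2 (cent_le_cent1 (e ▸ b1.2) y4)) (v2 b ⟨b1, b2⟩)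

theorem star (hQ : Op {p}ᶜ (Fit M) ≠ ⊥) (hn : n ∈ 𝒩 A) (h0 : Op {p} M ⊓ Op {p} (cj n M) ≠ ⊥) :
    n ∈ 𝒩 M :=
  have m := h.hM.cj (h.sy hn)
  have i := le_norm_inf h.iP.inv (m.1.Op {p}).inv
  mem_norm_of_cj_le (h.bender ((h.u4 hQ h0 inf_le_left i).inf m.1
    (inf_le_right.trans (Op_le_Fit h.hp _)) i) m h.hM ((Dd_le (conj_sharp hn h.ha)).trans (h.lec hn))
    fun q _ e => by rwa [← cj_Op, cj_eq_bot_iff] at e).ge

theorem norm : 𝒩 A ≤ 𝒩 M := by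
  by_cases hQ : Op {p}ᶜ (Fit M) = ⊥
  · have := Op_eq_bot_of_forall (π := {p}ᶜ) (h.sol h.hM.1) fun q a b =>
      eq_bot_of_le hQ (Op_le_compl a h.hp b M)
    exact fun n hn => mem_norm_of_cj_le (h.charp h.hp h.hM (h.hM.cj (h.sy hn)) this
      (by rw [← cj_Op, this, cj_bot]) ((Dd_le h.ha).trans h.le)).le
  obtain ⟨g, g1, g2, g3, B, hB, g4⟩ := eig h.elem h.iP.odd h.iP.inv h.ha.1 inf_le_right
    fun q => h.ne (comm_eq_bot_iff'.2 (cent_zpowers a ▸ q))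
  exact blocks h.irr h.elem h.two h.ha hB (fun q => g2 (cent_le_cent1 q g4)) fun n hn q =>
    h.star hQ hn (ne_bot_of_mem ⟨g1, h.kk (h.hM.1.cj (h.sy hn)) g1 (h.lec hn
      (h.iP.le _ (conj_sharp hn h.ha) ⟨g1, cent_le_cent1 q g4⟩)) g3⟩ fun e => g2 (e ▸ one_mem _))

end St

/-- a locally complete functor with `N(A)` irreducible on `A` is complete -/
theorem Lc.complete (h : Lc A θ) (hi : Irr A) (hN : 𝒩 A ≤ Sy A θ) : In A θ (Gn A θ) := by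
  obtain ⟨a, ha⟩ := h.ex (B := A) ⟨le_rfl, fun _ q _ _ r => absurd q r⟩
  by_cases c : Ma A θ (θ a)
  · refine c.1.sub (h.fin6 hi ha fun n hn => (le_inf le_rfl ?_).trans
      ((h.self (conj_sharp hn ha)).le_Dd.trans (Dd_le ha))) h.norm_Gn
    rw [(hN hn).2 a ha, ← cj_eq_of_mem_norm (norm_le_norm_cent A hn)]
    exact cj_mono n (h.step7 hi hN ha c)
  · obtain ⟨M, p, s⟩ := h.step8 hi hN ha c
    exact s.hM.1.sub (h.fin6 hi ha fun n hn => (s.lec hn).trans (cj_eq_of_mem_norm (s.norm hn)).le)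
      h.norm_Gn

/-- completeness for an abstract functor -/
def SF' : Prop := ∀ (G : Type) [Group G] [Finite G] (A : Subgroup G) (θ : G → Subgroup G),
  OddOrder → IsSimpleGroup G → Elem 2 A → 8 ≤ ♯A → Irr A →
  (∀ a ∈ A, a ≠ 1 → Odd ♯(θ a) ∧ θ a ≤ 𝒞₁ a) →
  (∀ n ∈ 𝒩 A, ∀ a ∈ A, a ≠ 1 → θ (n * a * n⁻¹) = cj n (θ a)) →
  (∀ a ∈ A, ∀ b ∈ A, a ≠ 1 → b ≠ 1 → θ a ⊓ 𝒞₁ b ≤ θ b) →
  (∀ H, H ≠ ⊤ → A ≤ H → ∃ X, Odd ♯X ∧ ∀ a ∈ A, a ≠ 1 → θ a ⊓ H ≤ X) →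
  ∃ W, Odd ♯W ∧ 𝒩 A ≤ 𝒩 W ∧ ∀ a ∈ A, a ≠ 1 → W ⊓ 𝒞₁ a = θ a

theorem sf' : SF' := fun G _ _ A θ ft hs hA h8 hi h1 h2 h3 h4 => by
  have hN : 𝒩 A ≤ Sy A θ := fun n hn => ⟨hn, fun a ha => h2 n hn a ha.1 ha.2⟩
  have f : Fn A θ := ⟨hA, h8, fun a ha => (h1 a ha.1 ha.2).1, fun a ha => (h1 a ha.1 ha.2).2,
    fun a ha g hg => mem_norm_of_cj_le (by
      rw [← h2 g (le_norm A hg) a ha.1 ha.2, hA.abel.comm hg ha.1, mul_inv_cancel_right]),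
    fun a ha b hb => h3 a ha.1 b hb.1 ha.2 hb.2⟩
  have w := Lc.complete ⟨f, ft, fun Y y1 y2 => by
    obtain ⟨X, x1, x2⟩ := h4 _ (norm_ne_top' hs y2 fun e => (Nat.coprime_self _).not.2
      (by omega : ♯A ≠ 1) (cop_mono (cop2 hA y1.odd) (e.ge.trans' le_top) le_rfl)) y1.inv
    have k := le_norm_of_le y1.inv
    have := complete ft (f.inf k) (odd_of_le x1 (Gn_le fun a ha => x2 a ha.1 ha.2))
    exact ⟨_, ⟨this.odd, this.inv, fun a ha => (this.le a ha).trans inf_le_left⟩, fun U u1 u2 =>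
      f.le_of u1 fun a ha => (inf_le_inf_left _ u2).trans
        (le_Gn (θ := fun a => θ a ⊓ 𝒩 Y) ha)⟩⟩ hi hN
  refine ⟨_, w.odd, fun n hn => inv_mem_iff.1 (mem_norm_of_cj_le (le_cj_iff.1 (Gn_le fun a ha => ?_))),
    fun a h1 h2 => le_antisymm (w.le a ⟨h1, h2⟩) (le_inf (le_Gn ⟨h1, h2⟩) (f.cen a ⟨h1, h2⟩))⟩
  rw [le_cj_iff, ← (hN (inv_mem hn)).2 a ha]
  exact le_Gn (conj_sharp (inv_mem hn) ha)

theorem sf : SF := fun G _ _ A ft hs hA h8 hi h =>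
  sf' G A (fun a => O2 (𝒞₁ a)) ft hs hA h8 hi (fun _ _ _ => ⟨odd_O2 _, Op_le _ _⟩)
    (fun n _ a _ _ => by rw [cj_Op, cj_cent1])
    (fun a h1 b h2 h3 h4 => h _ (ne_top_of_le_ne_top (norm_ne_top' hs (zpowers_ne_bot.2 h4) fun e =>
      ncyc hA (by omega) ((cyc_zpowers b).mono (e.ge.trans' le_top)))
      ((cent_zpowers b).ge.trans (cent_le_norm _))) (le_cent1_iff.2 (hA.1 h2)) a h1 h3)
    fun H h1 h2 => ⟨_, odd_O2 H, h H h1 h2⟩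

end Cfsg.GS.SFx
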