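import Cfsg.Agent.GS.U5
import Cfsg.Agent.BS.All
import Cfsg.Agent.S2791
import Cfsg.Agent.H9.Util

/-! The beginning and the end of the proof of Goldschmidt's theorem, and of `H8.Sz3`. -/

set_option autoImplicit false

namespace Cfsg.GS.Fx

open Subgroup Cfsg.L0 Cfsg.H8 Cfsg.FT Cfsg.BS Cfsg.BS.R Cfsg.GS.T3
open scoped commutatorElement

variable {G : Type} [Group G] [Finite G] {A B K M S : Subgroup G} {a x z : G}

omit [Finite G] in
theorem eq_or (hs : IsSimpleGroup G) (h : ⊤ ≤ 𝒩 K) : K = ⊥ ∨ K = ⊤ :=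
  hs.eq_bot_or_eq_top_of_normal K (normal_of_top_le h)

omit [Finite G] in
theorem der_top' (hs : IsSimpleGroup G) (hna : ¬ IsMulCommutative G) :
    ⁅(⊤ : Subgroup G), (⊤ : Subgroup G)⁆ = ⊤ :=
  (eq_or hs (der_nrm ⊤).norm).resolve_left fun e =>
    hna ⟨⟨fun x y => (abel_iff_der.2 e).comm (mem_top x) (mem_top y)⟩⟩

omit [Finite G] in
theorem cent1_ne (hs : IsSimpleGroup G) (hna : ¬ IsMulCommutative G) (h : a ≠ 1) : 𝒞₁ a ≠ ⊤ :=
  fun e => hna ⟨⟨fun x y => by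
    have h1 : (center G).Normal := inferInstance
    have h2 := (hs.eq_bot_or_eq_top_of_normal _ h1).resolve_left
      (ne_bot_of_mem (mem_center_iff.2 fun g => mem_cent1.1 (e.ge (mem_top g))) h)
    exact mem_center_iff.1 (h2.ge (mem_top y)) x⟩⟩

theorem O2_top (hs : IsSimpleGroup G) (h : 2 ∣ Nat.card G) : O2 (⊤ : Subgroup G) = ⊥ :=
  (eq_or hs (Op_nrm _ _).norm).resolve_right fun e =>
    (odd_O2 (⊤ : Subgroup G)).not_two_dvd_nat (by rwa [O2, e, card_top])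

/-- fusion in `S` is controlled by `N(A)` -/
theorem ctrl (hS : IsSyl 2 S ⊤) (h : SC A S ⊤) (ha : Abel A) (hx : x ∈ S) {g : G}
    (h2 : g * x * g⁻¹ ∈ S) : ∃ n ∈ 𝒩 A, g * x * g⁻¹ = n * x * n⁻¹ := by
  obtain ⟨P, rfl⟩ := isSyl_top_iff.1 hS
  obtain ⟨n, hn, e⟩ := (controlsStrongFusion_iff hS h.le (h.le_norm le_top)).1
    (Cfsg.Agent.S2791.result P A (abel_iff.1 ha) (sc_top_iff.1 h)) (zpowers x) (zpowers_le.2 hx) g
    trivial (by rw [cj_zpowers']; exact zpowers_le.2 h2)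
  exact ⟨n, hn, e x (mem_zpowers x)⟩

theorem two (hs : IsSimpleGroup G) (hna : ¬ IsMulCommutative G) (hS : IsSyl 2 S ⊤) (h : SC A S ⊤)
    (ha : Abel A) (hK : K ≤ 𝒩 A) : K.relIndex (𝒩 A) ≠ 2 := fun e => by
  have hy : SFx.Hy (𝒩 A) K := SFx.hy_of_dvd hK e.dvd
  have d : ⁅𝒩 A, 𝒩 A⁆ ≤ K := Ux.der_le_of_sq fun x hx => by
    by_cases e : x ∈ K
    exacts [mul_mem e e, hy.mul x hx x hx e e]
  have n := h.le_norm le_top
  have h1 := focal (L := K) Nat.prime_two hS fun x hx g _ h2 => by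
    obtain ⟨m, hm, e⟩ := ctrl hS h ha hx h2
    have : ⁅x, g⁆ = ⁅x, m⁆ := by
      calc ⁅x, g⁆ = x * (g * x * g⁻¹)⁻¹ := by rw [commutatorElement_def]; group
        _ = _ := by rw [e, commutatorElement_def]; group
    exact this ▸ d (commutator_mem_commutator (n hx) hm)
  rw [der_top' hs hna, inf_top_eq] at h1
  exact (hS.mono n le_top).not_dvd_of_le h1 e.symm.dvd

theorem not_cent (hs : IsSimpleGroup G) (hna : ¬ IsMulCommutative G) (hS : IsSyl 2 S ⊤)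
    (h : SC A S ⊤) (ha : Abel A) (h1 : a ∈ A) (a1 : a ≠ 1) : ¬ 𝒩 A ≤ 𝒞₁ a := fun e => by
  refine cent1_ne hs hna a1 (top_le_iff.1 fun g _ => mem_cent1.2
    (commutatorElement_eq_one_iff_mul_comm.1 (eq_one_of_mem (O2_top hs ?_)
      (h.zstar hS ha h1 (inf_le_right.trans e) g trivial))))
  exact (dvd_card_of_pgroup Nat.prime_two hS.isPGroup (ne_bot_of_mem (h.le h1) a1)).trans
    (card_subgroup_dvd_card S)

/-- a minimal strongly closed abelian subgroup -/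
theorem exists_min (hs : IsSimpleGroup G) (hna : ¬ IsMulCommutative G) (hS : IsSyl 2 S ⊤)
    (h : SC B S ⊤) (hb : Abel B) (hne : B ≠ ⊥) :
    ∃ A, A ≤ B ∧ SC A S ⊤ ∧ Elem 2 A ∧ Irr A ∧ 4 ≤ ♯A := by
  obtain ⟨A, h1, ⟨h2, h3⟩, h4⟩ := exists_minimal_le (S := fun A => SC A S ⊤ ∧ A ≠ ⊥) ⟨h, hne⟩
  have ha := hb.mono h1
  have p := hS.isPGroup.to_le h2.le
  have el : Elem 2 A := by
    rw [← h4 (Om 2 A) ⟨⟨(Om_le 2 A).trans h2.le, fun x hx g _ h5 => mem_Om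
      (h2.conj (Om_le 2 A hx) trivial h5) (conj_sq (ha.mem_Om.1 hx).2 g)⟩,
      Om_ne_bot Nat.prime_two p h3⟩ (Om_le 2 A)]
    exact ha.elem_Om 2
  refine ⟨A, h1, h2, el, fun C c1 c2 => or_iff_not_imp_left.2 fun c3 =>
    h4 C ⟨⟨c1.trans h2.le, fun x hx g _ h5 => ?_⟩, c3⟩ c1, ?_⟩
  · obtain ⟨n, hn, e⟩ := h2.fusion hS ha (c1 hx) (mem_top g) (h2.conj (c1 hx) trivial h5)
    exact e ▸ conj_mem_of_norm (c2 hn.2) hx
  · obtain ⟨k, hk⟩ := el.exists_card Nat.prime_two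
    obtain ⟨a, h5, a1⟩ := exists_ne_one h3
    rcases k with _ | _ | k
    · exact absurd (card_eq_one_iff.1 hk) h3
    · exact absurd (fun n hn => mem_cent1.2 (mul_inv_eq_iff_eq_mul.1 (eq_of_card_two hk
        (conj_mem_of_norm hn h5) h5 (conj_ne_one a1 n) a1))) (not_cent hs hna hS h2 ha h5 a1)
    · rw [hk]
      exact Nat.pow_le_pow_right (n := 2) (i := 2) two_pos (by omega)

omit [Finite G] in
theorem mem_of_inI (h : SC A S ⊤) (hz : z ∈ S) (hI : InI A z) : z ∈ A := by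
  obtain ⟨-, g, hg⟩ := hI
  simpa [mul_assoc] using h.conj hg (mem_top g⁻¹) (by simpa [mul_assoc] using hz)

omit [Finite G] in
theorem eq_Om (h : SC A S ⊤) (ha : Elem 2 A) (hI : ∀ z, Ivo z → InI A z) : A = Om 2 S :=
  le_antisymm (ha.le_Om h.le) (Om_le_iff.2 fun x hx e => by
    by_cases e' : x = 1
    · exact e' ▸ one_mem _
    · exact mem_of_inI h hx (hI x ⟨e', by rwa [← sq]⟩))

theorem spe (hS : IsSyl 2 S ⊤) (h : SC A S ⊤) (ha : Abel A) (hne : A ≠ ⊥) (hM : M ≠ ⊤)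
    (nA : 𝒩 A ≤ M) (cA : ∀ a ∈ A, a ≠ 1 → 𝒞₁ a ≤ M) (hI : ∀ z, Ivo z → InI A z) :
    H9.SPE 2 M ⊤ := by
  have SM := (h.le_norm le_top).trans nA
  have key : ∀ x ∈ M, x ≠ 1 → x ^ 2 = 1 → ∃ m ∈ M, m * x * m⁻¹ ∈ A := fun x hx x1 e => by
    obtain ⟨m, hm, h1⟩ := (hS.mono SM le_top).exists_conj_mem hx ⟨1, e⟩
    exact ⟨m, hm, mem_of_inI h h1 (hI _ ⟨conj_ne_one x1 m, by rw [← sq, conj_sq e]⟩)⟩
  refine H9.spe_of_ti le_top hM ((dvd_card_of_pgroup Nat.prime_two (hS.isPGroup.to_le h.le)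
    hne).trans (card_dvd (h.le.trans SM))) fun g _ hd => ?_
  obtain ⟨x, hx, x2⟩ := exists_orderOf_eq Nat.prime_two hd
  have x1 : x ≠ 1 := fun e => by simp [e] at x2
  have x3 : x ^ 2 = 1 := x2 ▸ pow_orderOf_eq_one x
  obtain ⟨m, hm, h1⟩ := key x hx.1 x1 x3
  obtain ⟨u, hu, h2⟩ := key _ (H7.mem_cj.1 hx.2) (by simpa using conj_ne_one x1 g⁻¹)
    (by simpa using conj_sq x3 g⁻¹)
  obtain ⟨n, hn, e⟩ := h.fusion hS ha h1 (mem_top (u * g⁻¹ * m⁻¹)) (by simpa [mul_assoc] using h2)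
  have h3 : n⁻¹ * (u * g⁻¹ * m⁻¹) ∈ M := cA _ h1 (conj_ne_one x1 m) (mem_cent1.2 (by
    generalize m * x * m⁻¹ = b at e
    generalize u * g⁻¹ * m⁻¹ = w at e
    calc n⁻¹ * w * b = n⁻¹ * (w * b * w⁻¹) * w := by group
      _ = _ := by rw [← e]; group))
  rwa [mul_mem_cancel_left (inv_mem (nA hn.2)), mul_mem_cancel_right (inv_mem hm),
    mul_mem_cancel_left hu, inv_mem_iff] at h3

/-- the end of the proof: Bender's theorem -/
theorem bender_of (hs : IsSimpleGroup G) (hS : IsSyl 2 S ⊤) (h : SC A S ⊤) (ha : Elem 2 A)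
    (h4 : 4 ≤ ♯A) (hM : M ≠ ⊤) (nA : 𝒩 A ≤ M) (cA : ∀ a ∈ A, a ≠ 1 → 𝒞₁ a ≤ M)
    (hI : ∀ z, Ivo z → InI A z) :
    (∃ (F : Type) (_ : Field F) (_ : Fintype F), CharP F 2 ∧ 4 ≤ Fintype.card F ∧
      Nonempty (G ≃* Matrix.SpecialLinearGroup (Fin 2) F)) ∨
    (∃ (F : Type) (_ : Field F) (_ : Fintype F) (q : ℕ), Even q ∧ 4 ≤ q ∧ Fintype.card F = q ^ 2 ∧
      Nonempty (G ≃* PSU 3 F q)) ∨ Lie.IsoSuzuki G := by
  have hne : A ≠ ⊥ := ne_bot_of_card (by omega)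
  obtain ⟨a, h1, a1⟩ := exists_ne_one hne
  have a2 := ha.orderOf_eq Nat.prime_two h1 a1
  have e0 : pPrimeCore 2 G = ⊥ := Op_top_compl.symm.trans (O2_top hs (a2 ▸ orderOf_dvd_natCard a))
  let e1 : G ≃* G ⧸ pPrimeCore 2 G :=
    ((QuotientGroup.quotientMulEquivOfEq e0).trans QuotientGroup.quotientBot).symm
  have e2 : pElementClosure 2 (⊤ : Subgroup (G ⧸ pPrimeCore 2 G)) = ⊤ :=
    (eq_or e1.symm.isSimpleGroup (pEC_nrm 2 ⊤).norm).resolve_left (ne_bot_of_mem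
      (subset_closure ⟨mem_top (e1 a), 1, by rw [e1.orderOf_eq, a2, pow_one]⟩) (by simpa using a1))
  let φ := (e1.trans topEquiv.symm).trans (MulEquiv.subgroupCongr e2.symm)
  rcases bender.main M (H9.spe_top_iff.1 (spe hS h ha.abel hne hM nA cA hI)) with h5 |
    ⟨F, _, _, h5, h6, ⟨ψ⟩⟩ | ⟨F, _, _, q, h5, h6, h7, ⟨ψ⟩⟩ | h5
  · have : A ≤ zpowers a := fun b hb => by
      by_cases e : b = 1
      · exact e ▸ one_mem _
      · exact (h5 a a2).2 b (mem_cent1.2 (ha.abel.comm hb h1))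
          (ha.orderOf_eq Nat.prime_two hb e) ▸ mem_zpowers b
    have := card_le this
    rw [card_zpow] at this
    omega
  · exact .inl ⟨F, _, _, h5, h6, ⟨φ.trans ψ⟩⟩
  · exact .inr (.inl ⟨F, _, _, q, h5, h6, h7, ⟨φ.trans ψ⟩⟩)
  · exact .inr (.inr (Ux.iso_congr φ h5))

theorem gold_of (hs : IsSimpleGroup G) (hS : IsSyl 2 S ⊤) (h : SC A S ⊤) (ha : Elem 2 A)
    (h8 : 8 ≤ ♯A) (hM : M ≠ ⊤) (nA : 𝒩 A ≤ M) (cA : ∀ a ∈ A, a ≠ 1 → 𝒞₁ a ≤ M)
    (hI : ∀ z, Ivo z → InI A z) : IsGoldschmidtGroup G := by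
  rcases bender_of hs hS h ha (by omega) hM nA cA hI with ⟨F, _, _, h5, h6, ⟨ψ⟩⟩ |
    ⟨F, _, _, q, h5, h6, h7, ⟨ψ⟩⟩ | h5
  · obtain ⟨n, -, hn⟩ := FiniteField.card F 2
    have c : Nat.card (center (Matrix.SpecialLinearGroup (Fin 2) F)) = 1 := by
      rw [H3.card_center_SL2, hn]
      exact (Nat.coprime_self_sub_right (Nat.one_le_two_pow) |>.2 (by simp) :
        Nat.Coprime (2 ^ (n : ℕ)) (2 ^ (n : ℕ) - 1)).coprime_dvd_left (dvd_pow_self 2 n.ne_zero)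
    refine .inr (.inl ⟨F, _, _, n, ?_, hn, ⟨ψ.trans ((QuotientGroup.quotientMulEquivOfEq
      (card_eq_one.1 c)).trans QuotientGroup.quotientBot).symm⟩⟩)
    by_contra h3
    obtain ⟨k, hk⟩ := ha.exists_card Nat.prime_two
    have h9 : 2 ^ 3 ∣ Nat.card G := ((pow_dvd_pow 2 ((Nat.pow_le_pow_iff_right one_lt_two).1
      (hk ▸ h8 : 2 ^ 3 ≤ 2 ^ k))).trans hk.symm.dvd).trans (card_subgroup_dvd_card A)
    have h2 : Fintype.card F = 4 := le_antisymm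
      (hn ▸ Nat.pow_le_pow_right (n := 2) (j := 2) two_pos (by omega)) h6
    rw [Nat.card_congr ψ.toEquiv, H3.card_SL2, h2] at h9
    omega
  · obtain ⟨p, _, n, hp, hn⟩ := FiniteField.card' F
    obtain rfl : 2 = p := (Nat.prime_dvd_prime_iff_eq Nat.prime_two hp).1 (Nat.prime_two.dvd_of_dvd_pow
      (hn ▸ h7 ▸ h5.two_dvd.trans (dvd_pow_self q two_ne_zero)))
    obtain ⟨k, -, rfl⟩ := (Nat.dvd_prime_pow hp).1 (hn ▸ h7 ▸ dvd_pow_self q two_ne_zero : q ∣ 2 ^ (n : ℕ))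
    exact .inr (.inr (.inr (.inl ⟨F, _, _, k, (Nat.pow_le_pow_iff_right one_lt_two).1
      (h6 : 2 ^ 2 ≤ 2 ^ k), by rw [h7, ← pow_mul, mul_comm, pow_mul]; rfl, ⟨ψ⟩⟩)))
  · exact .inr (.inr (.inl h5))

theorem not_inv3 {G : Type*} [Group G] [Finite G] (h : ¬ 3 ∣ Nat.card G) :
    ¬ Inv 3 (⊤ : Subgroup G) := by
  rintro ⟨x, -, h1, ⟨k, h2⟩, -⟩
  exact h1 (eq_one_of_pElt_of_coprime ⟨k, h2⟩ (Nat.Coprime.coprime_dvd_left (orderOf_dvd_natCard x)
    ((Nat.Prime.coprime_iff_not_dvd Nat.prime_three).2 h).symm))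

theorem sz_of_gold {G : Type*} [Group G] [Finite G] (hG : IsGoldschmidtGroup G)
    (h : ¬ 3 ∣ Nat.card G) : Lie.IsoSuzuki G := by
  refine (szl_of_gold hG (not_inv3 h)).resolve_right ?_
  rintro ⟨F, _, _, n, hF, ⟨e⟩⟩
  have a : 3 ∣ Nat.card G * Nat.gcd 2 (Fintype.card F - 1) := by
    rw [Nat.card_congr e.toEquiv, H3.card_PSL2_mul, hF]
    exact (dvd_pow_self 3 (by omega)).mul_right _
  exact (Nat.prime_three.dvd_mul.1 a).elim h fun b => absurd (b.trans (Nat.gcd_dvd_left _ _))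
    (by norm_num)

theorem exists_sc [IsSimpleGroup G] (hna : ¬ IsMulCommutative G)
    (h : ¬ Involves (Equiv.Perm (Fin 4)) G)
    (ih : ∀ (Y : Type) [Group Y] [Finite Y], Involves Y G → Nat.card Y < Nat.card G →
      IsSimpleGroup Y → ¬ IsMulCommutative Y → ¬ Inv 3 (⊤ : Subgroup Y) →
      IsSuzukiOrPSL2OddPowerThree Y) (hS : IsSyl 2 S ⊤) : ∃ B, SC B S ⊤ ∧ Abel B ∧ B ≠ ⊥ := by
  have : Fact (Nat.Prime 3) := ⟨Nat.prime_three⟩
  obtain ⟨S, rfl⟩ := isSyl_top_iff.1 hS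
  obtain ⟨-, a2, a3, -⟩ := Cfsg.Agent.S2796.result h (fun K R _ c H _ N _ s na => by
    have i0 : Involves (K ⧸ R.subgroupOf K) G := involves_factor K _
    have i := involves_factor H N
    have n3 := not_inv3_of_S4 c fun a => h (involves_trans a i0)
    refine ih _ (involves_trans i i0) ?_ s na fun a =>
      n3 (inv_of_involves (by norm_num) (involves_top_iff.2 i) a)
    refine (Nat.le_of_dvd Nat.card_pos (Involves.card_dvd i)).trans_lt (lt_of_not_ge fun a => ?_)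
    obtain ⟨e⟩ := Involves.equiv_of_card i0 a
    have := e.symm.isSimpleGroup
    rw [pCore_simple (comm_congr e.symm hna), coe_bot, centralizer_eq_top_iff_subset.2 (by simp)] at c
    exact not_subsingleton _ (Subgroup.subsingleton_iff.1 (subsingleton_of_top_le_bot c)))
    S _ rfl _ rfl
  refine ⟨_, sc_top_iff.2 a3, H7.ea_le_centralizer a2, ?_⟩
  have s1 := H9.le_normalizer_J 2 (S : Subgroup G)
  refine fun e => H7.omegaOneCenter_ne_bot S.isPGroup' (fun b => ?_) (le_bot_iff.1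
    ((le_ncl _ _).trans ((map_normalClosure_eq_ncl ((H7.omegaOneCenter_le 2 _).trans s1)).symm.trans
      e).le))
  have := hS.not_dvd
  rw [b, relIndex_bot_left, card_top] at this
  exact this (even_of_simple oddOrder hna).two_dvd

theorem _root_.Cfsg.GS.T3.sz3_of (hU : T3.TaskU) (h0 : TaskL0) (h1 : TaskL1) (h2 : TaskL2)
    (h3 : TaskL3) (h4 : TaskL4) : Sz3 := by
  intro G _ _ hs hna n3
  induction hn : Nat.card G using Nat.strong_induction_on generalizing G with | _ n ih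
  subst hn
  have ih' : ∀ (Y : Type) [Group Y] [Finite Y], Involves Y G → Nat.card Y < Nat.card G →
      IsSimpleGroup Y → ¬ IsMulCommutative Y → Lie.IsoSuzuki Y := fun Y _ _ i l s na =>
    ih _ l Y s na (fun e => n3 (e.trans (Involves.card_dvd i))) rfl
  obtain ⟨S, hS⟩ := exists_isSyl 2 (⊤ : Subgroup G)
  obtain ⟨B, b1, b2, b3⟩ := exists_sc hna (not_S4_of_not_inv3 (not_inv3 n3))
    (fun Y _ _ i l s na _ => .inl (ih' Y i l s na)) hS
  obtain ⟨A, -, a1, a2, a3, a4⟩ := exists_min hs hna hS b1 b2 b3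
  have a8 : 8 ≤ ♯A := by
    by_contra e
    obtain ⟨k, hk⟩ := a2.exists_card Nat.prime_two
    have c4 : ♯A = 4 := le_antisymm (hk ▸ Nat.pow_le_pow_right (n := 2) (j := 2) two_pos (by
      by_contra e'
      exact e (hk ▸ Nat.pow_le_pow_right (n := 2) (i := 3) two_pos (by omega)))) a4
    have d := H9.relIndex_centralizer_dvd_factorial (le_refl (𝒩 A))
    rw [c4] at d
    have d3 : ¬ 3 ∣ (𝒞 A).relIndex (𝒩 A) := fun e =>
      n3 (e.trans ((ri_dvd_card _ _).trans (card_subgroup_dvd_card _)))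
    have d2 := two hs hna hS a1 a2.abel (cent_le_norm A)
    obtain ⟨a, ha, a0⟩ := exists_ne_one (ne_bot_of_card (show ♯A ≠ 1 by omega))
    refine not_cent hs hna hS a1 a2.abel ha a0 ((relIndex_eq_one.1 ?_).trans (cent_le_cent1 ha))
    have := Nat.le_of_dvd (by norm_num) d
    generalize (𝒞 A).relIndex (𝒩 A) = r at d d2 d3 this ⊢
    simp only [Nat.factorial] at d this
    interval_cases r <;> first | rfl | omega
  obtain ⟨M, hM, hI⟩ := all_inI hU h0 h1 h2 h3 h4 (S := S) (A := A)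
    ⟨oddOrder, hs, n3, fun H hH Y _ _ i s na => ih' Y (involves_trans i (involves_subgroup H))
      ((Nat.le_of_dvd Nat.card_pos (Involves.card_dvd i)).trans_lt
        (card_top (G := G) ▸ card_lt (lt_top_iff_ne_top.2 hH))) s na,
      hS, a1, a2, a8, a3, fun K hK => two hs hna hS a1 a2.abel hK⟩
  exact sz_of_gold (gold_of hs hS a1 a2 a8 hM.ne hM.nA hM.cA hI) n3

end Cfsg.GS.Fx
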