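import Cfsg.Agent.GS.T3

/-! Task K, part 0: the Suzuki groups. -/

set_option autoImplicit false
set_option linter.unusedSectionVars false

namespace Cfsg.GS.Kx

open Subgroup Cfsg.L0 Cfsg.H8 Cfsg.FT Cfsg.BS Cfsg.BS.R Cfsg.GS.T3 Cfsg.H7.Suz
open scoped commutatorElement

section model
variable {F : Type*} [Field F] [CharP F 2] {θ : F →+* F} [Tits θ] {a b c e : F}

omit [CharP F 2] in
theorem sq_inj (h1 : a * θ a = c * θ c) : a = c := by
  by_cases h0 : c = 0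
  · simpa [h0] using h1
  have h3 := congrArg θ h1
  simp only [map_mul, Tits.sq] at h3
  have h2 : a ≠ 0 := fun e => by simp [e, h0] at h1
  refine mul_left_cancel₀ (mul_ne_zero h0 ((map_ne_zero θ).2 h0)) ?_
  linear_combination h3 - a * h1

omit [CharP F 2] in
theorem cen_fld (h : a * θ c = c * θ a) (h0 : a ≠ 0) : c = 0 ∨ c = a := by
  refine or_iff_not_imp_left.2 fun h1 => (div_eq_one_iff_eq h0).1
    (fix_eq_one (θ := θ) (div_ne_zero h1 h0) ?_)
  rw [map_div₀, div_eq_div_iff ((map_ne_zero θ).2 h0) h0]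
  linear_combination h

theorem comm_u (a b c e : F) : ⁅u θ a b, u θ c e⁆ = u θ 0 (a * θ c + c * θ a) := by
  have two : (2 : F) = 0 := CharTwo.two_eq_zero
  rw [commutatorElement_def, u_inv, u_inv, u_mul, u_mul, u_mul]
  congr 1
  · linear_combination (a + c) * two
  · linear_combination (b + e + a * θ a + a * θ c + c * θ c) * two

theorem u_mul_inv (a b c : F) : u θ a b * (u θ a c)⁻¹ = u θ 0 (b + c) := by
  have two : (2 : F) = 0 := CharTwo.two_eq_zero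
  rw [u_inv, u_mul]
  congr 1
  · linear_combination a * two
  · linear_combination a * θ a * two

theorem exists_ne {F : Type*} [Field F] [Fintype F] (h : 2 < Fintype.card F) (a : F) :
    ∃ c, c ≠ 0 ∧ c ≠ a := by
  classical
  by_contra! k
  have := Finset.card_le_card (show (Finset.univ : Finset F) ⊆ {0, a} from fun x _ => by
    simpa using or_iff_not_imp_left.2 (k x))
  exact absurd (this.trans Finset.card_le_two) (by rwa [Finset.card_univ, not_le])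

theorem hyp_fld [Fintype F] (hF : 2 < Fintype.card F)
    (h : ∀ x, ∃ y, a * θ x + x * θ a = c * θ y + y * θ c) : a = 0 ∨ a = c := by
  have two : (2 : F) = 0 := CharTwo.two_eq_zero
  refine or_iff_not_imp_left.2 fun a0 => ?_
  have c0 : c ≠ 0 := fun e => by
    obtain ⟨x, x0, x1⟩ := exists_ne hF a
    obtain ⟨y, hy⟩ := h x
    exact (cen_fld (θ := θ) (by rw [e] at hy; linear_combination hy - x * θ a * two + y * map_zero θ)
      a0).elim x0 x1
  let φ : F →+ F := AddMonoidHom.id F + θ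
  have ix : φ.range.index = 2 := by
    rw [AddSubgroup.index_range, Nat.card_eq_two_iff]
    refine ⟨0, ⟨1, by simpa [φ] using one_add_one_eq_two.trans two⟩,
      fun e => zero_ne_one (congrArg Subtype.val e), Set.eq_univ_of_forall fun ⟨x, hx⟩ => ?_⟩
    by_cases e : x = 0
    · simp [e]
    · have : x + θ x = 0 := hx
      simp [fix_eq_one (θ := θ) e (by linear_combination this - x * two)]
  obtain ⟨l, hl⟩ : ∃ l, l = a * θ a / (c * θ c) := ⟨_, rfl⟩
  have t0 : ∀ {x : F}, x ≠ 0 → θ x ≠ 0 := (map_ne_zero θ).2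
  have l0 : l ≠ 0 := hl ▸ div_ne_zero (mul_ne_zero a0 (t0 a0)) (mul_ne_zero c0 (t0 c0))
  have s : ∀ x ∈ φ.range, l * x ∈ φ.range := by
    rintro _ ⟨x, rfl⟩
    obtain ⟨y, hy⟩ := h (a * x)
    refine ⟨y / c, ?_⟩
    have := t0 c0
    simp only [φ, AddMonoidHom.add_apply, AddMonoidHom.id_apply, AddMonoidHom.coe_coe, map_div₀,
      map_mul, hl] at hy ⊢
    field_simp
    linear_combination -hy
  have s' : ∀ n, ∀ x ∈ φ.range, l ^ n * x ∈ φ.range := fun n x hx => by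
    induction n with
    | zero => simpa using hx
    | succ n ih => rw [pow_succ', mul_assoc]; exact s _ ih
  by_contra ne
  have l1 : l + 1 ≠ 0 := fun e => ne (sq_inj (θ := θ) ((div_eq_one_iff_eq
    (mul_ne_zero c0 (t0 c0))).1 (by linear_combination e - hl - two)))
  have : φ.range = ⊤ := eq_top_iff.2 fun x _ => by
    rw [← mul_div_cancel₀ x l1, add_mul, one_mul, AddSubgroup.add_mem_iff_of_index_two ix]
    refine ⟨fun k => ?_, s _⟩
    have := s' (Fintype.card F - 2) _ k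
    rwa [← mul_assoc, ← pow_succ, show Fintype.card F - 2 + 1 = Fintype.card F - 1 by omega,
      FiniteField.pow_card_sub_one_eq_one l l0, one_mul] at this
  rw [this, AddSubgroup.index_top] at ix
  omega

open Polynomial in
open scoped IsMulCommutative in
theorem noab_sz [Fintype F] {Y : Subgroup (szG θ)} (ha : Abel Y) (ho : Odd ♯Y) :
    ♯Y ≤ Fintype.card F * 4 := by
  classical
  let A := Algebra.adjoin F (M '' (Y : Set (szG θ)))
  have : IsMulCommutative A := Algebra.isMulCommutative_adjoin F (by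
    rintro _ ⟨x, hx, rfl⟩ _ ⟨y, hy, rfl⟩
    rw [← M_mul, ← M_mul, ha.comm hx hy])
  obtain ⟨𝔪, _⟩ := Ideal.exists_maximal A
  let _ := Ideal.Quotient.field 𝔪
  let ι : Y → A := fun y => ⟨M (y : szG θ), Algebra.subset_adjoin (Set.mem_image_of_mem M y.2)⟩
  let χ : Y →* A ⧸ 𝔪 :=
    { toFun := fun y => Ideal.Quotient.mk 𝔪 (ι y)
      map_one' := congrArg _ (Subtype.ext (M_one (θ := θ)))
      map_mul' := fun x y => by rw [← map_mul]; exact congrArg _ (Subtype.ext (M_mul _ _)) }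
  let P : F → F[X] := fun t => X ^ 4 - C t * X ^ 3 + C (θ t) * X ^ 2 - C t * X + 1
  have r : ∀ y : Y, aeval (χ y) (P (M (y : szG θ)).trace) = 0 := fun y => by
    have h2 := Matrix.aeval_self_charpoly (M (y : szG θ))
    rw [Matrix.charpoly, Matrix.charmatrix, RingHom.mapMatrix_apply, det_sub C] at h2
    have h3 : aeval (ι y) (P (M (y : szG θ)).trace) = 0 :=
      Subtype.ext ((aeval_algHom_apply A.val _ _).symm.trans h2)
    exact (aeval_algHom_apply (Ideal.Quotient.mkₐ F 𝔪) _ _).trans (by rw [h3, map_zero])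
  have inj : Function.Injective χ := (injective_iff_map_eq_one _).2 fun y hy => by
    have h1 := r y
    rw [hy, ← map_one (algebraMap F _), aeval_algebraMap_apply, map_eq_zero] at h1
    have h2 : θ (M (y : szG θ)).trace = 0 := by
      simp only [P, coe_aeval_eq_eval, eval_add, eval_sub, eval_mul, eval_pow, eval_X, eval_C,
        eval_one] at h1
      linear_combination h1 + ((M (y : szG θ)).trace - 1) * (CharTwo.two_eq_zero : (2 : F) = 0)
    exact Subtype.ext (eq_one_of_pow_coprime ((Nat.coprime_two_left.2 ho).pow_left 2)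
      (pow_four_of_trace ((map_eq_zero θ).1 h2)) (orderOf_dvd_iff_pow_eq_one.1 (orderOf_dvd y.2)))
  have d : ∀ t, (P t).natDegree = 4 := fun t => by simp only [P]; compute_degree!
  have := Fintype.ofFinite Y
  rw [Nat.card_eq_fintype_card, mul_comm]
  refine Finset.card_le_mul_card_image_of_maps_to (f := fun y : Y => (M (y : szG θ)).trace)
    (fun _ _ => Finset.mem_univ _) 4 fun t _ => ?_
  refine (Finset.card_le_card_of_injOn χ (t := ((P t).aroots (A ⧸ 𝔪)).toFinset) (fun y hy => ?_)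
    inj.injOn).trans ((Multiset.toFinset_card_le _).trans ((card_roots' _).trans
      (natDegree_map_le.trans (d t).le)))
  simp only [Finset.coe_filter, Finset.mem_univ, true_and, Set.mem_ofPred_eq] at hy
  simp only [Finset.mem_coe, Multiset.mem_toFinset, mem_aroots]
  exact ⟨fun e => by simpa [e] using d t, hy ▸ r y⟩

end model

section abs
variable {G : Type*} [Group G] [Finite G] {L T : Subgroup G} {g k w z z' : G}

/-- an element of `L` normalizing all conjugates of `T` is trivial -/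
theorem eq_one_of_norm (h : SzA L) (hT : IsSyl 2 T L) (w1 : w ∈ L) (w2 : w ∉ 𝒩 T) (z1 : z ∈ T)
    (z2 : z ≠ 1) (hg : g ∈ L) (n : ∀ l ∈ L, g ∈ 𝒩 (cj l T)) : g = 1 := by
  have hS := hT.cj_of_mem (le_norm L w1)
  have ne : T ≠ cj w T := fun e => w2 (cj_eq_iff.1 e.symm)
  refine h.three hT hS (hS.cj_of_mem (le_norm L (hT.le z1))) ne
    (fun e => ne ((cj_inj z).1 ((cj_eq_of_mem z1).trans e)))
    (fun e => ne (h.cit.eq_of_norm hT hS z1 z2 (cj_eq_iff.1 e.symm))) hg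
    (by simpa using n 1 (one_mem _)) (n w w1) ?_
  rw [← cj_mul]; exact n _ (mul_mem (hT.le z1) w1)

theorem cent_odd (h : SzA L) (hT : IsSyl 2 T L) (k1 : k ∈ L) (k2 : Odd (orderOf k)) (k3 : k ≠ 1) :
    T ⊓ 𝒞₁ k = ⊥ := eq_bot_iff.2 fun x hx => by_contra fun x1 => by
  obtain ⟨c, c1, c2, c3⟩ := exists_inv_of_two hT.isPGroup hx.1 x1
  have c4 := zpowers_le.2 hx c1
  exact k3 (eq_one_of_pElt_of_coprime (isPGroup_iff_forall.1 hT.isPGroup k
    ((h.cit T hT c c4.1 c2 c3 k k1).1 (mem_cent1.1 c4.2).symm)) (Nat.coprime_two_right.2 k2))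

theorem smp_of (h : SzA L) (hT : IsSyl 2 T L) (w1 : w ∈ L) (w2 : w ∉ 𝒩 T) (z1 : z ∈ T)
    (z2 : z * z = 1) (z3 : z ≠ 1) (y1 : z' ∈ T) (y2 : z' * z' = 1) (y3 : z' ≠ 1) (zy : z ≠ z')
    (k1 : k ∈ L) (k2 : Odd (orderOf k)) (k3 : k ≠ 1) (k4 : k ∈ 𝒩 T) : Smp L := by
  refine ⟨fun N hN => ?_, fun e => w2 (e.le_norm hT.le w1),
    (dvd_card_of_pgroup Nat.prime_two hT.isPGroup (ne_bot_of_mem z1 z3)).trans (card_dvd hT.le)⟩
  by_cases e : N ≤ 𝒩 T
  · refine .inl (eq_bot_iff.2 fun g hg => eq_one_of_norm h hT w1 w2 z1 z3 (hN.le hg) fun l hl => ?_)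
    rw [← cj_norm, mem_cj]
    exact e (conj_mem_of_norm' (hN.norm hl) hg)
  have n := hT.le.trans hN.norm
  have s := h.le_of_not_le hT z1 z2 z3 y1 y2 y3 zy le_sup_right (sup_le hN.le hT.le)
    fun i => e (le_sup_left.trans i)
  have o : ¬ 2 ∣ ♯(zpowers k) := by rw [card_zpow]; exact k2.not_two_dvd_nat
  have kN : zpowers k ≤ N := le_of_cop_ri (sup_le (le_norm N) n) ((zpowers_le.2 k1).trans s)
    (by rw [ri_sup n]
        exact ((cop_of_pgroup Nat.prime_two hT.isPGroup o).coprime_dvd_left (ri_dvd_card N T)).symm)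
  refine .inr (le_antisymm hN.le (s.trans (sup_le le_rfl ?_)))
  rw [← (mkCA_p' Nat.prime_two (zpowers_le.2 k4) hT.isPGroup o).comm_eq_of_cent
    (by rw [cent_zpowers, cent_odd h hT k1 k2 k3])]
  exact comm_le_of_le_of_norm kN n

omit [Finite G] in
theorem _root_.Cfsg.GS.Smp.se (h : Smp L) : SE L :=
  ⟨qs_of_isSimpleGroup h.isSimpleGroup h.not_comm, h.ctr, even_iff_two_dvd.2 h.even⟩

theorem autO_of (h : SzA L) (hs : SE L) (hT : IsSyl 2 T L) (sq : ∀ x ∈ T, x * x ∈ 𝒵 T)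
    (hg : g ∈ 𝒩 L) (ho : Odd (orderOf g)) (hc : g ∈ 𝒞 (𝒵 T)) : g ∈ 𝒞 L := by
  obtain ⟨z, z1, y, y1, z2, z3, y2, y3, zy, -⟩ := hs.two_inv hT
  have ct : ∀ z ∈ T, z * z = 1 → z ∈ 𝒵 T := fun z a b =>
    ⟨a, mem_cent.2 fun x hx => h.cit.comm hT a b hx⟩
  have n : g ∈ 𝒩 T := cj_eq_iff.1 (h.cit.cj_eq hT hT z1 z2 z3 hg (by
    rwa [← mem_cent.1 hc z (ct z z1 z2), mul_inv_cancel_right]))
  have c : g ∈ 𝒞 T := zpowers_le.1 (cent_of_stable (H := 𝒵 T) (zpowers_le.2 n)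
    (cop_of_pgroup Nat.prime_two hT.isPGroup (by rw [card_zpow]; exact ho.not_two_dvd_nat))
    (commutator_le.2 fun x hx a ha => by
      have a1 := conj_mem_of_norm (zpowers_le.2 n ha) (inv_mem hx)
      refine ct _ (by simpa [commutatorElement_def, mul_assoc] using mul_mem hx a1) ?_
      have := (h.syl T hT).sq _ (inv_mem hx) _ a1 (by
        rw [show a * x⁻¹ * a⁻¹ * (a * x⁻¹ * a⁻¹) = a * (x⁻¹ * x⁻¹) * a⁻¹ by group,
          ← mem_cent.1 (zpowers_le.2 hc ha) _ (sq _ (inv_mem hx)), mul_inv_cancel_right])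
      simpa [commutatorElement_def, mul_assoc] using this) (zpowers_le.2 hc))
  have all : ∀ S, IsSyl 2 S L → g ∈ 𝒩 S := fun S hS => by
    by_cases e : T = S
    · exact e ▸ n
    obtain ⟨t, t1, t2⟩ := h.trans2 hT hS (hS.cj_of_mem hg) e
      (fun i => e ((cj_inj g).1 ((cj_eq_of_mem_norm n).trans i))) z1 z2 z3 y1 y2 y3 zy
    have cm : Commute t⁻¹ g := mem_cent.1 c _ (inv_mem t1)
    have := pow_mem (show t⁻¹ * g ∈ 𝒩 S from cj_eq_iff.1 (by rw [cj_mul, ← t2, cj_inv_cj]))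
      (orderOf g)
    rw [cm.mul_pow, pow_orderOf_eq_one, mul_one] at this
    obtain rfl : t = 1 := by
      obtain ⟨j, hj⟩ := isPGroup_iff_forall.1 hT.isPGroup _ (inv_mem t1)
      refine inv_eq_one.1 (eq_one_of_pow_coprime ((Nat.coprime_two_right.2 ho).pow_right j) ?_ hj)
      by_contra i
      exact e (h.cit.eq_of_norm hT hS (pow_mem (inv_mem t1) _) i this)
    exact cj_eq_iff.1 (by rw [← t2, cj_one])
  obtain ⟨w, w1, w2⟩ := SetLike.not_le_iff_exists.1 (hs.not_le hT)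
  refine mem_cent.2 fun l hl => ?_
  have := eq_one_of_norm h hT w1 w2 z1 z3 (mul_mem (inv_mem hl) (conj_mem_of_norm hg hl))
    fun m hm => by
      have a := all _ (hT.cj_of_mem (le_norm L (mul_mem hl hm)))
      rw [cj_mul, ← cj_norm, mem_cj] at a
      convert mul_mem a (inv_mem (all _ (hT.cj_of_mem (le_norm L hm)))) using 1; group
  rw [inv_mul_eq_one, eq_mul_inv_iff_mul_eq] at this
  exact this

theorem aut_sq (h : SzA L) (hs : SE L) (hg : g ∈ 𝒩 L) (h2 : g * g ∈ L) : g ∈ L ⊔ 𝒞 L := by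
  obtain ⟨T, hT⟩ := exists_isSyl 2 L
  obtain ⟨z, z1, y, y1, z2, z3, y2, y3, zy, -⟩ := hs.two_inv hT
  obtain ⟨w, w1, w2⟩ := SetLike.not_le_iff_exists.1 (hs.not_le hT)
  have hS := hT.cj_of_mem (le_norm L w1)
  have ne : T ≠ cj w T := fun e => w2 (cj_eq_iff.1 e.symm)
  generalize cj w T = S at hS ne
  obtain ⟨l, l1, n, n1, rfl⟩ := hT.frattini hg
  have n2 : n ∈ 𝒩 L := (mul_mem_cancel_left (le_norm L l1)).1 hg
  obtain ⟨t, t1, t2⟩ := h.trans2 hT hS (hS.cj_of_mem n2) ne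
    (fun i => ne ((cj_inj n).1 ((cj_eq_of_mem_norm n1).trans i))) z1 z2 z3 y1 y2 y3 zy
  obtain ⟨τ, rfl⟩ : ∃ τ, n = t * τ := ⟨t⁻¹ * n, by group⟩
  have a1 : τ ∈ 𝒩 L := (mul_mem_cancel_left (le_norm L (hT.le t1))).1 n2
  have a2 : τ ∈ 𝒩 T := (mul_mem_cancel_left (le_norm T t1)).1 n1
  have a3 : τ ∈ 𝒩 S := cj_eq_iff.1 ((cj_inj t).1 (by rw [← cj_mul, t2]))
  have lt := mul_mem l1 (hT.le t1)
  have a4 : τ * τ ∈ L := by
    convert mul_mem (inv_mem (mul_mem lt (conj_mem_of_norm a1 lt))) h2 using 1; group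
  have o : Odd (orderOf (τ * τ)) := Nat.not_even_iff_odd.1 fun e => by
    obtain ⟨c, c1, c2, c3⟩ := exists_inv_zpowers e
    have c4 := zpowers_le.2 a4 c1
    exact ne (h.cit.eq_of_norm hT hS (hT.mem_of_mem_normalizer c4 ⟨1, by simpa [sq]⟩
      (zpowers_le.2 (mul_mem a2 a2) c1)) c3 (zpowers_le.2 (mul_mem a3 a3) c1))
  obtain ⟨j, hj⟩ := o
  obtain ⟨s, s1, s2⟩ := h.inner (fun T hT => ⟨hs.not_le hT, by
      obtain ⟨z, a1, z', a2, a3, a4, a5, a6, a7, -⟩ := hs.two_inv hT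
      exact ⟨z, a1, z', a2, a3, a4, a5, a6, a7⟩⟩) (pow_mem a1 (2 * j + 1))
    (by rw [← hj, ← (Commute.refl τ).mul_pow, pow_orderOf_eq_one])
  rw [show l * (t * τ) = l * t * ((τ * τ) ^ j)⁻¹ * s⁻¹ * (s * τ ^ (2 * j + 1)) by
    rw [← sq, ← pow_mul]; group]
  exact mul_mem_sup (mul_mem (mul_mem lt (inv_mem (pow_mem a4 j))) (inv_mem s1)) s2

end abs

section par
variable {G : Type*} [Group G] {F : Type*} [Field F] [CharP F 2] {θ : F →+* F} [Tits θ]
  [Fintype F] {f : szG θ →* G}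

theorem mem_ctr (hF : 2 < Fintype.card F) (hf : Function.Injective f) {x : G} :
    x ∈ 𝒵 ((szU θ).map f) ↔ ∃ b, f (u θ 0 b) = x := by
  constructor
  · rintro ⟨⟨_, ⟨a, b, rfl⟩, rfl⟩, h⟩
    obtain ⟨c, c0, c1⟩ := exists_ne hF a
    have := mem_cent.1 h _ (mem_map_of_mem f (u_mem c 0))
    rw [← map_mul, ← map_mul, hf.eq_iff, u_mul, u_mul] at this
    obtain rfl : a = 0 := by_contra fun a0 =>
      (cen_fld (θ := θ) (by linear_combination -(u_inj this).2) a0).elim c0 c1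
    exact ⟨b, rfl⟩
  · rintro ⟨b, rfl⟩
    refine ⟨mem_map_of_mem f (u_mem 0 b), mem_cent.2 ?_⟩
    rintro _ ⟨_, ⟨a, c, rfl⟩, rfl⟩
    rw [← map_mul, ← map_mul, mul_inv_eq_iff_eq_mul.1 (u_conj_z a c b)]

theorem card_ctr (hF : 2 < Fintype.card F) (hf : Function.Injective f) :
    ♯(𝒵 ((szU θ).map f)) = Fintype.card F := by
  rw [← Nat.card_eq_fintype_card, ← card_z (θ := θ), ← card_map_of_injective hf]
  congr 2
  ext x
  rw [mem_ctr hF hf]
  exact ⟨fun ⟨b, e⟩ => ⟨_, mem_z.2 ⟨b, rfl⟩, e⟩,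
    fun ⟨_, h, e⟩ => (mem_z.1 h).imp fun _ i => (congrArg f i).trans e⟩

theorem mem_nrm (hf : Function.Injective f) {x : szG θ} :
    f x ∈ 𝒩 ((szU θ).map f) ↔ M x 3 0 = 0 := by
  rw [← mem_comap, comap_normalizer_eq_of_le_range (map_le_range f _),
    comap_map_eq_self_of_injective hf, mem_norm_szU]

omit [Fintype F] in
theorem d_pow (l : Fˣ) (n : ℕ) : d θ l ^ n = d θ (l ^ n) := by
  induction n with
  | zero => simp [d_one]
  | succ n ih => rw [pow_succ, ih, d_mul, pow_succ]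

end par

theorem exists_par {G : Type*} [Group G] [Finite G] {L T : Subgroup G} (h : Lie.IsoSuzuki L)
    (hT : IsSyl 2 T L) : ∃ (F : Type) (_ : Field F) (_ : Fintype F) (_ : CharP F 2) (θ : F →+* F)
      (_ : Tits θ) (m : ℕ) (f : szG θ →* G), 1 ≤ m ∧ Fintype.card F = 2 ^ (2 * m + 1) ∧
      Function.Injective f ∧ L = f.range ∧ T = (szU θ).map f := by
  obtain ⟨F, _, _, m, h1, h2, ⟨φ⟩⟩ := h
  obtain ⟨_, θ, _, h0⟩ := exists_tits h2
  revert φ
  rw [Sz_eq h0]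
  intro φ
  have r : (L.subtype.comp φ.symm.toMonoidHom).range = L := by
    rw [MonoidHom.range_comp, MonoidHom.range_eq_top.2 φ.symm.surjective, ← MonoidHom.range_eq_map,
      range_subtype]
  have s := isSyl_szU.map (L.subtype.comp φ.symm.toMonoidHom)
  rw [← MonoidHom.range_eq_map, r] at s
  obtain ⟨g, g1, rfl⟩ := s.exists_cj_eq hT
  refine ⟨F, _, _, _, θ, _, m, (MulAut.conj g).toMonoidHom.comp (L.subtype.comp φ.symm.toMonoidHom),
    h1, h2, (MulAut.conj g).injective.comp (L.subtype_injective.comp φ.symm.injective), ?_,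
    map_map _ _ _⟩
  rw [MonoidHom.range_comp, r]
  exact (cj_eq_of_mem g1).symm

theorem exists_gen {F : Type*} [Field F] [Fintype F] : ∃ l : Fˣ, orderOf l + 1 = Fintype.card F ∧
    ∀ x : Fˣ, ∃ n : ℕ, l ^ n = x := by
  obtain ⟨l, hl⟩ := IsCyclic.exists_monoid_generator (α := Fˣ)
  refine ⟨l, ?_, hl⟩
  rw [orderOf_eq_card_of_forall_mem_powers hl, Nat.card_units, Nat.card_eq_fintype_card]
  exact Nat.sub_add_cancel Fintype.card_pos

theorem orderOf_d {F : Type*} [Field F] [CharP F 2] {θ : F →+* F} [Tits θ] (l : Fˣ) :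
    orderOf (d θ l) = orderOf l := orderOf_eq_orderOf_iff.2 fun n => by
  rw [d_pow]
  exact ⟨fun e => Units.ext (by simpa [M_d, M_one] using congrArg (M · 0 0) e),
    fun e => by rw [e, d_one]⟩

theorem smp_of_iso {G : Type*} [Group G] [Finite G] {L : Subgroup G} (h : Lie.IsoSuzuki L) :
    Smp L := by
  obtain ⟨T, hT⟩ := exists_isSyl 2 L
  have a := szA_of_iso h
  obtain ⟨F, _, _, _, θ, _, m, f, h1, h2, hf, rfl, rfl⟩ := exists_par h hT
  obtain ⟨l, l1, -⟩ := exists_gen (F := F)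
  have q8 : 8 ≤ Fintype.card F := h2 ▸ Nat.pow_le_pow_right (n := 2) (i := 3) two_pos (by omega)
  obtain ⟨c, c0, c1⟩ := exists_ne (F := F) (by omega) 1
  have o : orderOf (f (d θ l)) = orderOf l := (orderOf_injective f hf _).trans (orderOf_d l)
  have i : ∀ b, f (u θ 0 b) * f (u θ 0 b) = 1 := fun b => by
    rw [← map_mul, u_mul_self, zero_mul, u_zero, map_one]
  have n : ∀ b, b ≠ 0 → f (u θ 0 b) ≠ 1 := fun b b0 e =>
    b0 (u_eq_one_iff.1 (hf (e.trans (map_one f).symm))).2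
  refine smp_of a hT (w := f (w θ)) (k := f (d θ l)) ⟨_, rfl⟩ (by rw [mem_nrm hf]; simp [M_w, J])
    (mem_map_of_mem f (u_mem 0 c)) (i c) (n c c0) (mem_map_of_mem f (u_mem 0 1)) (i 1)
    (n 1 one_ne_zero) (fun e => c1 (u_inj (hf e)).2) ⟨_, rfl⟩ ?_ (fun e => ?_)
    (by rw [mem_nrm hf]; simp [M_d])
  · rw [o, ← Nat.not_even_iff_odd, ← Nat.even_add_one, l1, h2]
    exact (Nat.even_pow' (by omega)).2 even_two
  · rw [e, orderOf_one] at o; omega

theorem iso_down {G Q : Type*} [Group G] [Group Q] {L N : Subgroup G} (h : Lie.IsoSuzuki L)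
    {f : N →* Q} (h1 : L ≤ N) (h2 : L ⊓ up f ⊥ = ⊥) : Lie.IsoSuzuki (down f L) := by
  obtain ⟨φ, hφ, e⟩ := exists_inj_down h1 h2
  obtain ⟨F, _, _, m, a, b, ⟨ψ⟩⟩ := h
  rw [e L le_rfl, subgroupOf_self, ← MonoidHom.range_eq_map]
  exact ⟨F, _, _, m, a, b, ⟨(MonoidHom.ofInjective hφ).symm.trans ψ⟩⟩

theorem aut2_of_iso {G : Type*} [Group G] [Finite G] {L : Subgroup G} (h : Lie.IsoSuzuki L)
    {g : G} (hg : g ∈ 𝒩 L) {n : ℕ} (hn : g ^ 2 ^ n ∈ L ⊔ 𝒞 L) : g ∈ L ⊔ 𝒞 L := by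
  induction n generalizing g with
  | zero => simpa using hn
  | succ n ih =>
    replace hn := ih (mul_mem hg hg) (by rwa [← sq, ← pow_mul, ← pow_succ'])
    obtain ⟨Q, _, _, f, -, hk⟩ := exists_quo (cent_nrm L)
    have s := smp_of_iso h
    have i := iso_down h (f := f) (le_norm L) (hk ▸ s.ctr)
    have n : f ⟨g, hg⟩ ∈ 𝒩 (down f L) := down_le_norm f le_rfl (mem_down_of_mem hg)
    have := aut_sq (szA_of_iso i) (smp_of_iso i).se n (by
      rw [← down_sup_ker f (le_norm L), hk, ← map_mul]; exact mem_down_of_mem hn)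
    obtain ⟨_, ⟨l, l1, rfl⟩, c, c1, e⟩ := (mem_sup_r (le_norm_cent (le_norm _))).1 this
    have c2 : c = f (l⁻¹ * ⟨g, hg⟩) := by rw [map_mul, map_inv, ← e, inv_mul_cancel_left]
    have c3 := (mem_up_cent (l⁻¹ * ⟨g, hg⟩).2 (le_norm L)).1 (coe_mem_up.2 (c2 ▸ c1))
    rw [← mul_inv_cancel_left (l : G) g]
    refine mul_mem_sup l1 (mem_cent.2 fun b hb => commutatorElement_eq_one_iff_mul_comm.1
      (s.eq_one ?_ (hk ▸ c3 b hb)))
    exact comm_le_left (zpowers_le.2 (l⁻¹ * ⟨g, hg⟩).2) (commutator_mem_commutator hb (mem_zpowers _))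

theorem k0 : K0 := by
  intro G _ _ L T h hT
  have a := szA_of_iso h
  have s := smp_of_iso h
  have a2 : ∀ g ∈ 𝒩 L, (∃ n, g ^ 2 ^ n = 1) → g ∈ L ⊔ 𝒞 L := fun g hg ⟨n, hn⟩ =>
    aut2_of_iso h hg (n := n) (hn ▸ one_mem _)
  obtain ⟨z, z1, y, y1, z2, z3, y2, y3, zy, -⟩ := s.se.two_inv hT
  obtain ⟨F, _, _, _, θ, _, m, f, h1, h2, hf, rfl, rfl⟩ := exists_par h hT
  obtain ⟨l, l1, l2⟩ := exists_gen (F := F)
  have q8 : 8 ≤ Fintype.card F := h2 ▸ Nat.pow_le_pow_right (n := 2) (i := 3) two_pos (by omega)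
  have hF : 2 < Fintype.card F := by omega
  have mc := fun x => mem_ctr (x := x) hF hf
  have cc' := card_ctr hF hf
  have o : orderOf (f (d θ l)) = orderOf l := (orderOf_injective f hf _).trans (orderOf_d l)
  have kT : f (d θ l) ∈ 𝒩 ((szU θ).map f) := by rw [mem_nrm hf]; simp [M_d]
  have sq : ∀ x ∈ (szU θ).map f, x * x ∈ 𝒵 ((szU θ).map f) := by
    rintro _ ⟨_, ⟨b, c, rfl⟩, rfl⟩
    exact (mc _).2 ⟨_, by rw [← map_mul, u_mul_self]⟩
  have one : ∀ x ∈ 𝒵 ((szU θ).map f), x * x = 1 := fun x hx => by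
    obtain ⟨b, rfl⟩ := (mc x).1 hx
    rw [← map_mul, u_mul_self, zero_mul, u_zero, map_one]
  have eq : ∀ b c e, f (u θ b c) * (f (u θ b e))⁻¹ ∈ 𝒵 ((szU θ).map f) := fun b c e =>
    (mc _).2 ⟨_, by rw [← map_inv, ← map_mul, u_mul_inv]⟩
  refine ⟨f (d θ l), s, hT, ⟨hT.isPGroup, rfl, ?_, sq, one, ?_, ?_, ?_, ?_, kT, ?_⟩,
    MonoidHom.range_eq_map f ▸ (rb_sz (by omega)).map_inj hf, ⟨2 * m + 1, odd_two_mul_add_one m,
      by omega, cc'.trans h2⟩, ⟨_, rfl⟩, by rw [o, l1, cc'], le_antisymm ?_ (sup_le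
      (le_inf hT.le (le_norm _)) (zpowers_le.2 ⟨⟨_, rfl⟩, kT⟩)), ?_,
    fun x hx x1 g hg => (a.cit _ hT x hx.1 (one x hx) x1 g hg.1).1 (mem_cent1.1 hg.2),
    fun Y b c => or_iff_not_imp_left.2 fun e =>
      le_antisymm c (a.le_of_not_le hT z1 z2 z3 y1 y2 y3 zy b c e),
    ⟨f (w θ), ⟨_, rfl⟩, by rw [← map_mul, w_mul_w, map_one], by rw [mem_nrm hf]; simp [M_w, J], ?_⟩, a2,
    fun g b c e => autO_of a s.se hT sq b c e, fun Y b c e => ?_⟩
  · rw [cc', card_map_of_injective hf, pow_two, ← Fintype.card_prod, ← Nat.card_eq_fintype_card]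
    exact (Nat.card_congr (Equiv.ofBijective (fun p : F × F => (⟨u θ p.1 p.2, u_mem ..⟩ : szU θ))
      ⟨fun p q e => Prod.ext_iff.2 (u_inj (congrArg Subtype.val e)),
        fun ⟨_, b, c, e⟩ => ⟨(b, c), Subtype.ext e.symm⟩⟩)).symm
  · rintro _ ⟨_, ⟨b, c, rfl⟩, rfl⟩ _ ⟨_, ⟨b', c', rfl⟩, rfl⟩ e
    rw [← map_mul, ← map_mul, hf.eq_iff, u_mul_self, u_mul_self] at e
    rw [sq_inj (u_inj e).2]; exact eq ..
  · rintro _ ⟨_, ⟨b, c, rfl⟩, rfl⟩ n _ ⟨_, ⟨b', c', rfl⟩, rfl⟩ e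
    rw [← map_mul, ← map_mul, hf.eq_iff, u_mul, u_mul] at e
    rcases cen_fld (θ := θ) (a := b) (c := b') (by linear_combination (u_inj e).2)
      (fun i => n ((mc _).2 ⟨c, by rw [i]⟩)) with rfl | rfl
    exacts [.inl ((mc _).2 ⟨_, rfl⟩), .inr (eq ..)]
  · rintro _ ⟨_, ⟨b, c, rfl⟩, rfl⟩ _ ⟨_, ⟨b', c', rfl⟩, rfl⟩ e
    rcases hyp_fld (θ := θ) (a := b) (c := b') hF (fun x => by
      obtain ⟨_, ⟨_, ⟨p, q, rfl⟩, rfl⟩, i⟩ := e _ (mem_map_of_mem f (u_mem x 0))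
      rw [← map_commutatorElement, ← map_commutatorElement, hf.eq_iff, comm_u, comm_u] at i
      exact ⟨p, (u_inj i).2⟩) with rfl | rfl
    exacts [.inl ((mc _).2 ⟨_, rfl⟩), .inr (eq ..)]
  · rw [o, ← Nat.not_even_iff_odd, ← Nat.even_add_one, l1, h2]
    exact (Nat.even_pow' (by omega)).2 even_two
  · intro x hx y hy x1 y1
    obtain ⟨b, rfl⟩ := (mc x).1 hx
    obtain ⟨c, rfl⟩ := (mc y).1 hy
    have b0 : b ≠ 0 := fun e => x1 (by rw [e, u_zero, map_one])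
    have c0 : c ≠ 0 := fun e => y1 (by rw [e, u_zero, map_one])
    obtain ⟨r, hr⟩ := surj θ (c / b)
    obtain ⟨n, hn⟩ := l2 (Units.mk0 r fun e => div_ne_zero c0 b0 (by rw [← hr, e, map_zero]))
    refine ⟨n, ?_⟩
    rw [← map_pow, ← map_inv, ← map_mul, ← map_mul, d_pow, d_conj_u, hn, mul_zero, Units.val_mk0, hr,
      div_mul_cancel₀ c b0]
  · rintro _ ⟨⟨x, rfl⟩, hx⟩
    obtain ⟨b, c, r, rfl, -⟩ := exists_eq_u_mul_d ((mem_nrm hf).1 hx)
    obtain ⟨n, rfl⟩ := l2 r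
    rw [map_mul, ← d_pow, map_pow]
    exact mul_mem_sup (mem_map_of_mem f (u_mem b c)) (npow_mem_zpowers _ n)
  · rw [← index_comap, cc', ← Nat.card_eq_fintype_card, ← H3.index_borel_Sz (θ := θ)]
    congr 1
    ext x
    rw [mem_comap, mem_nrm hf, mem_normalizer_z]
  · rw [← map_inv, ← map_mul, ← map_mul, w_mul_d, mul_assoc, w_mul_w, mul_one, d_inv]
  · obtain ⟨Y, rfl⟩ : ∃ Y', Y = map f Y' := ⟨_, (map_comap_eq_self b).symm⟩
    rw [card_map_of_injective hf] at e ⊢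
    refine (noab_sz (fun x hx => mem_cent.2 fun y hy => hf ?_) e).trans ?_
    · rw [map_mul, map_mul, c.comm (mem_map_of_mem f hy) (mem_map_of_mem f hx)]
    · rw [cc', pow_two]; exact Nat.mul_le_mul_left _ (by omega)

end Cfsg.GS.Kx
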