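import Cfsg.Agent.GS.K1

/-! Task K: the normal closure of a strongly closed abelian subgroup, in ambient form. -/

set_option autoImplicit false
set_option linter.unusedSectionVars false

namespace Cfsg.GS.Kx

open Subgroup Cfsg.L0 Cfsg.H8 Cfsg.FT Cfsg.BS Cfsg.BS.R Cfsg.GS.T3
open scoped commutatorElement

section
variable {X : Type} [Group X] {A B H K L S T Y : Subgroup X} {g x : X}

/-- `L` is a component of `H` -/
structure Cp (L H : Subgroup X) : Prop where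
  sn : SN L H
  qs : QS L

theorem cp_top_iff : Cp L ⊤ ↔ IsComponent L :=
  ⟨fun h => isComponent_iff.2 ⟨h.1, h.2⟩, fun h => ⟨(isComponent_iff.1 h).1, (isComponent_iff.1 h).2⟩⟩

theorem cp_map_iff {L : Subgroup H} : Cp (L.map H.subtype) H ↔ IsComponent L :=
  ⟨fun h => isComponent_map_subtype_iff.2 ⟨h.1, h.2⟩,
    fun h => ⟨(isComponent_map_subtype_iff.1 h).1, (isComponent_map_subtype_iff.1 h).2⟩⟩

theorem qs_lift {Q : Type*} [Group Q] {f : X →* Q} (hf : Function.Surjective f)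
    (hc : f.ker ≤ center X) {L : Subgroup Q} (h : QS L) :
    QS ⁅L.comap f, L.comap f⁆ ∧ (⁅L.comap f, L.comap f⁆ : Subgroup X).map f = L := by
  have e : (⁅L.comap f, L.comap f⁆ : Subgroup X).map f = L := by
    rw [map_commutator, map_comap_eq_self_of_surjective hf, h.perfect]
  have z : ∀ N : Subgroup X, ⁅f.ker, N⁆ = ⊥ := fun N =>
    comm_eq_bot_iff'.2 fun x hx => mem_cent.2 fun y _ => mem_center_iff.1 (hc hx) y
  set D : Subgroup X := ⁅L.comap f, L.comap f⁆ with hD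
  have p : ⁅D, D⁆ = D := by
    have : L.comap f = D ⊔ f.ker := by rw [← comap_map_eq, e]
    conv_rhs => rw [hD, this]
    rw [sup_comm_of_cent (comm_eq_bot_iff'.1 (z _)) (le_norm_of_le_cent (comm_eq_bot_iff'.1 (z _))),
      comm_sup_of_cent (le_norm D) (comm_eq_bot_iff'.1 (z _))]
  refine ⟨⟨fun i => h.ne_bot (by rw [← e, i, Subgroup.map_bot]), p, fun N a b => ?_⟩, e⟩
  refine (h.2.2 (N.map f) (e ▸ map_mono a) (e ▸ (map_mono b).trans (le_normalizer_map f))).imp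
    (fun i => le_antisymm a (le_of_perfect_of_le_sup_central p ?_ (z _))) fun i =>
      comm_bot_of_perfect p (comm_bot_mono (z D) ?_ le_rfl)
  · rw [← comap_map_eq, i, ← e]; exact le_comap_map _ _
  · rwa [← e, ← map_commutator, Subgroup.map_eq_bot_iff] at i

theorem cent_of_down {Q : Type*} [Group Q] {N : Subgroup X} {f : N →* Q} (hp : ⁅L, L⁆ = L)
    (hL : L ≤ N) (hk : up f ⊥ ≤ 𝒞 L) (hA : A ≤ N) (h : down f A ≤ 𝒞 (down f L)) : A ≤ 𝒞 L :=
  comm_eq_bot_iff'.1 (comm_bot_of_perfect hp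
    (comm_eq_bot_iff'.2 (((down_le_cent_iff' hA hL).1 h).trans hk)))

namespace Cp
theorem le (h : Cp L H) : L ≤ H := h.sn.le
protected theorem cj (h : Cp L H) (hg : g ∈ 𝒩 H) : Cp (cj g L) H := ⟨h.sn.cj_of_mem hg, h.qs.cj g⟩
theorem mono (h : Cp L H) (h1 : L ≤ K) (h2 : K ≤ H) : Cp L K := ⟨h.sn.mono_right h1 h2, h.qs⟩
theorem trans (h : Cp L K) (h1 : SN K H) : Cp L H := ⟨h.sn.trans h1, h.qs⟩
theorem not_cent (h : Cp L H) : ¬ L ≤ 𝒞 L := fun e => h.qs.comm_ne_bot (comm_eq_bot_iff.2 e)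
theorem not_sol (h : Cp L H) : ¬ Sol L := h.qs.not_isSolvable
protected theorem down {Q : Type} [Group Q] {N : Subgroup X} (h : Cp L H) (f : N →* Q) (hH : H ≤ N)
    (h1 : ¬ L ≤ up f ⊥) : Cp (down f L) (down f H) :=
  ⟨(h.sn.comap N.subtype).map f, QS.map f (qs_map_subtype_iff.1 (by
    rw [map_subgroupOf_eq_of_le (h.le.trans hH)]; exact h.qs))
    fun e => h1 ((down_eq_bot_iff (h.le.trans hH)).1 e)⟩
variable [Finite X]
theorem cent (h : Cp L H) (h' : Cp K H) (ne : L ≠ K) : L ≤ 𝒞 K :=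
  comm_eq_bot_iff'.1 ((h.qs.eq_or_comm h'.qs h.sn h'.sn).resolve_left ne)
theorem norm (h : Cp L H) (h' : Cp K H) : K ≤ 𝒩 L := by
  by_cases e : K = L
  exacts [e ▸ le_norm K, le_norm_of_le_cent (h'.cent h e)]
theorem le_or (h : Cp L H) (hK : SN K H) : L ≤ K ∨ K ≤ 𝒞 L :=
  (h.qs.le_or_comm h.sn hK).imp_right comm_eq_bot_iff'.1
theorem cent_of_sol (h : Cp L H) (hK : SN K H) (hs : Sol K) : K ≤ 𝒞 L :=
  comm_eq_bot_iff'.1 (h.qs.comm_of_isSolvable h.sn hK hs)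
theorem syl (h : Cp L H) {p : ℕ} [Fact p.Prime] (hS : IsSyl p S H) : IsSyl p (S ⊓ L) L :=
  hS.inf_sn h.sn
theorem even (h : Cp L H) : 2 ∣ ♯L := by_contra fun e =>
  h.not_sol (solvable_of_odd _ (Nat.not_even_iff_odd.1 fun i => e i.two_dvd))
/-- the centre of a component is a `2`-group if `O(H) = 1` -/
theorem ctr (h : Cp L H) (hO : O2 H = ⊥) : IsPGroup 2 ↥(𝒵 L) := by
  have a := (abel_ctr L).nil.Op_syl Nat.prime_two
  have b := (abel_ctr L).nil.dp {2}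
  rw [eq_bot_of_le hO (Op_le_Op_of_sn _ ((ctr_nrm L).sn.trans h.sn))] at b
  rw [← b.sup, sup_bot_eq]
  exact a.isPGroup
theorem ctr_le (h : Cp L H) (hO : O2 H = ⊥) : 𝒵 L ≤ Op {2} H :=
  le_Op_of_sn ((piG_single Nat.prime_two).2 (h.ctr hO)) ((ctr_nrm L).sn.trans h.sn)
end Cp

variable [Finite X]

/-- a subgroup centralizing `F*(H)` -/
theorem le_Op_of_cent (hO : O2 H = ⊥) (hY : Y ≤ H) (h1 : Y ≤ 𝒞 (Op {2} H))
    (h2 : ∀ L, Cp L H → Y ≤ 𝒞 L) : Y ≤ Op {2} H := by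
  rw [← Fit_eq_Op Nat.prime_two hO] at h1 ⊢
  intro y hy
  refine ⟨⟨y, hY hy⟩, centralizer_fstar_le_fitting H (cent_symm (A := generalizedFittingSubgroup H)
    (B := zpowers _) (sup_le (sSup_le fun L hL l hl => ?_) fun l hl => ?_) (mem_zpowers _)), rfl⟩
  all_goals rw [cent_zpowers, mem_cent1]
  · exact Subtype.ext (mem_cent.1 (h2 _ (cp_map_iff.2 hL) hy) _ (mem_map_of_mem _ hl))
  · exact Subtype.ext (mem_cent.1 (h1 hy) _ (mem_map_of_mem _ hl))

theorem ncl_le' (hA : A ≤ H) : ncl H A ≤ H := ncl_le hA (le_norm H)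

theorem ncl_nrm (hA : A ≤ H) : ncl H A ⊴ H := ⟨ncl_le' hA, le_normalizer_ncl H A⟩

/-- Frattini argument for a normal subgroup containing `A` -/
theorem sc_frat {p : ℕ} [Fact p.Prime] (hS : IsSyl p S H) (hA : SC A S H) (hK : K ⊴ H) (h : A ≤ K)
    (hg : g ∈ H) : ∃ k ∈ K, ∃ n ∈ H ⊓ 𝒩 A, g = k * n := by
  obtain ⟨k, k1, n, n1, rfl⟩ := (hS.inf hK.le (hS.le.trans hK.norm)).frattini (hK.norm hg)
  have n2 := (mul_mem_cancel_left (hK.le k1)).1 hg
  exact ⟨k, k1, n, ⟨n2, hA.mem_norm n2 ((cj_le_of_le (le_inf hA.le h) n1).trans inf_le_left)⟩, rfl⟩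

theorem ncl_ncl {p : ℕ} [Fact p.Prime] (hS : IsSyl p S H) (hA : SC A S H) :
    ncl (ncl H A) A = ncl H A :=
  le_antisymm (ncl_mono (ncl_le' (hA.le.trans hS.le)) le_rfl) (ncl_le_iff.2 fun g hg => by
    obtain ⟨k, k1, n, n1, rfl⟩ := sc_frat hS hA (ncl_nrm (hA.le.trans hS.le)) (le_ncl H A) hg
    rw [cj_mul, cj_eq_of_mem_norm n1.2]
    exact cj_le_ncl A k1)

theorem _root_.Cfsg.GS.SC.down {Q : Type*} [Group Q] {N : Subgroup X} {p : ℕ} [Fact p.Prime]
    (h : SC A S H) (hS : IsSyl p S H) (f : N →* Q) (hH : H ≤ N) :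
    SC (down f A) (down f S) (down f H) :=
  SC.map (A := A.subgroupOf N) ⟨fun _ hx => h.le hx, fun x hx g hg e => h.2 x hx g hg e⟩
    (hS.subgroupOf hH) f

end

/-- hypotheses of the structure lemmas -/
structure St {X : Type} [Group X] (H S A : Subgroup X) : Prop where
  gold : GoldIn H
  o : O2 H = ⊥
  syl : IsSyl 2 S H
  sc : SC A S H
  ab : Abel A

namespace St
variable {X : Type} [Group X] [Finite X] {A H K L S Y : Subgroup X} {g x : X}

theorem le (h : St H S A) : A ≤ H := h.sc.le.trans h.syl.le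

theorem nrm (h : St H S A) : ncl H A ⊴ H := ncl_nrm h.le

theorem l2 (h : St H S A) : L2 (S.subgroupOf (ncl H A)) (A.subgroupOf (ncl H A))
    (QuotientGroup.mk' (pCore 2 (ncl H A))) := by
  refine level2 (h.gold.mono (involves_of_le h.nrm.le)).hg (QuotientGroup.mk'_surjective _)
    (by rw [QuotientGroup.ker_mk', Op_top_two])
    (by simpa using (h.syl.inf h.nrm.le (h.syl.le.trans h.nrm.norm)).subgroupOf_top)
    ⟨fun _ hx => h.sc.le hx, fun x hx g _ e => h.sc.2 x hx g (h.nrm.le g.2) e⟩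
    (fun x hx => mem_cent.2 fun y hy => Subtype.ext (h.ab.comm hy hx))
    (map_injective (subtype_injective _) ?_) ?_
  · rw [map_normalClosure_eq_ncl (le_ncl H A), ncl_ncl h.syl h.sc, ← MonoidHom.range_eq_map,
      range_subtype]
  · rw [Op_top_compl, ← map_eq_bot_iff_of_injective _ (subtype_injective _)]
    exact (Op_compl_eq Nat.prime_two _).symm.trans (eq_bot_of_le h.o (Op_le_Op_of_nrm _ h.nrm))

/-- the involutions of `S ∩ K` lie in `A` -/
theorem om (h : St H S A) (h1 : x ∈ S) (h2 : x ∈ ncl H A) (h3 : x * x = 1) : x ∈ A :=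
  (h.l2.eq.ge (mem_sup_right (mem_Om (x := ⟨x, h2⟩) h1 (Subtype.ext ((sq x).trans h3)))) :)

/-- `K` is generated by its components and a central subgroup of `A` -/
theorem gen (h : St H S A) (h1 : A ⊓ 𝒞 (ncl H A) ≤ Y)
    (h2 : ∀ L, Cp L H → L ≤ ncl H A → L ≤ Y) : ncl H A ≤ Y := by
  have l := h.l2
  generalize QuotientGroup.mk'_surjective (pCore 2 (ncl H A)) = hf
  generalize QuotientGroup.mk' (pCore 2 (ncl H A)) = f at l hf
  have k : f.ker ≤ Y.subgroupOf _ := fun z hz => h1 ⟨l.le hz, mem_cent.2 fun y hy =>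
    congrArg Subtype.val (mem_center_iff.1 (l.ctr hz) ⟨y, hy⟩)⟩
  have : ⊤ ≤ (Y.subgroupOf (ncl H A)).map f := l.l1.layer ▸ sSup_le fun L hL => by
    obtain ⟨a, b⟩ := qs_lift hf l.ctr (cp_top_iff.2 hL).qs
    refine b ▸ map_mono (map_le_iff_le_comap.1 (h2 _ ((cp_map_iff.2 (cp_top_iff.1
      ⟨(der_nrm _).sn.trans ?_, a⟩)).trans h.nrm.sn) (map_subtype_le _)))
    simpa using (cp_top_iff.2 hL).sn.comap f
  intro y hy
  exact sup_le le_rfl k (mem_sup_ker (x := ⟨y, hy⟩) (this (mem_top _)))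

theorem norm (h : St H S A) (hL : Cp L H) : ncl H A ≤ 𝒩 L :=
  (hL.le_or h.nrm.sn).elim (fun e => h.gen (inf_le_right.trans ((cent_anti e).trans (cent_le_norm L)))
    fun _ a _ => hL.norm a) le_norm_of_le_cent

theorem normA (h : St H S A) (hL : Cp L H) : A ≤ 𝒩 L := (le_ncl H A).trans (h.norm hL)

theorem le_iff (h : St H S A) (hL : Cp L H) : L ≤ ncl H A ↔ ¬ A ≤ 𝒞 L :=
  ⟨fun e i => hL.not_cent (e.trans ((ncl_ncl h.syl h.sc).ge.trans
    (ncl_le i (le_norm_cent (h.norm hL))))),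
    fun e => (hL.le_or h.nrm.sn).resolve_right fun i => e ((le_ncl H A).trans i)⟩

/-- `H` is generated by `N_H(A)` and the components not centralized by `A` -/
theorem gen' (h : St H S A) (h1 : H ⊓ 𝒩 A ≤ Y) (h2 : ∀ L, Cp L H → ¬ A ≤ 𝒞 L → L ≤ Y) :
    H ≤ Y := fun g hg => by
  obtain ⟨k, k1, n, n1, rfl⟩ := sc_frat h.syl h.sc h.nrm (le_ncl H A) hg
  exact mul_mem (h.gen (inf_le_left.trans ((le_inf h.le (le_norm A)).trans h1))
    (fun L a b => h2 L a ((h.le_iff a).1 b)) k1) (h1 n1)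

theorem le_sup (h : St H S A) (hL : Cp L H) : ncl H A ≤ L ⊔ 𝒞 L :=
  (hL.le_or h.nrm.sn).elim (fun e => h.gen (inf_le_right.trans ((cent_anti e).trans le_sup_right))
    fun K a _ => by
      by_cases i : K = L
      exacts [i ▸ le_sup_left, (a.cent hL i).trans le_sup_right]) (·.trans le_sup_right)

theorem split (h : St H S A) (hL : Cp L H) (h1 : x ∈ S) (h2 : x ∈ ncl H A) :
    ∃ l ∈ S ⊓ L, ∃ c ∈ S ⊓ 𝒞 L, l * c = x := by
  obtain ⟨l, l1, c, c1, rfl⟩ := (mem_sup_l (cent_le_norm L)).1 (h.le_sup hL h2)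
  obtain ⟨a, a1, b, b1, a2, b2, e⟩ := exists_piPart {2} l
  have aL := zpowers_le.2 l1 a1
  have n : a ∈ 𝒩 (S ⊓ L) := by
    have n : l ∈ 𝒩 (S ⊓ L) := (mul_mem_cancel_right (le_norm_of_cent le_rfl inf_le_right c1)).1
      (zpowers_le.1 (le_norm_inf (zpowers_le.2 (le_norm S h1)) (zpowers_le.2 (h.norm hL h2))))
    exact zpowers_le.2 n a1
  have s := (hL.syl h.syl).mem_of_mem_normalizer aL (isPGroup_iff_forall.1
    ((piG_zpowers.2 a2).pgroup Nat.prime_two) a (mem_zpowers a)) n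
  have bc : b * c ∈ S := (mul_mem_cancel_left (mem_inf.1 s).1).1 (by rwa [← mul_assoc, e])
  refine ⟨a, s, b * c, ⟨bc, mul_mem ?_ c1⟩, by rw [← mul_assoc, e]⟩
  have cm : Commute b c := mem_cent.1 c1 b (zpowers_le.2 l1 b1)
  obtain ⟨k, hk⟩ := isPGroup_iff_forall.1 h.syl.isPGroup _ bc
  rw [cm.mul_pow, mul_eq_one_iff_eq_inv] at hk
  exact mem_of_pow_mem (((piNat_compl_single Nat.prime_two).1 b2 |> Nat.prime_two.coprime_iff_not_dvd.2
    ).symm.pow_right k) (by rw [pow_orderOf_eq_one]; exact one_mem _)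
    (hk ▸ inv_mem (pow_mem c1 _))

/-- elements of `N_L(S ∩ L)` normalize `A` -/
theorem mem_norm (h : St H S A) (hL : Cp L H) (h1 : g ∈ L) (h2 : g ∈ 𝒩 (S ⊓ L)) : g ∈ 𝒩 A :=
  mem_normalizer_of_forall fun a ha => h.sc.conj ha (hL.le h1) (by
    obtain ⟨l, l1, c, c1, rfl⟩ := h.split hL (h.sc.le ha) (le_ncl H A ha)
    rw [show g * (l * c) * g⁻¹ = g * l * g⁻¹ * c by
      rw [mul_assoc _ _ c, mem_cent.1 c1.2 _ (inv_mem h1)]; group]
    exact mul_mem (conj_mem_of_norm h2 l1).1 c1.1)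

end St

/-- passing to the quotient by `O(H)` -/
theorem st_down {X Q : Type} [Group X] [Finite X] [Group Q] [Finite Q] {H S A : Subgroup X}
    {f : H →* Q} (hG : GoldIn H) (hk : up f ⊥ = O2 H) (hS : IsSyl 2 S H) (hA : SC A S H)
    (ha : Abel A) : St (down f H) (down f S) (down f A) :=
  ⟨hG.mono (involves_down f le_rfl), Op_down_eq_bot le_rfl hk, hS.down f le_rfl,
    hA.down hS f le_rfl, ha.down f⟩

theorem ca_ker {X Q : Type} [Group X] [Finite X] [Group Q] {H B : Subgroup X} {f : H →* Q}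
    (hk : up f ⊥ = O2 H) (hB : B ≤ H) (hp : IsPGroup 2 B) : CA B (up f ⊥) :=
  mkCA_p Nat.prime_two (le_norm_ker f hB) hp (hk ▸ not_dvd_Op_compl Nat.prime_two H)

end Cfsg.GS.Kx
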