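import Cfsg.Agent.GS.Q5

/-! The certificates for the case `S:15`. -/

set_option autoImplicit false
set_option maxRecDepth 100000

namespace Cfsg.GS.Qx

def GG : List V8 := [⟨0, 0, 0, 0, 0, 1, 0, 0⟩, ⟨0, 0, 0, 1, 0, 0, 0, 0⟩, ⟨1, -4, -4, 4, 8, 4, 0, 0⟩, ⟨1, -4, 0, 4, 0, 0, 0, 0⟩, ⟨1, -4, -2, 4, 4, 1, 0, 0⟩, ⟨4, -8, -4, 4, 4, 1, 0, 0⟩, ⟨0, 0, 0, 0, 0, 0, 1, 0⟩, ⟨0, 0, 0, 0, 0, 0, 0, 1⟩, ⟨0, 0, 0, 4, 4, 1, 0, 0⟩, ⟨1, 2, 0, 1, 0, 0, 0, 0⟩, ⟨0, 0, 0, 1, 2, 1, 0, 0⟩, ⟨1, -4, 2, 4, -4, 1, 0, 0⟩, ⟨0, 0, 0, 1, -4, 4, 0, 0⟩, ⟨4, 8, -4, 4, -4, 1, 0, 0⟩, ⟨1, 2, -2, 1, -2, 1, 0, 0⟩, ⟨1, 0, 0, 0, 0, 0, 0, 0⟩, ⟨0, 0, 0, 4, -4, 1, 0, 0⟩, ⟨1, 0, -2, 0, 0, 1, 0, 0⟩, ⟨1, 4, 0, 4, 0, 0, 0, 0⟩, ⟨1, 4, -2, 4, -4, 1,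 0, 0⟩, ⟨1, -2, 0, 1, 0, 0, 0, 0⟩, ⟨0, 0, 0, 1, -2, 1, 0, 0⟩]

def CC : List (Ty × List V8) := [
  (⟨1, 1, 2, 0, 0, 0⟩, [] ++ GG),
  (⟨1, 0, 2, 0, 0, 0⟩, [] ++ GG),
  (⟨4, 0, 1, 0, 0, 4⟩, [] ++ GG),
  (⟨4, 0, 1, 0, 4, 2⟩, [] ++ GG),
  (⟨4, 1, 1, 1, 1, 1⟩, [] ++ GG),
  (⟨2, 2, 1, 2, 4, 0⟩, [] ++ GG),
  (⟨2, 1, -1, 2, 4, 0⟩, [] ++ GG),
  (⟨2, 1, 1, 2, 4, 0⟩, [] ++ GG),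
  (⟨2, 0, 1, 2, 4, 0⟩, [] ++ GG),
  (⟨1, 3, 1, 4, 0, 0⟩, [] ++ GG),
  (⟨1, 2, 1, 4, 0, 0⟩, [] ++ GG),
  (⟨1, 1, 1, 4, 0, 0⟩, [] ++ GG),
  (⟨1, 2, -1, 0, 0, 0⟩, [⟨0, 0, 0, 0, 1, 0, 0, 0⟩, ⟨0, 0, 0, 0, -1, 0, 0, 0⟩] ++ GG),
  (⟨1, 2, 1, 0, 0, 0⟩, [⟨0, 0, 0, 0, 1, 0, 0, 0⟩, ⟨0, 0, 0, 0, -1, 0, 0, 0⟩] ++ GG),
  (⟨1, 1, -1, 0, 0, 0⟩, [⟨0, 0, 0, 0, 1, 0, 0, 0⟩, ⟨0, 0, 0, 0, -1, 0, 0, 0⟩] ++ GG),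
  (⟨1, 1, 1, 0, 0, 0⟩, [⟨0, 0, 0, 0, 1, 0, 0, 0⟩, ⟨0, 0, 0, 0, -1, 0, 0, 0⟩] ++ GG),
  (⟨1, 0, 1, 0, 0, 0⟩, [⟨0, 1, 0, 0, 0, 0, 0, 0⟩, ⟨0, -1, 0, 0, 0, 0, 0, 0⟩, ⟨0, 0, 0, 0, 1, 0, 0, 0⟩, ⟨0, 0, 0, 0, -1, 0, 0, 0⟩] ++ GG),
  (⟨4, 1, 0, 2, 4, 4⟩, [⟨0, 1, 0, 0, 0, 0, 0, 0⟩, ⟨0, -1, 0, 0, 0, 0, 0, 0⟩, ⟨0, 0, 0, 1, 0, 0, 0, 0⟩, ⟨0, 0, 0, -1, 0, 0, 0, 0⟩, ⟨0, 0, 0, 0, 1, 0, 0, 0⟩, ⟨0, 0, 0, 0, -1, 0, 0, 0⟩] ++ GG),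
  (⟨4, 1, 0, 0, 0, 4⟩, [⟨0, 1, 0, 0, 0, 0, 0, 0⟩, ⟨0, -1, 0, 0, 0, 0, 0, 0⟩, ⟨0, 0, 0, 1, 0, 0, 0, 0⟩, ⟨0, 0, 0, -1, 0, 0, 0, 0⟩, ⟨0, 0, 0, 0, 1, 0, 0, 0⟩, ⟨0, 0, 0, 0, -1, 0, 0, 0⟩] ++ GG),
  (⟨4, 1, 0, 0, 4, 2⟩, [⟨0, 1, 0, 0, 0, 0, 0, 0⟩, ⟨0, -1, 0, 0, 0, 0, 0, 0⟩, ⟨0, 0, 0, 1, 0, 0, 0, 0⟩, ⟨0, 0, 0, -1, 0, 0, 0, 0⟩, ⟨0, 0, 0, 0, 1, 0, 0, 0⟩, ⟨0, 0, 0, 0, -1, 0, 0, 0⟩] ++ GG),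
  (⟨4, 1, 0, 2, 0, 2⟩, [⟨0, 1, 0, 0, 0, 0, 0, 0⟩, ⟨0, -1, 0, 0, 0, 0, 0, 0⟩, ⟨0, 0, 0, 1, 0, 0, 0, 0⟩, ⟨0, 0, 0, -1, 0, 0, 0, 0⟩, ⟨0, 0, 0, 0, 1, 0, 0, 0⟩, ⟨0, 0, 0, 0, -1, 0, 0, 0⟩] ++ GG),
  (⟨4, 1, 0, 1, 1, 1⟩, [⟨0, 1, 0, 0, 0, 0, 0, 0⟩, ⟨0, -1, 0, 0, 0, 0, 0, 0⟩, ⟨0, 0, 0, 1, 0, 0, 0, 0⟩, ⟨0, 0, 0, -1, 0, 0, 0, 0⟩, ⟨0, 0, 0, 0, 1, 0, 0, 0⟩, ⟨0, 0, 0, 0, -1, 0, 0, 0⟩] ++ GG),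
  (⟨4, 0, 0, 1, 1, 1⟩, [⟨0, 1, 0, 0, 0, 0, 0, 0⟩, ⟨0, -1, 0, 0, 0, 0, 0, 0⟩, ⟨0, 0, 0, 1, 0, 0, 0, 0⟩, ⟨0, 0, 0, -1, 0, 0, 0, 0⟩, ⟨0, 0, 0, 0, 1, 0, 0, 0⟩, ⟨0, 0, 0, 0, -1, 0, 0, 0⟩] ++ GG),
  (⟨2, 2, 0, 2, 4, 0⟩, [⟨0, 1, 0, 0, 0, 0, 0, 0⟩, ⟨0, -1, 0, 0, 0, 0, 0, 0⟩, ⟨0, 0, 0, 1, 0, 0, 0, 0⟩, ⟨0, 0, 0, -1, 0, 0, 0, 0⟩, ⟨0, 0, 0, 0, 1, 0, 0, 0⟩, ⟨0, 0, 0, 0, -1, 0, 0, 0⟩, ⟨0, 0, 0, 0, 0, 0, 0, 1⟩, ⟨0, 0, 0, 0, 0, 0, 0, -1⟩] ++ GG),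
  (⟨2, 1, 0, 2, 4, 0⟩, [⟨0, 1, 0, 0, 0, 0, 0, 0⟩, ⟨0, -1, 0, 0, 0, 0, 0, 0⟩, ⟨0, 0, 0, 1, 0, 0, 0, 0⟩, ⟨0, 0, 0, -1, 0, 0, 0, 0⟩, ⟨0, 0, 0, 0, 1, 0, 0, 0⟩, ⟨0, 0, 0, 0, -1, 0, 0, 0⟩, ⟨0, 0, 0, 0, 0, 0, 0, 1⟩, ⟨0, 0, 0, 0, 0, 0, 0, -1⟩] ++ GG),
  (⟨2, 0, 0, 2, 4, 0⟩, [⟨0, 1, 0, 0, 0, 0, 0, 0⟩, ⟨0, -1, 0, 0, 0, 0, 0, 0⟩, ⟨0, 0, 0, 1, 0, 0, 0, 0⟩, ⟨0, 0, 0, -1, 0, 0, 0, 0⟩, ⟨0, 0, 0, 0, 1, 0, 0, 0⟩, ⟨0, 0, 0, 0, -1, 0, 0, 0⟩, ⟨0, 0, 0, 0, 0, 0, 0, 1⟩, ⟨0, 0, 0, 0, 0, 0, 0, -1⟩] ++ GG),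
  (⟨1, 3, 0, 4, 0, 0⟩, [⟨0, 1, 0, 0, 0, 0, 0, 0⟩, ⟨0, -1, 0, 0, 0, 0, 0, 0⟩, ⟨0, 0, 0, 1, 0, 0, 0, 0⟩, ⟨0, 0, 0, -1, 0, 0, 0, 0⟩, ⟨0, 0, 0, 0, 1, 0, 0, 0⟩, ⟨0, 0, 0, 0, -1, 0, 0, 0⟩, ⟨0, 0, 0, 0, 0, 0, 1, 0⟩, ⟨0, 0, 0, 0, 0, 0, -1, 0⟩, ⟨0, 0, 0, 0, 0, 0, 0, 1⟩, ⟨0, 0, 0, 0, 0, 0, 0, -1⟩] ++ GG),
  (⟨1, 2, 0, 4, 0, 0⟩, [⟨0, 1, 0, 0, 0, 0, 0, 0⟩, ⟨0, -1, 0, 0, 0, 0, 0, 0⟩, ⟨0, 0, 0, 1, 0, 0, 0, 0⟩, ⟨0, 0, 0, -1, 0, 0, 0, 0⟩, ⟨0, 0, 0, 0, 1, 0, 0, 0⟩, ⟨0, 0, 0, 0, -1, 0, 0, 0⟩, ⟨0, 0, 0, 0, 0, 0, 1, 0⟩, ⟨0, 0, 0, 0, 0, 0, -1, 0⟩, ⟨0, 0, 0, 0, 0, 0, 0, 1⟩, ⟨0, 0, 0, 0, 0, 0, 0, -1⟩] ++ GG),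
  (⟨1, 1, 0, 4, 0, 0⟩, [⟨0, 1, 0, 0, 0, 0, 0, 0⟩, ⟨0, -1, 0, 0, 0, 0, 0, 0⟩, ⟨0, 0, 0, 1, 0, 0, 0, 0⟩, ⟨0, 0, 0, -1, 0, 0, 0, 0⟩, ⟨0, 0, 0, 0, 1, 0, 0, 0⟩, ⟨0, 0, 0, 0, -1, 0, 0, 0⟩, ⟨0, 0, 0, 0, 0, 0, 1, 0⟩, ⟨0, 0, 0, 0, 0, 0, -1, 0⟩, ⟨0, 0, 0, 0, 0, 0, 0, 1⟩, ⟨0, 0, 0, 0, 0, 0, 0, -1⟩] ++ GG),
  (⟨1, 2, 0, 0, 0, 0⟩, [⟨0, 1, 0, 0, 0, 0, 0, 0⟩, ⟨0, -1, 0, 0, 0, 0, 0, 0⟩, ⟨0, 0, 1, 0, 0, 0, 0, 0⟩, ⟨0, 0, -1, 0, 0, 0, 0, 0⟩, ⟨0, 0, 0, 1, 0, 0, 0, 0⟩, ⟨0, 0, 0, -1, 0, 0, 0, 0⟩, ⟨0, 0, 0, 0, 1, 0, 0, 0⟩, ⟨0, 0, 0, 0, -1, 0, 0, 0⟩, ⟨0, 0, 0, 0, 0, 1, 0, 0⟩, ⟨0, 0, 0, 0, 0, -1, 0, 0⟩, ⟨0, 0, 0, 0, 0, 0, 1, 0⟩, ⟨0, 0, 0, 0, 0, 0, -1, 0⟩, ⟨0, 0, 0, 0, 0, 0, 0, 1⟩, ⟨0, 0, 0, 0, 0, 0, 0, -1⟩] ++ GG),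
  (⟨1, 1, 0, 0, 0, 0⟩, [⟨0, 1, 0, 0, 0, 0, 0, 0⟩, ⟨0, -1, 0, 0, 0, 0, 0, 0⟩, ⟨0, 0, 1, 0, 0, 0, 0, 0⟩, ⟨0, 0, -1, 0, 0, 0, 0, 0⟩, ⟨0, 0, 0, 1, 0, 0, 0, 0⟩, ⟨0, 0, 0, -1, 0, 0, 0, 0⟩, ⟨0, 0, 0, 0, 1, 0, 0, 0⟩, ⟨0, 0, 0, 0, -1, 0, 0, 0⟩, ⟨0, 0, 0, 0, 0, 1, 0, 0⟩, ⟨0, 0, 0, 0, 0, -1, 0, 0⟩, ⟨0, 0, 0, 0, 0, 0, 1, 0⟩, ⟨0, 0, 0, 0, 0, 0, -1, 0⟩, ⟨0, 0, 0, 0, 0, 0, 0, 1⟩, ⟨0, 0, 0, 0, 0, 0, 0, -1⟩] ++ GG)]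

def s0 : List Ty × Tr := ([⟨4, 0, 0, 1, 1, 1⟩, ⟨4, 1, 0, 1, 1, 1⟩, ⟨4, 1, 0, 1, 1, 1⟩, ⟨4, 1, 0, 1, 1, 1⟩, ⟨1, 0, 1, 0, 0, 0⟩, ⟨1, 1, 1, 0, 0, 0⟩, ⟨1, 1, 1, 0, 0, 0⟩, ⟨1, 1, 1, 4, 0, 0⟩],
  (.R 0 1 0))

def s1 : List Ty × Tr := ([⟨1, 1, 0, 0, 0, 0⟩, ⟨1, 1, 0, 0, 0, 0⟩, ⟨4, 0, 0, 1, 1, 1⟩, ⟨4, 0, 0, 1, 1, 1⟩, ⟨4, 1, 0, 1, 1, 1⟩, ⟨4, 1, 0, 1, 1, 1⟩, ⟨1, 0, 1, 0, 0, 0⟩, ⟨1, 0, 1, 0, 0, 0⟩, ⟨1, 1, 1, 0, 0, 0⟩, ⟨1, 2, 1, 4, 0, 0⟩],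
  (.S 9 (-90) 38 (.S 9 (-154) (-90) (.S 9 (-282) (-218) (.R 0 0 1) (.S 2 (-52) 76 (.R 0 1 0) (.S 3 (-52) 76 (.R 0 1 0) (.S 6 (-52) 76 (.S 7 (-52) 76 (.S 6 (-116) (-52) (.R 0 1 0) (.S 7 (-116) (-52) (.R 0 1 0) (.S 2 76 140 (.S 3 76 140 (.S 9 (-218) (-154) (.S 8 (-63) 65 (.L 0 1 0) (.S 8 257 321 (.L 0 1 0) (.R 0 (-1) 0))) (.S 8 (-63) 65 (.L 0 1 0) (.S 8 193 257 (.L 0 1 0) (.R 0 (-1) 0)))) (.R 0 1 0)) (.R 0 1 0)))) (.R 0 0 1)) (.R 0 0 1))))) (.R (-1) 0 0)) (.R 0 0 1)))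

def s2 : List Ty × Tr := ([⟨1, 1, 0, 0, 0, 0⟩, ⟨1, 1, 0, 0, 0, 0⟩, ⟨4, 1, 0, 2, 0, 2⟩, ⟨4, 1, 0, 0, 4, 2⟩, ⟨1, 0, 1, 0, 0, 0⟩, ⟨1, 0, 1, 0, 0, 0⟩, ⟨1, 1, 1, 0, 0, 0⟩, ⟨1, 2, 1, 4, 0, 0⟩],
  (.S 7 (-90) 38 (.S 2 (-51) 13 (.L 0 0 1) (.S 2 13 77 (.L 0 0 1) (.R 0 1 0))) (.R 0 0 1)))

def s3 : List Ty × Tr := ([⟨1, 1, 0, 0, 0, 0⟩, ⟨1, 1, 0, 0, 0, 0⟩, ⟨2, 1, 0, 2, 4, 0⟩, ⟨2, 1, 0, 2, 4, 0⟩, ⟨4, 1, 0, 0, 0, 4⟩, ⟨1, 0, 1, 0, 0, 0⟩, ⟨1, 0, 1, 0, 0, 0⟩, ⟨1, 1, 1, 0, 0, 0⟩, ⟨1, 2, 1, 4, 0, 0⟩],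
  (.S 8 (-90) 38 (.S 8 (-154) (-90) (.S 2 (-51) 13 (.S 3 (-51) 13 (.L 0 0 1) (.S 3 13 77 (.L 0 0 1) (.R 0 1 0))) (.S 3 (-51) 13 (.S 2 13 77 (.L 0 0 1) (.R 0 1 0)) (.S 2 13 77 (.R 0 (-1) 4) (.S 3 13 77 (.R 0 (-1) 4) (.R 0 1 0))))) (.S 2 (-51) 13 (.S 3 (-51) 13 (.L 0 0 1) (.S 3 13 77 (.L 0 0 1) (.R 0 1 0))) (.S 3 (-51) 13 (.S 2 13 77 (.L 0 0 1) (.R 0 1 0)) (.S 2 13 77 (.S 3 13 77 (.L 0 0 1) (.S 3 77 141 (.S 5 (-52) 76 (.S 6 (-52) 76 (.S 5 (-116) (-52) (.S 6 (-116) (-52) (.S 5 (-180) (-116) (.S 6 (-180) (-116) (.S 5 (-308) (-244) (.R 0 1 0) (.S 6 (-308) (-244) (.R 0 1 0) (.S 7 (-63) 65 (.L 0 1 0) (.R 0 1 0)))) (.S 5 (-308) (-244) (.S 5 (-500) (-436) (.R 0 1 0) (.S 7 (-63) 65 (.L 0 1 0) (.R 0 1 0)))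 (.S 7 (-63) 65 (.L 0 1 0) (.S 5 (-244) (-180) (.S 7 385 449 (.L 0 1 0) (.R 0 (-1) 0)) (.R 0 (-1) 0))))) (.S 6 (-180) (-116) (.S 6 (-308) (-244) (.S 6 (-500) (-436) (.R 0 1 0) (.S 7 (-63) 65 (.L 0 1 0) (.R 0 1 0))) (.S 7 (-63) 65 (.L 0 1 0) (.S 6 (-244) (-180) (.S 7 385 449 (.L 0 1 0) (.R 0 (-1) 0)) (.R 0 (-1) 0)))) (.R 0 (-1) 0))) (.R 0 (-1) 0)) (.R 0 (-1) 0)) (.S 5 (-116) (-52) (.R 0 1 0) (.S 6 76 140 (.R 0 1 0) (.S 6 204 268 (.S 6 140 204 (.S 7 (-63) 65 (.L 0 1 0) (.L 0 (-1) 0)) (.R 0 (-1) 0)) (.R 0 (-1) 0))))) (.S 6 (-52) 76 (.S 6 (-116) (-52) (.R 0 1 0) (.S 5 76 140 (.R 0 1 0) (.S 5 204 268 (.S 5 140 204 (.S 7 (-63) 65 (.L 0 1 0) (.L 0 (-1) 0)) (.R 0 (-1) 0)) (.R 0 (-1) 0)))) (.R 0 1 0))) (.L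 0 0 (-1)))) (.S 3 13 77 (.S 2 77 141 (.S 5 (-52) 76 (.S 6 (-52) 76 (.S 5 (-116) (-52) (.S 6 (-116) (-52) (.S 5 (-180) (-116) (.S 6 (-180) (-116) (.S 5 (-308) (-244) (.R 0 1 0) (.S 6 (-308) (-244) (.R 0 1 0) (.S 7 (-63) 65 (.L 0 1 0) (.R 0 1 0)))) (.S 5 (-308) (-244) (.S 5 (-500) (-436) (.R 0 1 0) (.S 7 (-63) 65 (.L 0 1 0) (.R 0 1 0))) (.S 7 (-63) 65 (.L 0 1 0) (.S 5 (-244) (-180) (.S 7 385 449 (.L 0 1 0) (.R 0 (-1) 0)) (.R 0 (-1) 0))))) (.S 6 (-180) (-116) (.S 6 (-308) (-244) (.S 6 (-500) (-436) (.R 0 1 0) (.S 7 (-63) 65 (.L 0 1 0) (.R 0 1 0))) (.S 7 (-63) 65 (.L 0 1 0) (.S 6 (-244) (-180) (.S 7 385 449 (.L 0 1 0) (.R 0 (-1) 0)) (.R 0 (-1) 0)))) (.R 0 (-1) 0))) (.R 0 (-1) 0)) (.R 0 (-1) 0)) (.S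 5 (-116) (-52) (.R 0 1 0) (.S 6 76 140 (.R 0 1 0) (.S 6 204 268 (.S 6 140 204 (.S 7 (-63) 65 (.L 0 1 0) (.L 0 (-1) 0)) (.R 0 (-1) 0)) (.R 0 (-1) 0))))) (.S 6 (-52) 76 (.S 6 (-116) (-52) (.R 0 1 0) (.S 5 76 140 (.R 0 1 0) (.S 5 204 268 (.S 5 140 204 (.S 7 (-63) 65 (.L 0 1 0) (.L 0 (-1) 0)) (.R 0 (-1) 0)) (.R 0 (-1) 0)))) (.R 0 1 0))) (.L 0 0 (-1))) (.L 0 0 (-1))))))) (.R 0 0 1)))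

def s4 : List Ty × Tr := ([⟨1, 1, 0, 0, 0, 0⟩, ⟨1, 1, 0, 0, 0, 0⟩, ⟨1, 1, 0, 0, 0, 0⟩, ⟨1, 1, 0, 0, 0, 0⟩, ⟨1, 1, 0, 0, 0, 0⟩, ⟨1, 1, 0, 0, 0, 0⟩, ⟨4, 1, 0, 2, 4, 4⟩, ⟨1, 0, 1, 0, 0, 0⟩, ⟨1, 0, 1, 0, 0, 0⟩, ⟨1, 1, 1, 0, 0, 0⟩, ⟨1, 2, 1, 4, 0, 0⟩],
  (.S 10 (-90) 38 (.S 6 (-51) 13 (.L 0 0 1) (.S 6 13 77 (.L 0 0 1) (.R 0 1 0))) (.R 0 0 1)))

def s5 : List Ty × Tr := ([⟨1, 1, 0, 0, 0, 0⟩, ⟨1, 1, 0, 0, 0, 0⟩, ⟨1, 2, 0, 0, 0, 0⟩, ⟨4, 1, 0, 2, 4, 4⟩, ⟨1, 0, 1, 0, 0, 0⟩, ⟨1, 0, 1, 0, 0, 0⟩, ⟨1, 1, 1, 0, 0, 0⟩, ⟨1, 2, 1, 4, 0, 0⟩],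
  (.S 7 (-90) 38 (.S 3 (-51) 13 (.L 0 0 1) (.S 3 13 77 (.L 0 0 1) (.R 0 1 0))) (.R 0 0 1)))

def s6 : List Ty × Tr := ([⟨4, 0, 0, 1, 1, 1⟩, ⟨4, 0, 0, 1, 1, 1⟩, ⟨4, 1, 0, 1, 1, 1⟩, ⟨4, 1, 0, 1, 1, 1⟩, ⟨1, 1, 1, 0, 0, 0⟩, ⟨1, 1, 1, 0, 0, 0⟩, ⟨1, 1, -1, 0, 0, 0⟩, ⟨1, 2, 1, 4, 0, 0⟩],
  (.S 7 (-90) 38 (.S 6 (-87) 41 (.R 0 1 0) (.S 6 41 105 (.R 0 (-1) 0) (.S 7 (-154) (-90) (.R 3 1 0) (.R (-1) 0 0)))) (.R 1 0 1)))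

def s7 : List Ty × Tr := ([⟨4, 1, 0, 2, 0, 2⟩, ⟨4, 1, 0, 0, 4, 2⟩, ⟨1, 1, 1, 0, 0, 0⟩, ⟨1, 1, 1, 0, 0, 0⟩, ⟨1, 1, -1, 0, 0, 0⟩, ⟨1, 2, 1, 4, 0, 0⟩],
  (.S 5 (-90) 38 (.S 0 (-51) 13 (.L 0 0 1) (.S 1 (-75) 53 (.S 4 (-87) 41 (.S 0 13 77 (.L 0 0 1) (.R 0 1 0)) (.S 0 13 77 (.L 0 0 1) (.S 5 (-154) (-90) (.S 4 41 105 (.R 0 (-1) 0) (.S 1 (-139) (-75) (.R 1 1 0) (.L (-4) 4 1))) (.L 0 0 (-1))))) (.S 4 (-87) 41 (.R 2 1 0) (.L (-4) 4 1)))) (.R 3 1 0)))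

def s8 : List Ty × Tr := ([⟨2, 1, 0, 2, 4, 0⟩, ⟨2, 1, 0, 2, 4, 0⟩, ⟨4, 1, 0, 0, 0, 4⟩, ⟨1, 1, 1, 0, 0, 0⟩, ⟨1, 1, 1, 0, 0, 0⟩, ⟨1, 1, -1, 0, 0, 0⟩, ⟨1, 2, 1, 4, 0, 0⟩],
  (.S 6 (-90) 38 (.S 2 (-75) 53 (.S 5 (-87) 41 (.S 6 (-154) (-90) (.R 0 0 1) (.L 2 (-2) (-1))) (.S 6 (-154) (-90) (.S 5 41 105 (.R 0 (-1) 0) (.S 0 (-51) 13 (.S 1 (-51) 13 (.L 0 0 1) (.S 1 13 77 (.L 0 0 1) (.R 0 1 0))) (.S 1 (-51) 13 (.S 0 13 77 (.L 0 0 1) (.R 0 1 0)) (.S 0 13 77 (.R 0 (-1) 4) (.S 1 13 77 (.R 0 (-1) 4) (.S 2 (-139) (-75) (.R 1 1 0) (.L (-2) 2 1))))))) (.S 5 41 105 (.L 2 (-2) (-1)) (.S 0 (-51) 13 (.S 1 (-51) 13 (.L 0 0 1) (.S 1 13 77 (.L 0 0 1) (.R 0 1 0))) (.S 1 (-51) 13 (.S 0 13 77 (.L 0 0 1) (.R 0 1 0)) (.S 0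 13 77 (.S 1 13 77 (.L 0 0 1) (.S 1 77 141 (.S 2 (-139) (-75) (.S 5 105 169 (.L 2 (-2) (-1)) (.S 2 (-203) (-139) (.R 4 1 0) (.R (-4) (-1) 0))) (.R (-1) 0 0)) (.L 0 0 (-1)))) (.S 1 13 77 (.S 0 77 141 (.S 2 (-139) (-75) (.S 5 105 169 (.L 2 (-2) (-1)) (.S 2 (-203) (-139) (.R 4 1 0) (.R (-4) (-1) 0))) (.R (-1) 0 0)) (.L 0 0 (-1))) (.L 0 0 (-1))))))))) (.S 5 (-87) 41 (.R 2 1 0) (.L (-2) 2 1))) (.R 3 1 0)))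

def s9 : List Ty × Tr := ([⟨1, 1, 0, 0, 0, 0⟩, ⟨1, 1, 0, 0, 0, 0⟩, ⟨1, 1, 0, 0, 0, 0⟩, ⟨1, 1, 0, 0, 0, 0⟩, ⟨4, 1, 0, 2, 4, 4⟩, ⟨1, 1, 1, 0, 0, 0⟩, ⟨1, 1, 1, 0, 0, 0⟩, ⟨1, 1, -1, 0, 0, 0⟩, ⟨1, 2, 1, 4, 0, 0⟩],
  (.S 8 (-90) 38 (.S 7 (-87) 41 (.S 4 (-51) 13 (.L 0 0 1) (.S 4 13 77 (.L 0 0 1) (.R 0 1 0))) (.S 7 41 105 (.R 0 (-1) 0) (.S 4 (-51) 13 (.L 0 0 1) (.S 4 13 77 (.L 0 0 1) (.S 8 (-218) (-154) (.S 7 169 233 (.S 8 (-474) (-410) (.R 1 1 0) (.S 7 105 169 (.S 4 141 205 (.S 8 (-346) (-282) (.L 0 0 1) (.S 4 77 141 (.L 0 0 1) (.R 0 1 0))) (.R 0 1 0)) (.R 0 0 1))) (.R 0 0 1)) (.S 7 169 233 (.S 8 (-154) (-90) (.S 4 77 141 (.S 7 105 169 (.S 5 (-63) 65 (.S 6 (-63) 65 (.L 0 1 0) (.S 5 (-127) (-63) (.S 6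 129 193 (.L 0 1 0) (.R 0 (-1) 0)) (.R 0 (-1) 0))) (.S 6 (-63) 65 (.S 6 (-127) (-63) (.S 5 129 193 (.L 0 1 0) (.R 0 (-1) 0)) (.R 0 (-1) 0)) (.S 5 129 193 (.R 0 1 0) (.S 6 129 193 (.R 0 1 0) (.L 0 (-4) 1))))) (.R 0 1 0)) (.L 0 0 (-1))) (.L 0 0 (-1))) (.R 0 1 0))))))) (.R 3 1 0)))

def s10 : List Ty × Tr := ([⟨1, 2, 0, 0, 0, 0⟩, ⟨4, 1, 0, 2, 4, 4⟩, ⟨1, 1, 1, 0, 0, 0⟩, ⟨1, 1, 1, 0, 0, 0⟩, ⟨1, 1, -1, 0, 0, 0⟩, ⟨1, 2, 1, 4, 0, 0⟩],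
  (.S 5 (-90) 38 (.S 0 (-150) 42 (.S 4 (-87) 41 (.S 1 (-51) 13 (.L 0 0 1) (.S 1 13 77 (.L 0 0 1) (.R 0 1 0))) (.S 4 41 105 (.R 0 (-1) 0) (.S 1 (-51) 13 (.L 0 0 1) (.S 1 13 77 (.L 0 0 1) (.S 5 (-154) (-90) (.S 4 105 169 (.S 0 (-214) (-150) (.S 5 (-218) (-154) (.R 1 1 0) (.L 2 (-2) (-1))) (.L (-4) 4 1)) (.R 0 1 0)) (.L 0 0 (-1))))))) (.S 4 (-87) 41 (.R 2 1 0) (.L (-2) 2 1))) (.R 3 1 0)))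

def s11 : List Ty × Tr := ([⟨1, 1, 0, 0, 0, 0⟩, ⟨1, 1, 0, 0, 0, 0⟩, ⟨4, 1, 0, 2, 4, 4⟩, ⟨1, 0, 1, 0, 0, 0⟩, ⟨1, 1, -1, 0, 0, 0⟩, ⟨1, 2, 1, 0, 0, 0⟩, ⟨1, 2, 1, 4, 0, 0⟩],
  (.S 6 (-90) 38 (.S 4 (-87) 41 (.S 2 (-51) 13 (.L 0 0 1) (.S 2 13 77 (.L 0 0 1) (.R 0 1 0))) (.S 4 41 105 (.R 2 (-1) 0) (.S 2 (-51) 13 (.L 0 0 1) (.S 2 13 77 (.L 0 0 1) (.S 6 (-218) (-154) (.S 5 (-138) 54 (.S 4 169 233 (.S 3 (-52) 76 (.L 0 1 0) (.S 6 (-474) (-410) (.R 2 1 0) (.S 4 105 169 (.S 5 (-330) (-266) (.R 2 1 0) (.S 2 141 205 (.S 6 (-346) (-282) (.L 0 0 1) (.S 3 140 204 (.L 0 1 0) (.R 2 (-1) 0))) (.S 6 (-346) (-282) (.R 1 0 0) (.L 0 0 (-1))))) (.R 0 1 0)))) (.S 3 (-52) 76 (.L 0 1 0) (.R 0 1 0))) (.R 2 1 0)) (.S 5 (-138)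 54 (.S 4 169 233 (.S 3 (-52) 76 (.L 0 1 0) (.S 6 (-154) (-90) (.S 2 77 141 (.S 4 105 169 (.S 5 (-330) (-266) (.R 1 0 0) (.S 3 140 204 (.L 0 1 0) (.R 0 (-1) 0))) (.R 0 1 0)) (.L 0 0 (-1))) (.L 0 0 (-1)))) (.S 3 (-52) 76 (.L 0 1 0) (.R 0 1 0))) (.S 4 169 233 (.S 5 54 118 (.R 0 1 0) (.S 3 (-52) 76 (.S 6 (-154) (-90) (.S 2 77 141 (.S 3 (-116) (-52) (.R 3 1 0) (.R 2 (-1) 0)) (.L 0 0 (-1))) (.L 0 0 (-1))) (.S 6 (-154) (-90) (.R 1 1 0) (.L 0 0 (-1))))) (.R 0 1 0)))))))) (.S 4 (-87) 41 (.R 0 0 1) (.S 6 38 102 (.R 0 0 1) (.S 4 41 105 (.R 1 0 0) (.S 2 (-51) 13 (.S 6 166 230 (.R 0 0 1) (.S 5 (-138) 54 (.S 4 169 233 (.S 3 (-52) 76 (.S 6 422 486 (.R 1 0 0) (.S 2 (-115) (-51) (.R 3 1 0) (.L 0 0 (-1)))) (.R 1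 1 0)) (.R 0 0 1)) (.R 1 0 1))) (.L 0 0 (-1))))))))

def s12 : List Ty × Tr := ([⟨1, 1, 0, 0, 0, 0⟩, ⟨1, 1, 0, 0, 0, 0⟩, ⟨4, 0, 0, 1, 1, 1⟩, ⟨4, 0, 0, 1, 1, 1⟩, ⟨4, 0, 0, 1, 1, 1⟩, ⟨4, 1, 0, 1, 1, 1⟩, ⟨1, 0, 1, 0, 0, 0⟩, ⟨1, 0, 1, 0, 0, 0⟩, ⟨1, 0, 1, 0, 0, 0⟩, ⟨1, 3, 1, 4, 0, 0⟩],
  (.S 9 (-165) 27 (.S 2 (-52) 76 (.S 3 (-52) 76 (.S 4 (-52) 76 (.R 0 1 0) (.S 6 (-52) 76 (.S 7 (-52) 76 (.S 8 (-52) 76 (.L 0 1 0) (.R 0 0 1)) (.R 0 0 1)) (.R 0 0 1))) (.S 4 (-52) 76 (.S 6 (-52) 76 (.S 7 (-52) 76 (.S 8 (-52) 76 (.L 0 1 0) (.R 0 0 1)) (.R 0 0 1)) (.R 0 0 1)) (.S 6 (-52) 76 (.S 7 (-52) 76 (.S 8 (-52) 76 (.L 0 1 0) (.R 0 0 1)) (.R 0 0 1)) (.R 0 0 1)))) (.S 3 (-52) 76 (.S 4 (-52) 76 (.S 6 (-52) 76 (.S 7 (-52)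 76 (.S 8 (-52) 76 (.L 0 1 0) (.R 0 0 1)) (.R 0 0 1)) (.R 0 0 1)) (.S 6 (-52) 76 (.S 7 (-52) 76 (.S 8 (-52) 76 (.L 0 1 0) (.R 0 0 1)) (.R 0 0 1)) (.R 0 0 1))) (.S 4 (-52) 76 (.S 6 (-52) 76 (.S 7 (-52) 76 (.S 8 (-52) 76 (.L 0 1 0) (.R 0 0 1)) (.R 0 0 1)) (.R 0 0 1)) (.S 6 (-52) 76 (.S 7 (-52) 76 (.S 8 (-52) 76 (.L 0 1 0) (.R 0 0 1)) (.R 0 0 1)) (.R 0 0 1))))) (.R 0 0 1)))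

def s13 : List Ty × Tr := ([⟨2, 0, 0, 2, 4, 0⟩, ⟨2, 1, 0, 2, 4, 0⟩, ⟨4, 1, 0, 0, 0, 4⟩, ⟨1, 0, 1, 0, 0, 0⟩, ⟨1, 0, 1, 0, 0, 0⟩, ⟨1, 0, 1, 0, 0, 0⟩, ⟨1, 3, 1, 4, 0, 0⟩],
  (.S 6 (-165) 27 (.S 2 (-75) 53 (.S 1 (-51) 13 (.L 1 0 0) (.S 1 13 77 (.L 1 0 0) (.S 2 (-139) (-75) (.S 0 (-40) 88 (.S 0 (-104) (-40) (.S 2 (-203) (-139) (.R 1 0 0) (.S 6 (-229) (-165) (.R 1 1 0) (.S 0 (-424) (-360) (.L (-2) 0 1) (.R 0 1 0)))) (.L 2 0 (-1))) (.L 2 0 (-1))) (.R (-1) 0 0)))) (.R 1 0 0)) (.R 0 0 1)))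

def s14 : List Ty × Tr := ([⟨4, 0, 0, 1, 1, 1⟩, ⟨4, 0, 0, 1, 1, 1⟩, ⟨4, 0, 0, 1, 1, 1⟩, ⟨4, 1, 0, 1, 1, 1⟩, ⟨1, 0, 1, 0, 0, 0⟩, ⟨1, 1, 1, 0, 0, 0⟩, ⟨1, 1, -1, 0, 0, 0⟩, ⟨1, 3, 1, 4, 0, 0⟩],
  (.R 1 0 1))

def s15 : List Ty × Tr := ([⟨1, 1, 0, 0, 0, 0⟩, ⟨1, 1, 0, 0, 0, 0⟩, ⟨1, 1, 0, 0, 0, 0⟩, ⟨1, 1, 0, 0, 0, 0⟩, ⟨4, 0, 0, 1, 1, 1⟩, ⟨4, 1, 0, 1, 1, 1⟩, ⟨4, 1, 0, 2, 0, 2⟩, ⟨1, 0, 1, 0, 0, 0⟩, ⟨1, 1, 1, 0, 0, 0⟩, ⟨2, 1, 1, 2, 4, 0⟩],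
  (.S 9 (-39) 25 (.S 9 (-103) (-39) (.S 6 (-51) 13 (.S 9 (-231) (-167) (.R 0 0 1) (.S 4 (-52) 76 (.R 0 1 0) (.S 7 (-52) 76 (.S 9 (-167) (-103) (.R 0 0 1) (.S 6 (-115) (-51) (.S 7 (-116) (-52) (.R 0 1 0) (.S 8 (-63) 65 (.L 0 1 0) (.S 8 193 257 (.L 0 1 0) (.S 8 257 321 (.S 4 140 204 (.S 6 (-243) (-179) (.S 4 76 140 (.S 6 (-499) (-435) (.S 6 (-1011) (-947) (.S 5 (-63) 65 (.L 0 0 1) (.S 6 (-2035) (-1971) (.S 5 129 193 (.L 0 0 1) (.R 0 1 0)) (.R 0 1 0))) (.R 0 1 0)) (.R 0 1 0)) (.R 0 1 0)) (.R 0 1 0)) (.R 0 1 0)) (.L 0 (-1) 0))))) (.R 0 1 0))) (.R 0 0 1)))) (.S 6 13 77 (.R 0 (-1) 1) (.S 9 (-231) (-167) (.R 0 0 1) (.S 4 (-52) 76 (.S 7 (-52) 76 (.S 9 (-167) (-103) (.R 0 0 1) (.S 4 (-116) (-52) (.S 7 (-116)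 (-52) (.R 0 1 0) (.S 8 (-63) 65 (.L 0 1 0) (.S 8 193 257 (.L 0 1 0) (.S 8 257 321 (.S 6 141 205 (.S 4 (-244) (-180) (.S 6 77 141 (.S 4 (-500) (-436) (.S 4 (-1012) (-948) (.S 5 (-63) 65 (.L 0 0 1) (.S 4 (-2036) (-1972) (.R 0 (-1) 0) (.S 5 129 193 (.L 0 0 1) (.S 4 (-1524) (-1460) (.R 0 (-1) 0) (.S 5 385 449 (.L 0 0 1) (.S 4 (-1268) (-1204) (.R 0 (-1) 0) (.S 4 (-1140) (-1076) (.S 5 897 961 (.L 0 0 1) (.S 5 1921 1985 (.S 4 (-1204) (-1140) (.R 0 (-1) 0) (.S 5 1025 1089 (.L 0 0 1) (.S 5 1089 1153 (.R 0 (-1) 0) (.L 0 0 (-1))))) (.L 0 0 (-1)))) (.S 5 897 961 (.L 0 0 1) (.R 0 1 0))))))))) (.S 5 (-63) 65 (.L 0 0 1) (.S 5 129 193 (.L 0 0 1) (.S 4 (-756) (-692) (.S 5 385 449 (.L 0 0 1) (.R 0 1 0)) (.R 0 1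 0))))) (.R 0 1 0)) (.R 0 1 0)) (.R 0 1 0)) (.R 0 1 0)) (.L 0 (-1) 0))))) (.R 0 1 0))) (.R 0 0 1)) (.S 7 (-52) 76 (.S 9 (-167) (-103) (.R 0 0 1) (.S 7 (-116) (-52) (.S 6 141 205 (.S 4 140 204 (.S 7 (-244) (-180) (.S 6 77 141 (.S 4 76 140 (.S 5 (-63) 65 (.S 5 (-191) (-127) (.L 0 0 1) (.R 0 1 0)) (.L 0 0 (-1))) (.R 0 1 0)) (.R 0 1 0)) (.S 6 77 141 (.S 4 76 140 (.S 5 (-63) 65 (.S 5 (-191) (-127) (.L 0 0 1) (.S 5 (-127) (-63) (.S 7 (-180) (-116) (.S 8 (-63) 65 (.L 0 1 0) (.S 8 321 385 (.L 0 1 0) (.S 8 385 449 (.R 0 1 0) (.L 0 (-1) 0)))) (.R 0 (-1) 0)) (.L 0 0 (-1)))) (.L 0 0 (-1))) (.R 0 1 0)) (.R 0 1 0))) (.R 0 1 0)) (.R 0 1 0)) (.S 8 (-63) 65 (.L 0 1 0) (.S 8 193 257 (.L 0 1 0) (.S 8 257 321 (.S 6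 141 205 (.S 4 140 204 (.R 0 (-1) 0) (.S 6 77 141 (.S 4 396 460 (.R 0 (-1) 0) (.S 4 908 972 (.R 0 (-1) 0) (.S 5 (-63) 65 (.S 4 1932 1996 (.R 0 (-1) 0) (.S 5 (-127) (-63) (.R 0 (-1) 0) (.L 0 0 (-1)))) (.L 0 0 (-1))))) (.S 4 396 460 (.S 4 268 332 (.S 5 (-63) 65 (.R 0 1 0) (.L 0 0 (-1))) (.R 0 1 0)) (.R 0 1 0)))) (.S 4 140 204 (.S 4 76 140 (.S 6 397 461 (.R 0 (-1) 0) (.S 6 909 973 (.S 5 (-63) 65 (.S 6 653 717 (.R 0 (-1) 0) (.S 5 (-127) (-63) (.R 0 (-1) 0) (.L 0 0 (-1)))) (.L 0 0 (-1))) (.S 5 (-63) 65 (.S 6 1933 1997 (.S 5 (-127) (-63) (.S 6 1421 1485 (.S 5 (-255) (-191) (.S 6 1165 1229 (.R 0 (-1) 0) (.S 5 (-511) (-447) (.R 0 (-1) 0) (.L 0 0 (-1)))) (.L 0 0 (-1))) (.S 5 (-255) (-191) (.S 5 (-511) (-447)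 (.S 6 1677 1741 (.S 5 (-1023) (-959) (.S 6 1549 1613 (.R 0 (-1) 0) (.S 5 (-2047) (-1983) (.R 0 (-1) 0) (.L 0 0 (-1)))) (.L 0 0 (-1))) (.S 5 (-1023) (-959) (.S 6 1805 1869 (.S 5 (-2047) (-1983) (.S 5 (-4095) (-4031) (.L 0 0 1) (.S 6 1741 1805 (.S 5 (-3519) (-3455) (.L 0 0 1) (.S 5 (-3455) (-3391) (.R 0 (-1) 0) (.L 0 0 (-1)))) (.R 0 1 0))) (.L 0 0 (-1))) (.R 0 1 0)) (.L 0 0 (-1)))) (.L 0 0 (-1))) (.L 0 0 (-1)))) (.L 0 0 (-1))) (.R 0 1 0)) (.L 0 0 (-1))))) (.R 0 1 0)) (.R 0 1 0))) (.L 0 (-1) 0)))))) (.R 0 0 1)))))) (.S 6 (-51) 13 (.S 4 (-52) 76 (.S 7 (-52) 76 (.S 6 (-115) (-51) (.S 4 (-116) (-52) (.S 7 (-116) (-52) (.S 6 (-243) (-179) (.R 0 (-1) 0) (.S 4 (-244) (-180) (.R 0 (-1) 0) (.S 7 (-244) (-180)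 (.S 7 (-500) (-436) (.S 6 (-179) (-115) (.S 4 (-180) (-116) (.R 0 (-1) 0) (.S 5 (-63) 65 (.L 0 0 1) (.R 0 (-1) 0))) (.S 4 (-180) (-116) (.S 5 (-63) 65 (.L 0 0 1) (.S 5 385 449 (.L 0 0 1) (.S 5 449 513 (.S 7 (-1012) (-948) (.S 8 (-63) 65 (.L 0 1 0) (.S 7 (-2036) (-1972) (.S 8 129 193 (.L 0 1 0) (.R 0 (-1) 0)) (.R 0 (-1) 0))) (.R 0 (-1) 0)) (.L 0 0 (-1))))) (.S 5 (-63) 65 (.L 0 0 1) (.S 5 321 385 (.L 0 0 1) (.S 5 385 449 (.S 7 (-1012) (-948) (.R 0 1 0) (.S 8 (-63) 65 (.L 0 1 0) (.R 0 1 0))) (.L 0 0 (-1))))))) (.S 6 (-179) (-115) (.R 0 (-1) 0) (.S 4 (-180) (-116) (.R 0 (-1) 0) (.S 5 (-63) 65 (.L 0 0 1) (.S 5 321 385 (.L 0 0 1) (.S 5 385 449 (.S 8 (-63) 65 (.L 0 1 0) (.S 7 (-372) (-308) (.S 8 129 193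 (.L 0 1 0) (.S 7 (-436) (-372) (.S 8 449 513 (.L 0 1 0) (.S 8 513 577 (.R 0 1 0) (.L 0 (-1) 0))) (.R 0 (-1) 0))) (.R 0 (-1) 0))) (.L 0 0 (-1)))))))) (.R 0 (-1) 0)))) (.R 0 (-1) 0)) (.S 7 (-116) (-52) (.S 6 (-243) (-179) (.S 7 (-244) (-180) (.S 6 (-499) (-435) (.S 7 (-500) (-436) (.S 6 (-1011) (-947) (.S 7 (-1012) (-948) (.R 0 1 0) (.S 5 (-63) 65 (.L 0 0 1) (.S 8 (-63) 65 (.L 0 1 0) (.R 0 1 0)))) (.R 0 1 0)) (.S 6 (-1011) (-947) (.S 5 (-63) 65 (.L 0 0 1) (.S 8 (-63) 65 (.L 0 1 0) (.S 7 (-372) (-308) (.S 6 (-2035) (-1971) (.S 5 129 193 (.L 0 0 1) (.R 0 1 0)) (.R 0 1 0)) (.S 6 (-2035) (-1971) (.S 5 129 193 (.L 0 0 1) (.S 8 129 193 (.L 0 1 0) (.S 7 (-308) (-244) (.S 8 321 385 (.L 0 1 0) (.S 8 385 449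 (.S 6 (-4083) (-4019) (.S 5 385 449 (.L 0 0 1) (.S 6 (-8179) (-8115) (.S 5 897 961 (.L 0 0 1) (.R 0 1 0)) (.R 0 1 0))) (.R 0 1 0)) (.L 0 (-1) 0))) (.R 0 (-1) 0)))) (.S 5 129 193 (.L 0 0 1) (.S 8 129 193 (.L 0 1 0) (.S 7 (-308) (-244) (.R 0 1 0) (.S 8 257 321 (.L 0 1 0) (.S 8 321 385 (.S 6 (-1523) (-1459) (.S 5 385 449 (.L 0 0 1) (.S 6 (-1779) (-1715) (.R 0 (-1) 0) (.S 5 897 961 (.L 0 0 1) (.S 6 (-1651) (-1587) (.R 0 (-1) 0) (.S 5 1921 1985 (.L 0 0 1) (.S 5 3969 4033 (.S 6 (-1587) (-1523) (.R 0 (-1) 0) (.R 0 1 0)) (.L 0 0 (-1)))))))) (.S 6 (-1267) (-1203) (.S 5 385 449 (.L 0 0 1) (.S 5 897 961 (.L 0 0 1) (.R 0 1 0))) (.S 5 385 449 (.L 0 0 1) (.R 0 1 0)))) (.L 0 (-1) 0)))))))))) (.S 5 (-63) 65 (.L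 0 0 1) (.S 8 (-63) 65 (.L 0 1 0) (.S 7 (-372) (-308) (.R 0 1 0) (.S 6 (-755) (-691) (.S 5 129 193 (.L 0 0 1) (.S 8 129 193 (.L 0 1 0) (.S 7 (-308) (-244) (.R 0 1 0) (.S 8 257 321 (.L 0 1 0) (.S 8 321 385 (.R 0 1 0) (.L 0 (-1) 0)))))) (.S 5 129 193 (.L 0 0 1) (.R 0 1 0)))))))) (.S 7 (-500) (-436) (.R 0 1 0) (.S 6 (-371) (-307) (.S 5 (-63) 65 (.L 0 0 1) (.S 8 (-63) 65 (.L 0 1 0) (.R 0 1 0))) (.R 0 1 0)))) (.S 6 (-499) (-435) (.S 7 (-180) (-116) (.S 8 (-63) 65 (.L 0 1 0) (.S 8 193 257 (.L 0 1 0) (.S 8 257 321 (.S 6 (-1011) (-947) (.R 0 (-1) 0) (.S 5 (-63) 65 (.L 0 0 1) (.S 6 (-755) (-691) (.R 0 (-1) 0) (.S 5 129 193 (.L 0 0 1) (.S 6 (-627) (-563) (.R 0 (-1) 0) (.S 5 385 449 (.L 0 0 1) (.S 6 (-563)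 (-499) (.R 0 (-1) 0) (.R 0 1 0)))))))) (.L 0 (-1) 0)))) (.R 0 (-1) 0)) (.S 7 (-180) (-116) (.S 8 (-63) 65 (.L 0 1 0) (.S 8 193 257 (.L 0 1 0) (.S 8 257 321 (.S 6 (-371) (-307) (.S 5 (-63) 65 (.L 0 0 1) (.S 5 129 193 (.L 0 0 1) (.R 0 1 0))) (.R 0 1 0)) (.L 0 (-1) 0)))) (.S 8 (-63) 65 (.L 0 1 0) (.S 8 129 193 (.L 0 1 0) (.S 8 193 257 (.S 6 (-371) (-307) (.R 0 (-1) 0) (.S 5 (-63) 65 (.L 0 0 1) (.R 0 (-1) 0))) (.L 0 (-1) 0))))))) (.S 7 (-244) (-180) (.R 0 1 0) (.S 6 (-179) (-115) (.S 5 (-63) 65 (.L 0 0 1) (.S 5 385 449 (.L 0 0 1) (.S 5 449 513 (.S 7 (-180) (-116) (.R 0 1 0) (.S 8 (-63) 65 (.L 0 1 0) (.R 0 1 0))) (.L 0 0 (-1))))) (.R 0 1 0)))) (.R 0 (-1) 0))) (.R (-1) 0 0)) (.S 6 (-115) (-51) (.S 4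 (-116) (-52) (.S 7 140 204 (.S 6 (-243) (-179) (.S 4 (-244) (-180) (.S 7 76 140 (.S 8 (-63) 65 (.L 0 1 0) (.L 0 (-1) 0)) (.S 8 (-63) 65 (.S 8 (-127) (-63) (.L 0 1 0) (.R 0 (-1) 0)) (.L 0 (-1) 0))) (.S 7 76 140 (.R 0 1 0) (.S 8 (-63) 65 (.S 8 (-127) (-63) (.L 0 1 0) (.S 6 (-499) (-435) (.S 4 (-180) (-116) (.R 0 (-1) 0) (.S 6 (-1011) (-947) (.S 5 (-63) 65 (.L 0 0 1) (.R 0 (-1) 0)) (.S 5 (-63) 65 (.L 0 0 1) (.S 6 (-755) (-691) (.S 5 129 193 (.L 0 0 1) (.S 5 385 449 (.L 0 0 1) (.S 6 (-883) (-819) (.S 5 897 961 (.L 0 0 1) (.S 6 (-947) (-883) (.R 0 (-1) 0) (.S 5 1857 1921 (.L 0 0 1) (.S 5 1921 1985 (.R 0 (-1) 0) (.L 0 0 (-1)))))) (.S 5 897 961 (.L 0 0 1) (.R 0 1 0))))) (.S 5 129 193 (.L 0 0 1) (.R 0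 1 0)))))) (.S 4 (-180) (-116) (.S 6 (-371) (-307) (.R 0 (-1) 0) (.S 5 (-63) 65 (.L 0 0 1) (.S 6 (-307) (-243) (.R 0 (-1) 0) (.S 5 641 705 (.L 0 0 1) (.R 0 1 0))))) (.R 0 1 0)))) (.L 0 (-1) 0)))) (.S 4 (-244) (-180) (.S 7 76 140 (.R 0 1 0) (.S 8 (-63) 65 (.S 8 (-127) (-63) (.L 0 1 0) (.S 4 (-500) (-436) (.S 6 (-179) (-115) (.R 0 (-1) 0) (.S 4 (-1012) (-948) (.S 5 (-63) 65 (.L 0 0 1) (.S 4 (-2036) (-1972) (.S 5 129 193 (.L 0 0 1) (.S 4 (-4084) (-4020) (.S 5 385 449 (.L 0 0 1) (.S 4 (-8180) (-8116) (.S 5 897 961 (.L 0 0 1) (.S 4 (-16372) (-16308) (.R 0 (-1) 0) (.S 5 1921 1985 (.L 0 0 1) (.S 4 (-12276) (-12212) (.R 0 (-1) 0) (.S 4 (-10228) (-10164) (.S 5 3969 4033 (.L 0 0 1) (.S 4 (-11252) (-11188)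 (.R 0 (-1) 0) (.S 5 8065 8129 (.L 0 0 1) (.S 4 (-10740) (-10676) (.S 5 16257 16321 (.R 0 (-1) 0) (.L 0 0 (-1))) (.S 5 16257 16321 (.S 4 (-10484) (-10420) (.R 0 (-1) 0) (.S 5 12161 12225 (.S 5 10113 10177 (.L 0 0 1) (.S 4 (-10356) (-10292) (.R 0 (-1) 0) (.S 5 11137 11201 (.R 0 (-1) 0) (.L 0 0 (-1))))) (.L 0 0 (-1)))) (.L 0 0 (-1))))))) (.S 5 3969 4033 (.L 0 0 1) (.S 4 (-9204) (-9140) (.S 5 8065 8129 (.L 0 0 1) (.S 4 (-9716) (-9652) (.S 5 16257 16321 (.S 4 (-9972) (-9908) (.S 5 12161 12225 (.S 5 10113 10177 (.L 0 0 1) (.R 0 1 0)) (.L 0 0 (-1))) (.R 0 1 0)) (.L 0 0 (-1))) (.R 0 1 0))) (.R 0 1 0)))))))) (.S 5 897 961 (.L 0 0 1) (.S 4 (-6132) (-6068) (.S 5 1921 1985 (.L 0 0 1) (.S 4 (-7156) (-7092)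 (.S 5 3969 4033 (.L 0 0 1) (.R 0 1 0)) (.R 0 1 0))) (.R 0 1 0))))) (.S 5 385 449 (.L 0 0 1) (.R 0 1 0)))) (.S 5 129 193 (.L 0 0 1) (.R 0 1 0)))) (.R 0 1 0))) (.S 6 (-179) (-115) (.S 5 (-63) 65 (.L 0 0 1) (.S 4 (-372) (-308) (.R 0 (-1) 0) (.S 5 129 193 (.L 0 0 1) (.S 4 (-308) (-244) (.R 0 (-1) 0) (.R 0 1 0))))) (.R 0 1 0)))) (.L 0 (-1) 0))) (.R 0 1 0))) (.S 6 (-243) (-179) (.S 4 (-244) (-180) (.R 0 (-1) 0) (.S 7 396 460 (.S 6 (-499) (-435) (.S 4 (-180) (-116) (.R 0 (-1) 0) (.S 7 268 332 (.S 6 (-1011) (-947) (.S 5 (-63) 65 (.L 0 0 1) (.R 0 (-1) 0)) (.S 5 (-63) 65 (.L 0 0 1) (.S 8 (-63) 65 (.R 0 (-1) 0) (.L 0 (-1) 0)))) (.R 0 (-1) 0))) (.S 4 (-180) (-116) (.S 7 268 332 (.S 6 (-371) (-307) (.R 0 (-1)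 0) (.S 5 (-63) 65 (.L 0 0 1) (.S 8 (-63) 65 (.R 0 (-1) 0) (.L 0 (-1) 0)))) (.R 0 (-1) 0)) (.S 7 268 332 (.S 6 (-371) (-307) (.S 5 (-63) 65 (.L 0 0 1) (.S 8 (-63) 65 (.S 7 204 268 (.S 8 (-191) (-127) (.L 0 1 0) (.S 8 (-127) (-63) (.S 5 129 193 (.L 0 0 1) (.S 6 (-435) (-371) (.R 0 (-1) 0) (.S 5 833 897 (.L 0 0 1) (.S 5 897 961 (.R 0 (-1) 0) (.L 0 0 (-1)))))) (.L 0 (-1) 0))) (.R 0 (-1) 0)) (.L 0 (-1) 0))) (.S 5 (-63) 65 (.L 0 0 1) (.S 8 (-63) 65 (.S 7 204 268 (.S 8 (-191) (-127) (.L 0 1 0) (.S 8 (-127) (-63) (.S 6 (-307) (-243) (.S 5 705 769 (.L 0 0 1) (.R 0 1 0)) (.R 0 1 0)) (.L 0 (-1) 0))) (.S 8 (-255) (-191) (.L 0 1 0) (.S 8 (-191) (-127) (.S 6 (-307) (-243) (.R 0 (-1) 0) (.S 5 577 641 (.L 0 0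 1) (.R 0 1 0))) (.L 0 (-1) 0)))) (.L 0 (-1) 0)))) (.S 6 (-371) (-307) (.S 5 (-63) 65 (.L 0 0 1) (.R 0 (-1) 0)) (.S 5 (-63) 65 (.L 0 0 1) (.S 8 (-63) 65 (.S 8 (-127) (-63) (.S 6 (-307) (-243) (.R 0 (-1) 0) (.S 5 577 641 (.L 0 0 1) (.S 5 641 705 (.S 8 (-255) (-191) (.S 7 332 396 (.S 8 (-319) (-255) (.L 0 1 0) (.R 0 (-1) 0)) (.R 0 (-1) 0)) (.L 0 (-1) 0)) (.L 0 0 (-1))))) (.L 0 (-1) 0)) (.L 0 (-1) 0))))))) (.S 6 (-499) (-435) (.R 0 (-1) 0) (.S 4 (-180) (-116) (.R 0 (-1) 0) (.S 7 908 972 (.S 6 (-371) (-307) (.R 0 (-1) 0) (.S 5 (-63) 65 (.L 0 0 1) (.S 8 (-63) 65 (.R 0 (-1) 0) (.L 0 (-1) 0)))) (.S 6 (-371) (-307) (.R 0 (-1) 0) (.S 5 (-63) 65 (.L 0 0 1) (.R 0 (-1) 0)))))))) (.S 4 (-244) (-180) (.S 7 396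 460 (.S 4 (-500) (-436) (.S 6 (-179) (-115) (.R 0 (-1) 0) (.S 7 268 332 (.S 4 (-1012) (-948) (.S 5 (-63) 65 (.L 0 0 1) (.S 8 (-63) 65 (.R 0 (-1) 0) (.L 0 (-1) 0))) (.S 5 (-63) 65 (.L 0 0 1) (.S 8 (-63) 65 (.S 7 204 268 (.S 8 (-191) (-127) (.L 0 1 0) (.S 8 (-127) (-63) (.S 5 129 193 (.L 0 0 1) (.S 4 (-756) (-692) (.R 0 (-1) 0) (.S 4 (-628) (-564) (.R 0 (-1) 0) (.S 5 385 449 (.L 0 0 1) (.S 4 (-564) (-500) (.R 0 (-1) 0) (.R 0 1 0)))))) (.L 0 (-1) 0))) (.R 0 (-1) 0)) (.L 0 (-1) 0)))) (.S 4 (-1012) (-948) (.R 0 (-1) 0) (.S 5 (-63) 65 (.L 0 0 1) (.R 0 (-1) 0))))) (.S 6 (-179) (-115) (.S 7 268 332 (.S 5 (-63) 65 (.L 0 0 1) (.S 8 (-63) 65 (.R 0 (-1) 0) (.L 0 (-1) 0))) (.R 0 (-1) 0)) (.S 7 268 332 (.S 5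 (-63) 65 (.L 0 0 1) (.S 8 (-63) 65 (.S 4 (-372) (-308) (.S 7 204 268 (.S 8 (-191) (-127) (.L 0 1 0) (.S 8 (-127) (-63) (.S 5 129 193 (.L 0 0 1) (.R 0 1 0)) (.L 0 (-1) 0))) (.S 8 (-255) (-191) (.L 0 1 0) (.R 0 (-1) 0))) (.S 7 204 268 (.S 8 (-191) (-127) (.L 0 1 0) (.S 8 (-127) (-63) (.R 0 1 0) (.L 0 (-1) 0))) (.S 8 (-255) (-191) (.L 0 1 0) (.S 8 (-191) (-127) (.S 5 129 193 (.L 0 0 1) (.R 0 1 0)) (.L 0 (-1) 0))))) (.L 0 (-1) 0))) (.S 5 (-63) 65 (.L 0 0 1) (.S 8 (-63) 65 (.S 4 (-372) (-308) (.R 0 (-1) 0) (.S 8 (-127) (-63) (.S 5 129 193 (.L 0 0 1) (.S 4 (-308) (-244) (.S 5 513 577 (.L 0 0 1) (.S 5 577 641 (.R 0 (-1) 0) (.L 0 0 (-1)))) (.S 5 449 513 (.L 0 0 1) (.S 5 513 577 (.S 8 (-255) (-191) (.R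 0 1 0) (.L 0 (-1) 0)) (.L 0 0 (-1)))))) (.L 0 (-1) 0))) (.L 0 (-1) 0)))))) (.S 4 (-500) (-436) (.R 0 (-1) 0) (.S 6 (-179) (-115) (.R 0 (-1) 0) (.S 7 908 972 (.S 5 (-63) 65 (.L 0 0 1) (.S 8 (-63) 65 (.S 4 (-372) (-308) (.R 0 (-1) 0) (.S 7 652 716 (.S 8 (-127) (-63) (.S 5 129 193 (.L 0 0 1) (.S 4 (-308) (-244) (.R 0 (-1) 0) (.S 5 449 513 (.L 0 0 1) (.S 5 513 577 (.R 0 (-1) 0) (.L 0 0 (-1)))))) (.L 0 (-1) 0)) (.R 0 (-1) 0))) (.L 0 (-1) 0))) (.S 5 (-63) 65 (.L 0 0 1) (.R 0 (-1) 0)))))) (.S 7 396 460 (.S 6 (-179) (-115) (.S 4 (-180) (-116) (.S 5 (-63) 65 (.L 0 0 1) (.S 5 513 577 (.L 0 0 1) (.S 5 577 641 (.S 7 268 332 (.S 8 (-63) 65 (.S 7 204 268 (.S 8 (-191) (-127) (.L 0 1 0) (.S 8 (-127) (-63) (.R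 0 1 0) (.L 0 (-1) 0))) (.R 0 (-1) 0)) (.L 0 (-1) 0)) (.R 0 (-1) 0)) (.L 0 0 (-1))))) (.S 5 (-63) 65 (.L 0 0 1) (.S 5 449 513 (.L 0 0 1) (.R 0 1 0)))) (.S 4 (-180) (-116) (.S 5 (-63) 65 (.L 0 0 1) (.S 5 385 449 (.L 0 0 1) (.R 0 1 0))) (.R 0 1 0))) (.S 6 (-179) (-115) (.S 4 (-180) (-116) (.R 0 (-1) 0) (.S 5 (-63) 65 (.L 0 0 1) (.S 5 449 513 (.L 0 0 1) (.S 5 513 577 (.S 7 908 972 (.S 8 (-63) 65 (.S 7 652 716 (.S 8 (-127) (-63) (.S 7 524 588 (.R 0 1 0) (.S 8 (-255) (-191) (.R 0 1 0) (.L 0 (-1) 0))) (.L 0 (-1) 0)) (.S 8 (-127) (-63) (.S 8 (-255) (-191) (.S 7 780 844 (.S 8 (-511) (-447) (.S 8 (-1023) (-959) (.L 0 1 0) (.S 7 716 780 (.R 0 1 0) (.R 0 (-1) 0))) (.L 0 (-1) 0)) (.R 0 (-1) 0)) (.L 0 (-1) 0))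 (.L 0 (-1) 0))) (.L 0 (-1) 0)) (.S 8 (-63) 65 (.R 0 (-1) 0) (.L 0 (-1) 0))) (.L 0 0 (-1)))))) (.S 4 (-180) (-116) (.S 5 (-63) 65 (.L 0 0 1) (.S 5 385 449 (.L 0 0 1) (.S 5 449 513 (.S 7 908 972 (.S 8 (-63) 65 (.S 7 652 716 (.S 8 (-127) (-63) (.R 0 1 0) (.L 0 (-1) 0)) (.S 8 (-127) (-63) (.S 8 (-255) (-191) (.R 0 1 0) (.L 0 (-1) 0)) (.L 0 (-1) 0))) (.L 0 (-1) 0)) (.S 8 (-63) 65 (.S 7 1932 1996 (.S 8 (-127) (-63) (.S 7 1420 1484 (.S 8 (-255) (-191) (.S 7 1164 1228 (.S 8 (-511) (-447) (.S 7 1036 1100 (.R 0 1 0) (.S 8 (-1023) (-959) (.S 8 (-2047) (-1983) (.L 0 1 0) (.S 7 1100 1164 (.R 0 1 0) (.S 8 (-1151) (-1087) (.L 0 1 0) (.R 0 (-1) 0)))) (.L 0 (-1) 0))) (.L 0 (-1) 0)) (.R 0 (-1) 0)) (.L 0 (-1) 0))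 (.R 0 (-1) 0)) (.L 0 (-1) 0)) (.R 0 (-1) 0)) (.L 0 (-1) 0))) (.L 0 0 (-1))))) (.R 0 1 0))))))) (.R 0 1 0)) (.R 0 1 0))) (.S 7 (-52) 76 (.R (-2) (-1) 0) (.S 6 (-115) (-51) (.S 4 140 204 (.S 7 140 204 (.S 6 (-243) (-179) (.R 0 (-1) 0) (.S 4 76 140 (.R 0 (-1) 0) (.S 7 76 140 (.S 8 (-63) 65 (.L 0 1 0) (.L 0 (-1) 0)) (.R 0 (-1) 0)))) (.R 0 (-1) 0)) (.S 7 140 204 (.S 6 (-243) (-179) (.S 7 76 140 (.S 8 (-63) 65 (.L 0 1 0) (.L 0 (-1) 0)) (.R 0 (-1) 0)) (.S 7 76 140 (.S 8 (-63) 65 (.L 0 1 0) (.L 0 (-1) 0)) (.S 8 (-63) 65 (.S 8 (-127) (-63) (.L 0 1 0) (.S 4 396 460 (.R 0 (-1) 0) (.S 6 (-179) (-115) (.R 0 (-1) 0) (.S 4 908 972 (.R 0 (-1) 0) (.S 5 (-63) 65 (.S 4 1932 1996 (.S 5 (-127) (-63) (.R 0 (-1) 0) (.L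 0 0 (-1))) (.S 5 (-127) (-63) (.S 4 3980 4044 (.S 5 (-255) (-191) (.R 0 (-1) 0) (.L 0 0 (-1))) (.S 5 (-255) (-191) (.S 4 8076 8140 (.S 5 (-511) (-447) (.R 0 (-1) 0) (.L 0 0 (-1))) (.S 5 (-511) (-447) (.S 4 16268 16332 (.R 0 (-1) 0) (.S 5 (-1023) (-959) (.R 0 (-1) 0) (.L 0 0 (-1)))) (.L 0 0 (-1)))) (.L 0 0 (-1)))) (.L 0 0 (-1)))) (.L 0 0 (-1))))))) (.L 0 (-1) 0)))) (.S 6 (-243) (-179) (.R 0 (-1) 0) (.S 4 396 460 (.R 0 (-1) 0) (.S 7 396 460 (.S 6 (-179) (-115) (.R 0 (-1) 0) (.S 7 268 332 (.S 4 908 972 (.R 0 (-1) 0) (.S 5 (-63) 65 (.S 8 (-63) 65 (.R 0 (-1) 0) (.L 0 (-1) 0)) (.L 0 0 (-1)))) (.R 0 (-1) 0))) (.R 0 (-1) 0)))))) (.R (-1) 0 0)))) (.S 6 13 77 (.R 0 (-1) 0) (.S 4 (-52) 76 (.S 7 (-52) 76 (.S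 4 (-116) (-52) (.R 0 (-1) 0) (.S 7 (-116) (-52) (.S 6 141 205 (.R 0 (-1) 0) (.S 7 (-244) (-180) (.S 6 397 461 (.S 7 (-500) (-436) (.S 6 269 333 (.S 7 (-1012) (-948) (.S 5 (-63) 65 (.S 8 (-63) 65 (.L 0 1 0) (.S 6 205 269 (.R 0 (-1) 0) (.S 5 (-511) (-447) (.L 0 0 1) (.S 5 (-447) (-383) (.S 7 (-2036) (-1972) (.S 8 129 193 (.L 0 1 0) (.R 0 (-1) 0)) (.R 0 (-1) 0)) (.L 0 0 (-1)))))) (.L 0 0 (-1))) (.R 0 (-1) 0)) (.S 7 (-1012) (-948) (.S 5 (-63) 65 (.S 8 (-63) 65 (.L 0 1 0) (.S 5 (-127) (-63) (.S 7 (-2036) (-1972) (.S 8 129 193 (.L 0 1 0) (.S 6 333 397 (.S 5 (-639) (-575) (.L 0 0 1) (.S 5 (-575) (-511) (.S 7 (-4084) (-4020) (.S 8 385 449 (.L 0 1 0) (.S 7 (-8180) (-8116) (.S 8 897 961 (.L 0 1 0) (.S 7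 (-16372) (-16308) (.S 8 1921 1985 (.L 0 1 0) (.R 0 (-1) 0)) (.R 0 (-1) 0))) (.R 0 (-1) 0))) (.S 8 385 449 (.L 0 1 0) (.R 0 (-1) 0))) (.L 0 0 (-1)))) (.S 5 (-767) (-703) (.L 0 0 1) (.S 5 (-703) (-639) (.S 7 (-4084) (-4020) (.R 0 1 0) (.S 8 385 449 (.L 0 1 0) (.S 7 (-3060) (-2996) (.R 0 1 0) (.S 7 (-2548) (-2484) (.R 0 1 0) (.S 8 897 961 (.L 0 1 0) (.S 7 (-2292) (-2228) (.R 0 1 0) (.S 8 1921 1985 (.L 0 1 0) (.S 7 (-2164) (-2100) (.S 8 3969 4033 (.R 0 1 0) (.L 0 (-1) 0)) (.S 8 3969 4033 (.S 8 2945 3009 (.S 7 (-2100) (-2036) (.R 0 1 0) (.S 8 2049 2113 (.L 0 1 0) (.R 0 (-1) 0))) (.L 0 (-1) 0)) (.L 0 (-1) 0)))))))))) (.L 0 0 (-1)))))) (.S 8 129 193 (.L 0 1 0) (.S 6 333 397 (.S 5 (-639) (-575) (.L 0 0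 1) (.S 5 (-575) (-511) (.R 0 (-1) 0) (.L 0 0 (-1)))) (.S 5 (-767) (-703) (.L 0 0 1) (.S 5 (-703) (-639) (.S 7 (-1524) (-1460) (.S 8 385 449 (.L 0 1 0) (.S 7 (-1780) (-1716) (.S 8 897 961 (.L 0 1 0) (.S 8 1921 1985 (.S 7 (-1908) (-1844) (.L 0 1 0) (.R 0 (-1) 0)) (.R 0 (-1) 0))) (.S 8 897 961 (.L 0 1 0) (.R 0 (-1) 0)))) (.S 8 385 449 (.L 0 1 0) (.R 0 (-1) 0))) (.L 0 0 (-1))))))) (.L 0 0 (-1)))) (.L 0 0 (-1))) (.S 5 (-63) 65 (.S 8 (-63) 65 (.L 0 1 0) (.S 5 (-127) (-63) (.S 8 129 193 (.L 0 1 0) (.S 7 (-756) (-692) (.S 6 333 397 (.R 0 (-1) 0) (.S 5 (-767) (-703) (.L 0 0 1) (.S 5 (-703) (-639) (.R 0 (-1) 0) (.L 0 0 (-1))))) (.R 0 (-1) 0))) (.L 0 0 (-1)))) (.L 0 0 (-1))))) (.S 6 269 333 (.R 0 (-1) 0)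 (.S 5 (-63) 65 (.S 8 (-63) 65 (.L 0 1 0) (.S 7 (-372) (-308) (.S 5 (-127) (-63) (.R 0 (-1) 0) (.L 0 0 (-1))) (.R 0 (-1) 0))) (.L 0 0 (-1))))) (.S 7 (-500) (-436) (.S 6 909 973 (.S 7 (-1012) (-948) (.S 5 (-63) 65 (.S 8 (-63) 65 (.L 0 1 0) (.S 6 653 717 (.S 5 (-127) (-63) (.S 7 (-2036) (-1972) (.R 0 1 0) (.S 8 129 193 (.L 0 1 0) (.S 6 525 589 (.S 5 (-255) (-191) (.S 7 (-1524) (-1460) (.R 0 1 0) (.S 8 385 449 (.L 0 1 0) (.S 7 (-1268) (-1204) (.S 6 461 525 (.S 5 (-895) (-831) (.L 0 0 1) (.R 0 1 0)) (.R 0 1 0)) (.S 6 461 525 (.S 5 (-895) (-831) (.L 0 0 1) (.S 5 (-831) (-767) (.S 7 (-1140) (-1076) (.S 8 897 961 (.L 0 1 0) (.S 8 1921 1985 (.S 7 (-1204) (-1140) (.R 0 1 0) (.S 8 1153 1217 (.L 0 1 0) (.S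 8 1217 1281 (.R 0 1 0) (.L 0 (-1) 0)))) (.L 0 (-1) 0))) (.S 8 897 961 (.L 0 1 0) (.R 0 (-1) 0))) (.L 0 0 (-1)))) (.R 0 1 0))))) (.L 0 0 (-1))) (.R 0 1 0)))) (.L 0 0 (-1))) (.R 0 1 0))) (.L 0 0 (-1))) (.S 5 (-63) 65 (.S 8 (-63) 65 (.L 0 1 0) (.S 6 653 717 (.S 5 (-127) (-63) (.S 8 129 193 (.L 0 1 0) (.S 7 (-756) (-692) (.S 6 525 589 (.S 5 (-255) (-191) (.S 8 385 449 (.L 0 1 0) (.S 6 461 525 (.S 5 (-895) (-831) (.L 0 0 1) (.S 5 (-831) (-767) (.R 0 (-1) 0) (.L 0 0 (-1)))) (.S 5 (-1023) (-959) (.L 0 0 1) (.S 5 (-959) (-895) (.S 7 (-884) (-820) (.S 8 897 961 (.L 0 1 0) (.S 7 (-948) (-884) (.R 0 1 0) (.S 8 961 1025 (.R 0 1 0) (.L 0 (-1) 0)))) (.S 8 897 961 (.S 7 (-820) (-756) (.S 8 833 897 (.L 0 1 0)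 (.R 0 (-1) 0)) (.R 0 (-1) 0)) (.L 0 (-1) 0))) (.L 0 0 (-1)))))) (.L 0 0 (-1))) (.S 5 (-255) (-191) (.S 8 385 449 (.L 0 1 0) (.S 7 (-884) (-820) (.R 0 1 0) (.S 5 (-511) (-447) (.S 6 589 653 (.S 5 (-1151) (-1087) (.L 0 0 1) (.R 0 1 0)) (.R 0 1 0)) (.L 0 0 (-1))))) (.L 0 0 (-1)))) (.S 6 525 589 (.S 7 (-628) (-564) (.S 5 (-255) (-191) (.S 8 385 449 (.L 0 1 0) (.S 6 461 525 (.R 0 (-1) 0) (.S 5 (-1023) (-959) (.L 0 0 1) (.S 5 (-959) (-895) (.R 0 (-1) 0) (.L 0 0 (-1)))))) (.L 0 0 (-1))) (.S 5 (-255) (-191) (.R 0 (-1) 0) (.L 0 0 (-1)))) (.S 7 (-628) (-564) (.S 5 (-255) (-191) (.S 8 385 449 (.L 0 1 0) (.S 5 (-511) (-447) (.S 6 589 653 (.S 5 (-1151) (-1087) (.L 0 0 1) (.S 5 (-1087) (-1023) (.S 7 (-692) (-628)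 (.S 8 705 769 (.L 0 1 0) (.R 0 (-1) 0)) (.R 0 (-1) 0)) (.L 0 0 (-1)))) (.S 5 (-1279) (-1215) (.L 0 0 1) (.S 5 (-1215) (-1151) (.S 7 (-692) (-628) (.R 0 1 0) (.S 8 641 705 (.L 0 1 0) (.S 8 705 769 (.R 0 1 0) (.L 0 (-1) 0)))) (.L 0 0 (-1))))) (.L 0 0 (-1)))) (.L 0 0 (-1))) (.S 5 (-255) (-191) (.S 8 385 449 (.L 0 1 0) (.S 5 (-511) (-447) (.R 0 (-1) 0) (.L 0 0 (-1)))) (.L 0 0 (-1))))))) (.L 0 0 (-1))) (.S 5 (-127) (-63) (.S 8 129 193 (.L 0 1 0) (.S 7 (-756) (-692) (.R 0 1 0) (.S 7 (-628) (-564) (.R 0 1 0) (.S 5 (-255) (-191) (.S 6 781 845 (.S 8 385 449 (.L 0 1 0) (.S 5 (-511) (-447) (.S 7 (-564) (-500) (.S 8 577 641 (.L 0 1 0) (.S 8 641 705 (.S 6 717 781 (.S 5 (-1407) (-1343) (.L 0 0 1) (.R 0 1 0))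 (.R 0 1 0)) (.L 0 (-1) 0))) (.S 8 513 577 (.L 0 1 0) (.R 0 (-1) 0))) (.L 0 0 (-1)))) (.S 8 385 449 (.L 0 1 0) (.S 5 (-511) (-447) (.S 7 (-564) (-500) (.R 0 1 0) (.S 8 513 577 (.L 0 1 0) (.S 8 577 641 (.S 5 (-1023) (-959) (.S 6 845 909 (.S 5 (-1663) (-1599) (.L 0 0 1) (.R 0 1 0)) (.R 0 1 0)) (.L 0 0 (-1))) (.L 0 (-1) 0)))) (.L 0 0 (-1))))) (.L 0 0 (-1)))))) (.L 0 0 (-1))))) (.L 0 0 (-1)))) (.S 7 (-1012) (-948) (.S 5 (-63) 65 (.R 0 1 0) (.L 0 0 (-1))) (.S 5 (-63) 65 (.S 8 (-63) 65 (.L 0 1 0) (.R 0 1 0)) (.L 0 0 (-1))))) (.S 6 909 973 (.S 5 (-63) 65 (.S 8 (-63) 65 (.L 0 1 0) (.S 7 (-372) (-308) (.S 6 653 717 (.S 5 (-127) (-63) (.S 8 129 193 (.L 0 1 0) (.S 6 525 589 (.R 0 (-1) 0) (.S 5 (-255) (-191)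 (.R 0 (-1) 0) (.L 0 0 (-1))))) (.L 0 0 (-1))) (.S 5 (-127) (-63) (.S 8 129 193 (.L 0 1 0) (.S 5 (-255) (-191) (.S 7 (-436) (-372) (.S 8 449 513 (.L 0 1 0) (.S 8 513 577 (.S 6 781 845 (.R 0 (-1) 0) (.S 5 (-511) (-447) (.R 0 (-1) 0) (.L 0 0 (-1)))) (.L 0 (-1) 0))) (.R 0 (-1) 0)) (.L 0 0 (-1)))) (.L 0 0 (-1)))) (.S 6 653 717 (.S 5 (-127) (-63) (.R 0 (-1) 0) (.L 0 0 (-1))) (.S 5 (-127) (-63) (.S 8 129 193 (.L 0 1 0) (.R 0 (-1) 0)) (.L 0 0 (-1)))))) (.L 0 0 (-1))) (.S 5 (-63) 65 (.S 8 (-63) 65 (.L 0 1 0) (.S 7 (-372) (-308) (.S 6 1933 1997 (.S 5 (-127) (-63) (.S 8 129 193 (.L 0 1 0) (.S 6 1421 1485 (.S 5 (-255) (-191) (.S 7 (-436) (-372) (.S 8 449 513 (.L 0 1 0) (.S 8 513 577 (.S 6 1165 1229 (.S 5 (-511)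 (-447) (.S 6 1037 1101 (.S 5 (-1023) (-959) (.S 6 973 1037 (.R 0 (-1) 0) (.S 5 (-2047) (-1983) (.L 0 0 1) (.S 5 (-1983) (-1919) (.R 0 (-1) 0) (.L 0 0 (-1))))) (.L 0 0 (-1))) (.R 0 1 0)) (.L 0 0 (-1))) (.R 0 1 0)) (.L 0 (-1) 0))) (.S 8 385 449 (.L 0 1 0) (.S 8 449 513 (.S 6 1165 1229 (.R 0 (-1) 0) (.S 5 (-511) (-447) (.R 0 (-1) 0) (.L 0 0 (-1)))) (.L 0 (-1) 0)))) (.L 0 0 (-1))) (.S 5 (-255) (-191) (.S 7 (-436) (-372) (.R 0 1 0) (.S 8 385 449 (.L 0 1 0) (.S 8 449 513 (.S 5 (-511) (-447) (.S 6 1677 1741 (.S 5 (-1023) (-959) (.S 6 1549 1613 (.R 0 (-1) 0) (.S 5 (-2047) (-1983) (.S 5 (-4095) (-4031) (.L 0 0 1) (.S 6 1613 1677 (.R 0 (-1) 0) (.R 0 1 0))) (.L 0 0 (-1)))) (.L 0 0 (-1))) (.R 0 1 0)) (.L 0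 0 (-1))) (.L 0 (-1) 0)))) (.L 0 0 (-1))))) (.L 0 0 (-1))) (.S 5 (-127) (-63) (.S 8 129 193 (.L 0 1 0) (.S 6 3981 4045 (.S 5 (-255) (-191) (.S 7 (-436) (-372) (.R 0 1 0) (.S 8 385 449 (.L 0 1 0) (.S 8 449 513 (.R 0 1 0) (.L 0 (-1) 0)))) (.L 0 0 (-1))) (.R 0 1 0))) (.L 0 0 (-1)))) (.S 6 1933 1997 (.S 5 (-127) (-63) (.S 8 129 193 (.L 0 1 0) (.S 7 (-308) (-244) (.S 8 321 385 (.L 0 1 0) (.S 8 385 449 (.S 6 1421 1485 (.R 0 (-1) 0) (.S 5 (-255) (-191) (.R 0 (-1) 0) (.L 0 0 (-1)))) (.L 0 (-1) 0))) (.R 0 (-1) 0))) (.L 0 0 (-1))) (.S 5 (-127) (-63) (.S 8 129 193 (.L 0 1 0) (.S 7 (-308) (-244) (.S 8 321 385 (.L 0 1 0) (.S 8 385 449 (.S 6 3981 4045 (.S 5 (-255) (-191) (.S 6 2957 3021 (.R 0 (-1) 0) (.S 5 (-511)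 (-447) (.R 0 (-1) 0) (.L 0 0 (-1)))) (.L 0 0 (-1))) (.S 5 (-255) (-191) (.S 6 8077 8141 (.S 5 (-511) (-447) (.S 6 6029 6093 (.S 5 (-1023) (-959) (.R 0 (-1) 0) (.L 0 0 (-1))) (.S 5 (-1023) (-959) (.S 5 (-2047) (-1983) (.S 6 7053 7117 (.R 0 (-1) 0) (.S 5 (-4095) (-4031) (.R 0 (-1) 0) (.L 0 0 (-1)))) (.L 0 0 (-1))) (.L 0 0 (-1)))) (.L 0 0 (-1))) (.S 5 (-511) (-447) (.S 6 16269 16333 (.S 5 (-1023) (-959) (.S 6 12173 12237 (.S 5 (-2047) (-1983) (.S 6 10125 10189 (.S 5 (-4095) (-4031) (.S 6 9101 9165 (.S 5 (-8191) (-8127) (.S 6 8589 8653 (.R 0 (-1) 0) (.S 5 (-16383) (-16319) (.S 6 8845 8909 (.R 0 (-1) 0) (.S 5 (-32767) (-32703) (.L 0 0 1) (.S 6 8973 9037 (.R 0 (-1) 0) (.S 5 (-24575) (-24511) (.L 0 0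 1) (.S 5 (-20479) (-20415) (.L 0 0 1) (.S 6 9037 9101 (.S 5 (-18047) (-17983) (.L 0 0 1) (.S 5 (-17983) (-17919) (.R 0 (-1) 0) (.L 0 0 (-1)))) (.R 0 1 0))))))) (.L 0 0 (-1)))) (.L 0 0 (-1))) (.S 5 (-8191) (-8127) (.S 6 9613 9677 (.S 5 (-16383) (-16319) (.S 6 9357 9421 (.S 5 (-32767) (-32703) (.L 0 0 1) (.S 6 9229 9293 (.S 5 (-24575) (-24511) (.L 0 0 1) (.R 0 1 0)) (.R 0 1 0))) (.R 0 1 0)) (.L 0 0 (-1))) (.R 0 1 0)) (.L 0 0 (-1)))) (.L 0 0 (-1))) (.R 0 1 0)) (.L 0 0 (-1))) (.R 0 1 0)) (.L 0 0 (-1))) (.R 0 1 0)) (.L 0 0 (-1)))) (.L 0 0 (-1)))) (.L 0 (-1) 0))) (.R 0 (-1) 0))) (.L 0 0 (-1)))))) (.L 0 0 (-1)))))) (.R 0 (-1) 0))) (.R 0 (-1) 0))) (.S 4 (-116) (-52) (.S 6 141 205 (.R 0 (-1) 0) (.S 7 140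 204 (.S 4 (-244) (-180) (.S 7 76 140 (.S 8 (-63) 65 (.L 0 1 0) (.L 0 (-1) 0)) (.R 0 (-1) 0)) (.S 7 76 140 (.S 8 (-63) 65 (.L 0 1 0) (.L 0 (-1) 0)) (.S 8 (-63) 65 (.S 8 (-127) (-63) (.L 0 1 0) (.R 0 (-1) 0)) (.L 0 (-1) 0)))) (.R 0 (-1) 0))) (.S 6 141 205 (.S 7 140 204 (.S 6 77 141 (.S 5 (-63) 65 (.S 5 (-127) (-63) (.L 0 0 1) (.S 7 76 140 (.R 0 1 0) (.R 0 (-1) 0))) (.L 0 0 (-1))) (.R 0 1 0)) (.S 6 77 141 (.R 0 (-1) 0) (.S 5 (-63) 65 (.S 5 (-255) (-191) (.L 0 0 1) (.S 5 (-191) (-127) (.S 7 396 460 (.S 7 268 332 (.S 8 (-63) 65 (.S 7 204 268 (.S 8 (-191) (-127) (.L 0 1 0) (.R 0 (-1) 0)) (.R 0 (-1) 0)) (.L 0 (-1) 0)) (.R 0 (-1) 0)) (.R 0 (-1) 0)) (.L 0 0 (-1)))) (.L 0 0 (-1))))) (.S 7 140 204 (.R 0 1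 0) (.S 6 397 461 (.S 7 396 460 (.S 6 269 333 (.S 7 268 332 (.S 5 (-63) 65 (.R 0 1 0) (.L 0 0 (-1))) (.S 5 (-63) 65 (.S 8 (-63) 65 (.S 6 205 269 (.S 5 (-383) (-319) (.L 0 0 1) (.S 5 (-319) (-255) (.S 8 (-127) (-63) (.S 8 (-255) (-191) (.R 0 1 0) (.L 0 (-1) 0)) (.L 0 (-1) 0)) (.L 0 0 (-1)))) (.R 0 1 0)) (.L 0 (-1) 0)) (.L 0 0 (-1)))) (.R 0 1 0)) (.S 6 269 333 (.S 7 908 972 (.S 5 (-63) 65 (.S 8 (-63) 65 (.S 6 205 269 (.S 5 (-383) (-319) (.L 0 0 1) (.S 5 (-319) (-255) (.S 7 652 716 (.S 8 (-127) (-63) (.S 7 524 588 (.S 8 (-255) (-191) (.S 7 460 524 (.S 8 (-447) (-383) (.L 0 1 0) (.R 0 (-1) 0)) (.R 0 (-1) 0)) (.L 0 (-1) 0)) (.R 0 (-1) 0)) (.L 0 (-1) 0)) (.R 0 (-1) 0)) (.L 0 0 (-1)))) (.S 5 (-511) (-447)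 (.L 0 0 1) (.S 5 (-447) (-383) (.S 7 652 716 (.S 8 (-127) (-63) (.R 0 1 0) (.L 0 (-1) 0)) (.S 8 (-127) (-63) (.S 8 (-255) (-191) (.R 0 1 0) (.L 0 (-1) 0)) (.L 0 (-1) 0))) (.L 0 0 (-1))))) (.L 0 (-1) 0)) (.L 0 0 (-1))) (.S 5 (-63) 65 (.S 8 (-63) 65 (.S 6 205 269 (.R 0 (-1) 0) (.S 5 (-511) (-447) (.L 0 0 1) (.S 5 (-447) (-383) (.S 7 1932 1996 (.S 8 (-127) (-63) (.S 7 1420 1484 (.S 8 (-255) (-191) (.S 7 1164 1228 (.S 8 (-511) (-447) (.S 7 1036 1100 (.R 0 1 0) (.S 8 (-1023) (-959) (.S 8 (-2047) (-1983) (.L 0 1 0) (.S 7 1100 1164 (.R 0 1 0) (.R 0 (-1) 0))) (.L 0 (-1) 0))) (.L 0 (-1) 0)) (.R 0 (-1) 0)) (.L 0 (-1) 0)) (.R 0 (-1) 0)) (.L 0 (-1) 0)) (.R 0 (-1) 0)) (.L 0 0 (-1))))) (.L 0 (-1) 0)) (.L 0 0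 (-1)))) (.S 7 908 972 (.S 5 (-63) 65 (.S 8 (-63) 65 (.S 7 652 716 (.R 0 1 0) (.S 5 (-127) (-63) (.S 8 (-127) (-63) (.R 0 1 0) (.L 0 (-1) 0)) (.L 0 0 (-1)))) (.L 0 (-1) 0)) (.L 0 0 (-1))) (.S 5 (-63) 65 (.S 8 (-63) 65 (.S 7 1932 1996 (.S 5 (-127) (-63) (.S 8 (-127) (-63) (.S 6 333 397 (.S 5 (-639) (-575) (.L 0 0 1) (.S 5 (-575) (-511) (.S 7 1420 1484 (.R 0 1 0) (.S 8 (-255) (-191) (.R 0 1 0) (.L 0 (-1) 0))) (.L 0 0 (-1)))) (.R 0 1 0)) (.L 0 (-1) 0)) (.L 0 0 (-1))) (.S 5 (-127) (-63) (.S 8 (-127) (-63) (.S 6 333 397 (.S 5 (-639) (-575) (.L 0 0 1) (.S 5 (-575) (-511) (.S 7 3980 4044 (.S 8 (-255) (-191) (.S 7 2956 3020 (.R 0 1 0) (.S 8 (-511) (-447) (.R 0 1 0) (.L 0 (-1) 0))) (.L 0 (-1) 0)) (.S 8 (-255)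 (-191) (.S 7 8076 8140 (.S 8 (-511) (-447) (.S 7 6028 6092 (.S 8 (-1023) (-959) (.R 0 1 0) (.L 0 (-1) 0)) (.S 8 (-1023) (-959) (.S 8 (-2047) (-1983) (.R 0 1 0) (.L 0 (-1) 0)) (.L 0 (-1) 0))) (.L 0 (-1) 0)) (.S 8 (-511) (-447) (.S 7 16268 16332 (.S 8 (-1023) (-959) (.S 7 12172 12236 (.S 8 (-2047) (-1983) (.S 7 10124 10188 (.R 0 1 0) (.S 8 (-4095) (-4031) (.R 0 1 0) (.L 0 (-1) 0))) (.L 0 (-1) 0)) (.S 8 (-2047) (-1983) (.S 8 (-4095) (-4031) (.S 7 14220 14284 (.S 8 (-8191) (-8127) (.S 7 13196 13260 (.R 0 1 0) (.S 8 (-16383) (-16319) (.L 0 1 0) (.S 7 13708 13772 (.R 0 1 0) (.S 8 (-12287) (-12223) (.R 0 1 0) (.L 0 (-1) 0))))) (.L 0 (-1) 0)) (.S 8 (-8191) (-8127) (.S 7 15244 15308 (.S 8 (-16383) (-16319)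 (.L 0 1 0) (.S 7 14732 14796 (.S 8 (-12287) (-12223) (.S 7 14476 14540 (.S 8 (-14335) (-14271) (.R 0 1 0) (.S 7 14348 14412 (.R 0 1 0) (.L 0 (-1) 0))) (.S 8 (-14335) (-14271) (.S 7 14604 14668 (.S 8 (-15359) (-15295) (.L 0 1 0) (.S 7 14540 14604 (.S 8 (-14527) (-14463) (.L 0 1 0) (.R 0 (-1) 0)) (.R 0 (-1) 0))) (.R 0 (-1) 0)) (.L 0 (-1) 0))) (.L 0 (-1) 0)) (.R 0 (-1) 0))) (.S 8 (-16383) (-16319) (.L 0 1 0) (.R 0 (-1) 0))) (.L 0 (-1) 0))) (.L 0 (-1) 0)) (.L 0 (-1) 0))) (.L 0 (-1) 0)) (.R 0 (-1) 0)) (.L 0 (-1) 0))) (.L 0 (-1) 0))) (.L 0 0 (-1)))) (.S 5 (-767) (-703) (.L 0 0 1) (.S 5 (-703) (-639) (.S 7 3980 4044 (.R 0 1 0) (.S 8 (-255) (-191) (.R 0 1 0) (.L 0 (-1) 0))) (.L 0 0 (-1))))) (.L 0 (-1)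 0)) (.L 0 0 (-1)))) (.L 0 (-1) 0)) (.L 0 0 (-1)))))) (.S 7 396 460 (.R 0 1 0) (.S 6 909 973 (.S 7 908 972 (.S 5 (-63) 65 (.R 0 1 0) (.L 0 0 (-1))) (.S 5 (-63) 65 (.S 8 (-63) 65 (.S 6 653 717 (.S 7 1932 1996 (.R 0 1 0) (.S 5 (-127) (-63) (.S 8 (-127) (-63) (.R 0 1 0) (.L 0 (-1) 0)) (.L 0 0 (-1)))) (.R 0 1 0)) (.L 0 (-1) 0)) (.L 0 0 (-1)))) (.R 0 1 0)))))))) (.R 0 (-1) 0))))) (.R 0 0 1)))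

def s16 : List Ty × Tr := ([⟨1, 2, 0, 0, 0, 0⟩, ⟨4, 0, 0, 1, 1, 1⟩, ⟨4, 1, 0, 1, 1, 1⟩, ⟨4, 1, 0, 2, 0, 2⟩, ⟨1, 0, 1, 0, 0, 0⟩, ⟨1, 1, 1, 0, 0, 0⟩, ⟨2, 1, 1, 2, 4, 0⟩],
  (.S 6 (-39) 25 (.S 6 (-103) (-39) (.S 0 (-150) 42 (.S 3 (-51) 13 (.S 6 (-167) (-103) (.R 0 0 1) (.S 1 (-52) 76 (.R 0 1 0) (.S 4 (-52) 76 (.S 0 (-278) (-214) (.S 3 (-115) (-51) (.S 4 (-116) (-52) (.R 0 1 0) (.S 5 (-63) 65 (.L 0 1 0) (.S 5 193 257 (.L 0 1 0) (.S 5 257 321 (.S 0 (-470) (-406) (.S 1 76 140 (.S 3 (-179) (-115) (.S 0 (-726) (-662) (.S 3 (-307) (-243) (.S 0 (-1110) (-1046) (.S 3 (-499) (-435) (.S 0 (-1686) (-1622) (.S 2 (-63) 65 (.L 0 0 1) (.S 3 (-755) (-691) (.S 0 (-2582) (-2518) (.R 1 1 0) (.S 3 (-1139) (-1075) (.S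 2 65 129 (.L 0 0 1) (.R 0 1 0)) (.R 0 1 0))) (.L 1 (-1) (-1)))) (.R (-1) 0 0)) (.L 1 (-1) (-1))) (.R (-1) 0 0)) (.L 1 (-1) (-1))) (.R (-1) 0 0)) (.L 1 (-1) (-1))) (.R 0 1 0)) (.R (-1) 0 0)) (.L 0 (-1) 0))))) (.R 0 1 0)) (.R (-1) 0 0)) (.R 0 0 1)))) (.S 3 13 77 (.R 0 (-1) 1) (.S 6 (-167) (-103) (.R 0 0 1) (.S 1 (-52) 76 (.S 4 (-52) 76 (.S 0 (-278) (-214) (.S 1 (-116) (-52) (.S 4 (-116) (-52) (.R 0 1 0) (.S 5 (-63) 65 (.L 0 1 0) (.S 5 193 257 (.L 0 1 0) (.S 5 257 321 (.S 3 77 141 (.S 0 (-470) (-406) (.R 1 0 0) (.S 1 (-180) (-116) (.L (-1) (-1) 1) (.R 0 1 0))) (.R 0 1 0)) (.L 0 (-1) 0))))) (.R 0 1 0)) (.R (-1) 0 0)) (.R 0 0 1)) (.S 4 (-52) 76 (.S 0 (-278) (-214) (.S 4 (-116) (-52) (.S 3 77 141 (.S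 0 (-470) (-406) (.R 1 0 0) (.S 1 76 140 (.S 2 (-63) 65 (.S 2 (-191) (-127) (.L 0 0 1) (.S 2 (-127) (-63) (.S 4 (-180) (-116) (.R (-3) 1 0) (.L 1 (-1) 0)) (.L 0 0 (-1)))) (.L 0 0 (-1))) (.R 0 1 0))) (.R 0 1 0)) (.L 1 (-1) (-1))) (.R (-1) 0 0)) (.L 1 (-1) (-1))))))) (.S 3 (-51) 13 (.S 0 42 106 (.R 1 0 0) (.S 6 (-167) (-103) (.R 0 0 1) (.S 0 106 170 (.R 1 0 0) (.S 1 (-52) 76 (.R 0 1 0) (.S 4 (-52) 76 (.S 0 234 298 (.R 1 0 0) (.S 3 (-115) (-51) (.S 4 (-116) (-52) (.R 0 1 0) (.S 5 (-63) 65 (.L 0 1 0) (.R 1 1 0))) (.R 0 1 0))) (.R 0 0 1)))))) (.S 0 42 106 (.R 1 0 0) (.S 3 13 77 (.R 0 (-1) 1) (.S 6 (-167) (-103) (.R 0 0 1) (.S 0 106 170 (.R 1 0 0) (.S 1 (-52) 76 (.R 1 1 0) (.S 4 (-52) 76 (.S 0 234 298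 (.R 1 0 0) (.S 4 (-116) (-52) (.R 1 1 0) (.S 5 (-63) 65 (.L 0 1 0) (.R 2 1 0)))) (.R 0 0 1))))))))) (.S 0 (-150) 42 (.R (-2) (-1) 0) (.S 3 (-51) 13 (.S 0 42 106 (.R 1 0 0) (.S 0 106 170 (.S 1 (-52) 76 (.S 4 (-52) 76 (.L (-1) 1 1) (.S 3 (-115) (-51) (.S 1 (-116) (-52) (.S 4 76 140 (.L (-1) 1 1) (.S 3 (-179) (-115) (.R 1 0 0) (.S 1 (-180) (-116) (.S 4 204 268 (.L (-1) 1 1) (.S 1 (-308) (-244) (.S 4 396 460 (.L (-1) 1 1) (.S 1 (-500) (-436) (.R 0 (-1) 0) (.S 2 (-63) 65 (.L 0 0 1) (.R 1 0 0)))) (.S 4 396 460 (.L (-1) 1 1) (.S 2 (-63) 65 (.L 0 0 1) (.R 1 0 0))))) (.R 0 1 0)))) (.R 0 1 0)) (.R 0 1 0))) (.S 4 (-52) 76 (.R (-2) (-1) 0) (.S 3 (-115) (-51) (.S 1 76 140 (.R 0 (-1) 0) (.S 4 76 140 (.S 5 (-63)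 65 (.L 0 1 0) (.L 0 (-1) 0)) (.S 3 (-179) (-115) (.R 0 (-1) 0) (.S 1 204 268 (.R 0 (-1) 0) (.L 1 (-1) (-1)))))) (.R (-1) 0 0)))) (.R (-1) 0 0))) (.S 0 42 106 (.R 1 0 0) (.S 3 13 77 (.R 0 (-1) 0) (.S 0 106 170 (.R 1 0 0) (.S 1 (-52) 76 (.S 4 (-52) 76 (.R (-1) (-1) 0) (.S 0 234 298 (.S 1 (-116) (-52) (.R (-2) (-1) 0) (.S 3 77 141 (.S 2 (-63) 65 (.S 2 (-127) (-63) (.L 0 0 1) (.S 4 76 140 (.L (-1) 1 0) (.R 0 (-1) 0))) (.L 0 0 (-1))) (.R (-1) 0 0))) (.R (-1) 0 0))) (.R 0 (-1) 0)))))))) (.R 0 0 1)))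

def s17 : List Ty × Tr := ([⟨1, 1, 0, 0, 0, 0⟩, ⟨1, 1, 0, 0, 0, 0⟩, ⟨1, 2, 0, 4, 0, 0⟩, ⟨2, 1, 0, 2, 4, 0⟩, ⟨4, 1, 0, 0, 0, 4⟩, ⟨1, 0, 1, 0, 0, 0⟩, ⟨1, 1, 1, 0, 0, 0⟩, ⟨2, 1, 1, 2, 4, 0⟩],
  (.S 7 (-39) 25 (.S 7 (-103) (-39) (.S 2 (-102) 26 (.S 7 (-167) (-103) (.R 0 0 1) (.S 3 (-51) 13 (.L 0 0 1) (.S 3 13 77 (.L 0 0 1) (.R 0 1 0)))) (.S 2 26 90 (.R 0 (-1) 1) (.S 7 (-167) (-103) (.R 0 0 1) (.S 3 (-51) 13 (.S 5 (-52) 76 (.S 2 90 154 (.L 0 0 1) (.S 5 (-116) (-52) (.R 0 1 0) (.S 6 (-63) 65 (.L 0 1 0) (.S 6 193 257 (.L 0 1 0) (.S 6 257 321 (.S 2 154 218 (.S 3 (-115) (-51) (.L 0 0 1) (.R 0 1 0)) (.R 0 1 0)) (.L 0 (-1) 0)))))) (.R 0 0 1)) (.S 3 13 77 (.R 0 (-1) 1) (.L 0 0 (-1))))))) (.S 2 (-102) 26 (.S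 3 (-51) 13 (.L 0 0 1) (.S 3 13 77 (.L 0 0 1) (.S 5 (-52) 76 (.S 2 (-166) (-102) (.R 0 (-1) 0) (.S 3 77 141 (.L 0 0 1) (.S 3 141 205 (.S 5 (-116) (-52) (.S 5 (-180) (-116) (.S 5 (-244) (-180) (.S 5 (-372) (-308) (.S 5 (-500) (-436) (.S 5 (-692) (-628) (.S 6 (-63) 65 (.L 0 1 0) (.R 0 1 0)) (.S 6 (-63) 65 (.L 0 1 0) (.R 0 1 0))) (.S 6 (-63) 65 (.L 0 1 0) (.S 6 65 129 (.L 0 1 0) (.S 6 129 193 (.L 0 1 0) (.S 5 (-436) (-372) (.S 6 449 513 (.L 0 1 0) (.R 0 (-1) 0)) (.R 0 (-1) 0)))))) (.R 0 (-1) 0)) (.R 0 (-1) 0)) (.R 0 (-1) 0)) (.R 0 (-1) 0)) (.L 0 0 (-1))))) (.S 2 (-166) (-102) (.S 2 (-230) (-166) (.S 5 76 140 (.S 6 (-63) 65 (.L 0 1 0) (.L 0 (-1) 0)) (.S 2 (-358) (-294) (.R 0 (-1) 0) (.S 3 77 141 (.L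 0 0 1) (.S 5 140 204 (.S 6 (-63) 65 (.S 6 (-127) (-63) (.L 0 1 0) (.R 0 (-1) 0)) (.L 0 (-1) 0)) (.R 0 (-1) 0))))) (.S 3 141 205 (.L 0 0 1) (.S 3 205 269 (.S 5 76 140 (.R 0 1 0) (.S 5 140 204 (.R 0 1 0) (.S 5 268 332 (.S 6 (-63) 65 (.R 0 (-1) 0) (.L 0 (-1) 0)) (.R 0 (-1) 0)))) (.L 0 0 (-1))))) (.S 3 77 141 (.L 0 0 1) (.R 0 1 0)))))) (.S 2 26 90 (.R 0 (-1) 0) (.S 3 (-51) 13 (.S 5 (-52) 76 (.R 0 (-1) 0) (.S 2 90 154 (.R 0 (-1) 0) (.S 2 154 218 (.R 0 (-1) 0) (.S 5 76 140 (.S 6 (-63) 65 (.L 0 1 0) (.L 0 (-1) 0)) (.S 3 (-115) (-51) (.R 0 (-1) 0) (.L 0 0 (-1))))))) (.L 0 0 (-1)))))) (.R 0 0 1)))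

def s18 : List Ty × Tr := ([⟨4, 0, 0, 1, 1, 1⟩, ⟨4, 1, 0, 1, 1, 1⟩, ⟨4, 1, 0, 2, 0, 2⟩, ⟨1, 1, -1, 0, 0, 0⟩, ⟨1, 2, 1, 0, 0, 0⟩, ⟨2, 1, 1, 2, 4, 0⟩],
  (.S 5 (-39) 25 (.S 2 (-51) 13 (.S 3 (-87) 41 (.R (-2) 1 0) (.S 5 (-103) (-39) (.S 3 41 105 (.R 1 0 0) (.S 4 (-138) 54 (.L 0 1 0) (.S 4 54 118 (.L 0 1 0) (.S 5 (-167) (-103) (.R 1 0 1) (.S 3 105 169 (.R 1 0 0) (.R 2 1 0)))))) (.S 3 41 105 (.R 0 (-1) 0) (.S 4 (-138) 54 (.L 0 1 0) (.S 4 54 118 (.L 0 1 0) (.R (-1) 0 0)))))) (.S 3 (-87) 41 (.S 2 13 77 (.R 1 (-1) 1) (.S 5 (-103) (-39) (.S 4 (-138) 54 (.S 5 (-167) (-103) (.R 0 0 1) (.S 3 (-151) (-87) (.S 3 (-279) (-215) (.S 4 (-266) (-202) (.R 1 1 0) (.S 0 (-52) 76 (.R 0 1 0) (.L 1 1 (-1)))) (.L 0 1 0))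 (.L 0 1 0))) (.R 0 0 1)) (.S 4 (-138) 54 (.R (-1) 0 0) (.L 0 (-1) 0)))) (.S 2 13 77 (.R 0 (-1) 2) (.S 5 (-103) (-39) (.S 3 41 105 (.R 1 0 0) (.S 4 (-138) 54 (.L 0 1 0) (.R 1 0 1))) (.S 3 41 105 (.R 0 (-1) 0) (.S 4 (-138) 54 (.L 0 1 0) (.S 4 54 118 (.L 0 1 0) (.R (-2) (-1) 0)))))))) (.R 1 0 1)))

def s19 : List Ty × Tr := ([⟨1, 1, 0, 0, 0, 0⟩, ⟨1, 1, 0, 0, 0, 0⟩, ⟨4, 0, 0, 1, 1, 1⟩, ⟨4, 0, 0, 1, 1, 1⟩, ⟨4, 1, 0, 2, 0, 2⟩, ⟨1, 0, 1, 0, 0, 0⟩, ⟨1, 1, -1, 0, 0, 0⟩, ⟨2, 2, 1, 2, 4, 0⟩],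
  (.R 1 0 1))

def SS : List (List Ty × Tr) := [s0, s1, s2, s3, s4, s5, s6, s7, s8, s9, s10, s11, s12, s13, s14, s15, s16, s17, s18, s19]

theorem c1 : go (SS.map (·.1)) 60 CC ⟨15, 3, 16, 4, 4, 32, 16, 16⟩ [] = true := by decide +kernel

theorem c2 : valid CC = true := by decide +kernel

theorem c3 : (SS.all fun x => chk x.2 (x.1.map fun t => ⟨t, 0, 0⟩)) = true := by decide +kernel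

theorem c4 : (CC.all fun x => decide (0 < x.1.p ∧ x.1.m < 0)) = true := by decide +kernel

structure V6 where
  (a b0 b1 b2 b3 b4 : ℤ)
  deriving DecidableEq

def V6.ty (v : V6) : Ty := ⟨if v.b1 = v.b4 ∧ v.b2 = v.b3 then (if v.b1 = v.b2 then 1 else 2) else 4,
  v.a, v.b0, v.b1 + v.b2 + v.b3 + v.b4, (v.b1 + v.b4 - v.b2 - v.b3) * (v.b1 + v.b4 - v.b2 - v.b3),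
  (v.b1 - v.b4) * (v.b1 - v.b4) + (v.b2 - v.b3) * (v.b2 - v.b3)⟩

def Ty.neg (t : Ty) : Ty := ⟨t.w, -t.a, -t.b, -t.s, t.sg, t.ka⟩

def HH : List (ℤ × ℤ × ℤ) := [(1, 0, -1), (1, -1, 0), (2, 2, -1), (1, -2, -1), (0, 2, -1), (1, 1, -1),
  (1, -2, 0), (1, 2, 0), (2, -1, -1)]

def sqf (x : ℤ × ℤ × ℤ) : V8 := ⟨x.1 * x.1, 2 * x.1 * x.2.1, 2 * x.1 * x.2.2, x.2.1 * x.2.1,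
  2 * x.2.1 * x.2.2, x.2.2 * x.2.2, 0, 0⟩

def bx (t : Ty) : Bool := decide (16 < t.w * t.ka) || decide (16 < t.w * t.sg) || t.tau == 0 ||
  (HH.any fun x => decide ((sqf x).dot ⟨15, 3, 16, 4, 4, 32, 16, 16⟩ < (sqf x).dot t.con)) ||
  decide (t ∈ CC.map (·.1)) || decide (t.neg ∈ CC.map (·.1))

def r5 : List ℤ := [-2, -1, 0, 1, 2]

theorem c5 : (r5.all fun a => r5.all fun b => r5.all fun c => r5.all fun d => r5.all fun e =>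
    [-3, -2, -1, 0, 1, 2, 3].all fun x => bx (V6.ty ⟨x, a, b, c, d, e⟩)) = true := by
  decide +kernel

end Cfsg.GS.Qx
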