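import Cfsg.Agent.GS.R3

/-! Reduction of Goldschmidt's theorem to simple groups, 4: groups with trivial core. -/

set_option autoImplicit false

namespace Cfsg.GS

open Subgroup Cfsg.L0 Cfsg.H8 Cfsg.FT
open scoped commutatorElement

universe u

theorem swap_of_sq {D : Type*} [Group D] {c x y : D} (hc : ∀ d, c * d = d * c) (c2 : c ^ 2 = 1)
    (hx : x ^ 2 = c) (hy : y ^ 2 = c) (hxy : (x * y) ^ 2 = c) : y * x = c * (x * y) := by
  have e1 : x⁻¹ = c * x := by
    rw [inv_eq_iff_mul_eq_one, ← mul_assoc, ← hc x, mul_assoc, ← sq, hx, ← sq, c2]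
  have e2 : y⁻¹ = y * c := by
    rw [inv_eq_iff_mul_eq_one, ← mul_assoc, ← sq, hy, ← sq, c2]
  calc y * x = x⁻¹ * (x * y) ^ 2 * y⁻¹ := by rw [sq]; group
    _ = c * x * (c * y * c) := by rw [hxy, e1, e2]; group
    _ = _ := by rw [hc y, mul_assoc y, ← sq, c2]; group

theorem sq_seven {D : Type*} [Group D] {c x y w : D} (hc : ∀ d, c * d = d * c) (c2 : c ^ 2 = 1)
    (hx : x ^ 2 = c) (hy : y ^ 2 = c) (hw : w ^ 2 = c) (hxy : (x * y) ^ 2 = c)
    (hxw : (x * w) ^ 2 = c) (hyw : (y * w) ^ 2 = c) : (x * y * w) ^ 2 = 1 := by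
  have e1 := swap_of_sq hc c2 hx hy hxy
  have e2 := swap_of_sq hc c2 hx hw hxw
  have e3 := swap_of_sq hc c2 hy hw hyw
  have cc : c * c = 1 := by rw [← sq, c2]
  calc (x * y * w) ^ 2 = x * y * (w * x) * y * w := by rw [sq]; group
    _ = x * (y * c) * x * (w * y) * w := by rw [e2]; group
    _ = x * c * (y * x) * c * y * w ^ 2 := by rw [← hc y, e3, sq]; group
    _ = x * (c * c) * x * (y * c) * y * c := by rw [e1, hw]; group
    _ = x ^ 2 * c * y ^ 2 * c := by rw [cc, ← hc y, sq, sq]; group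
    _ = 1 := by rw [hx, hy, cc, one_mul, cc]

/-- a central element of a Sylow subgroup in the derived group lies in its derived group -/
theorem mem_der_of_central {G : Type*} [Group G] [Finite G] {S : Subgroup G} {p : ℕ}
    [Fact p.Prime] (hS : IsSyl p S ⊤) {z : G} (hz : z ∈ S) (h1 : z ∈ center G)
    (h2 : z ∈ commutator G) : z ∈ ⁅S, S⁆ := by
  have key : ∀ (k : ℕ) (g : G), g⁻¹ * z ^ k * g ∈ S → g⁻¹ * z ^ k * g = z ^ k := fun k g _ => by
    rw [mul_assoc, ← mem_center_iff.1 (pow_mem h1 k) g, inv_mul_cancel_left]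
  have h3 := MonoidHom.transfer_eq_pow (Abelianization.of (G := S)) z key
  rw [MonoidHom.mem_ker.1 (Abelianization.commutator_subset_ker _ h2)] at h3
  have h4 : z ^ S.index ∈ ⁅S, S⁆ := by
    have := mem_map_of_mem S.subtype ((Abelianization.ker_of S).le (MonoidHom.mem_ker.2 h3.symm))
    rwa [map_subtype_commutator] at this
  obtain ⟨k, hk⟩ := isPGroup_iff_forall.1 hS.isPGroup z hz
  refine mem_of_pow_mem (m := S.index) (n := p ^ k) ?_ h4 (by rw [hk]; exact one_mem _)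
  have := hS.coprime
  rw [relIndex_top_right] at this
  exact this.pow_right k

/-- the structure of a group with trivial core generated by the conjugates of a strongly closed
abelian `2`-subgroup; `f` is the projection onto `G / O₂(G)` -/
structure L2 {G Q : Type*} [Group G] [Group Q] (S A : Subgroup G) (f : G →* Q) : Prop where
  l1 : L1 (S.map f) (A.map f)
  ctr : f.ker ≤ center G
  le : f.ker ≤ A
  sup : f.ker ⊔ commutator G = ⊤
  eq : A = f.ker ⊔ Om 2 S

variable {G Q : Type u} [Group G] [Finite G] [Group Q] [Finite Q] {A S : Subgroup G} {f : G →* Q}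

omit [Finite G] [Finite Q] in
theorem abel_map (ha : Abel A) (f : G →* Q) : Abel (A.map f) := by
  rintro _ ⟨a, h3, rfl⟩
  refine mem_cent.2 ?_
  rintro _ ⟨b, h4, rfl⟩
  rw [← map_mul, ← map_mul, ha.comm h4 h3]

omit [Finite G] [Finite Q] in
theorem mem_sup_ker {x : G} (h : f x ∈ A.map f) : x ∈ A ⊔ f.ker := by
  rw [← comap_map_eq]; exact h

/-- the multiplier part -/
theorem ker_le_of (hf : Function.Surjective f) (hS : IsSyl 2 S ⊤) (hA : SC A S ⊤)
    (hR : f.ker ≤ S) (l1 : L1 (S.map f) (A.map f)) (ctr : f.ker ≤ center G)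
    (hs : ⊤ ≤ (A ⊓ f.ker) ⊔ commutator G) : f.ker ≤ A := by
  have p2 := Nat.prime_two
  set R := f.ker with hRdef
  have cm : ∀ r ∈ R, ∀ g, g * r = r * g := fun r hr => mem_center_iff.1 (ctr hr)
  have RA : R ≤ 𝒩 A := le_norm_of_le_cent fun r hr => mem_cent.2 fun a _ => cm r hr a
  have SA : S ≤ 𝒩 A := hA.le_norm le_top
  have ARS : A ⊔ R ≤ S := sup_le hA.le hR
  have hp : IsPGroup 2 ↥(A ⊔ R) := hS.isPGroup.to_le ARS
  by_contra hc
  obtain ⟨B, hAB, hB, hi⟩ : ∃ B, A ≤ B ∧ B ≤ A ⊔ R ∧ B.relIndex (A ⊔ R) = 2 := by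
    obtain ⟨k, hk⟩ := IsPGroup.iff_card.1 hp
    obtain ⟨j, hj⟩ := IsPGroup.iff_card.1 (hS.isPGroup.to_le hA.le)
    have h1 : ♯A < ♯(A ⊔ R) := card_lt (lt_of_le_of_ne le_sup_left fun e => hc (e ▸ le_sup_right))
    rw [hk, hj, Nat.pow_lt_pow_iff_right (by norm_num)] at h1
    obtain ⟨k, rfl⟩ : ∃ m, k = m + 1 := ⟨k - 1, by omega⟩
    obtain ⟨B, h2, h3, h4⟩ := exists_between p2 hp (k := k) le_sup_left
      (by rw [hj]; exact Nat.pow_le_pow_right (by norm_num) (by omega))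
      (by rw [hk]; exact Nat.pow_le_pow_right (by norm_num) (by omega))
    refine ⟨B, h2, h3, ?_⟩
    have := card_mul_ri h3
    rw [h4, hk, pow_succ] at this
    exact Nat.eq_of_mul_eq_mul_left (by positivity) this
  have two : ∀ a ∈ A ⊔ R, ∀ b ∈ A ⊔ R, (a * b ∈ B ↔ (a ∈ B ↔ b ∈ B)) := fun a h1 b h2 =>
    mul_mem_iff_of_index_two (H := B.subgroupOf (A ⊔ R)) hi (a := ⟨a, h1⟩) (b := ⟨b, h2⟩)
  have sqB : ∀ a ∈ A ⊔ R, a ^ 2 ∈ B := fun a h => by rw [sq, two a h a h]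
  have cmA : ∀ a ∈ A ⊔ R, ∀ s ∈ S, s * a * s⁻¹ * a⁻¹ ∈ A := fun a h s hs => by
    obtain ⟨a, h1, r, h2, rfl⟩ := (mem_sup_l RA).1 h
    convert mul_mem (conj_mem_of_norm (SA hs) h1) (inv_mem h1) using 1
    rw [← mul_assoc, mul_assoc _ r, ← cm r h2]; group
  have scB : ∀ b ∈ B, ∀ g, g * b * g⁻¹ ∈ S → g * b * g⁻¹ ∈ B := fun b h g h3 => by
    obtain ⟨a, h1, r, h2, rfl⟩ := (mem_sup_l RA).1 (hB h)
    have e : g * (a * r) * g⁻¹ = g * a * g⁻¹ * r := by
      rw [← mul_assoc, mul_assoc _ r, ← cm r h2]; group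
    rw [e] at h3 ⊢
    exact mul_mem (hAB (hA.conj h1 trivial ((mul_mem_cancel_right (hR h2)).1 h3)))
      ((mul_mem_cancel_left (hAB h1)).1 h)
  have BS : B ⊴ S := ⟨hB.trans ARS, fun s hs => mem_normalizer_of_forall fun b h =>
    scB b h s (mul_mem (mul_mem hs (ARS (hB h))) (inv_mem hs))⟩
  obtain ⟨D, _, _, φ, hφ, hk⟩ := exists_quo BS
  have kφ : ∀ u : S, φ u = 1 ↔ (u : G) ∈ B := fun u => by rw [← hk, coe_mem_up, mem_bot]
  have liftS : ∀ x, f x ∈ S.map f → x ∈ S := fun x h => by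
    exact sup_le le_rfl hR (mem_sup_ker h)
  -- squares
  have sqP : ∀ L : Subgroup Q, IsComponent L → ∀ x, f x ∈ S.map f ⊓ L → x ^ 2 ∈ B := by
    intro L hL x hx
    by_cases h0 : f x ^ 2 = 1
    · exact sqB x (mem_sup_ker ((l1.mem _).2 ⟨hx.1, h0⟩))
    have hRB := (l1.rb L hL).resolve_left fun h1 => h0 ((l1.mem _).1 (h1 hx)).2
    by_contra hxB
    have a1 : ∀ u, f u ∈ S.map f ⊓ L → u ^ 2 ∈ A ⊔ R := fun u hu => mem_sup_ker ((l1.mem _).2
      ⟨by rw [map_pow]; exact pow_mem (mem_inf.1 hu).1 2, by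
        rw [map_pow, ← pow_mul]; exact hRB.four _ hu⟩)
    have a2 : ∀ u, f u ∈ S.map f ⊓ L → Fus L (S.map f ⊓ L) (f x) (f u) → u ^ 2 ∉ B := by
      rintro u hu ⟨g, -, z, hz, z2, e⟩ h1
      obtain ⟨g, rfl⟩ := hf g
      have uS := liftS u hu.1
      have b1 : (g * x * g⁻¹)⁻¹ * u ∈ A ⊔ R := by
        refine mem_sup_ker ((l1.mem _).2 ?_)
        rw [show f ((g * x * g⁻¹)⁻¹ * u) = z by simp [e, mul_assoc]]
        exact ⟨hz.1, z2⟩
      have b2 : g * x * g⁻¹ ∈ S := by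
        have := mul_mem uS (inv_mem (ARS b1))
        convert this using 1; group
      have b3 : (g * x * g⁻¹) ^ 2 ∈ B := by
        generalize g * x * g⁻¹ = y at b1 b2
        have := mul_mem (mul_mem h1 (inv_mem (sqB _ b1))) (inv_mem (hAB (cmA _ b1 _ (inv_mem b2))))
        convert this using 1
        simp only [sq, mul_inv_rev, inv_inv, mul_assoc, mul_inv_cancel_left, inv_mul_cancel_left]
      have := scB _ b3 g⁻¹ (by
        rw [conj_pow]; convert pow_mem (liftS x hx.1) 2 using 1; group)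
      exact hxB (by rw [conj_pow] at this; convert this using 1; group)
    obtain ⟨y, hy, w, hw, f1, f2, f3, f4, f5, f6⟩ := hRB.seven _ hx h0
    obtain ⟨y, rfl⟩ := hf y
    obtain ⟨w, rfl⟩ := hf w
    simp only [← map_mul] at f3 f4 f5 f6
    let x' : S := ⟨x, liftS x hx.1⟩
    let y' : S := ⟨y, liftS y hy.1⟩
    let w' : S := ⟨w, liftS w hw.1⟩
    have c2 : (φ x' ^ 2) ^ 2 = 1 := by
      rw [← map_pow, ← map_pow, kφ]
      exact sqB _ (a1 x hx)
    have a3 : ∀ u : S, f u ∈ S.map f ⊓ L → Fus L (S.map f ⊓ L) (f x) (f u) →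
        φ u ^ 2 = φ x' ^ 2 := fun u hu h1 => by
      rw [← inv_eq_of_sq c2, eq_inv_iff_mul_eq_one, ← map_pow, ← map_pow, ← map_mul, kφ]
      exact (two _ (a1 u hu) _ (a1 x hx)).2 (iff_of_false (a2 u hu h1) hxB)
    have hc : ∀ d, φ x' ^ 2 * d = d * φ x' ^ 2 := fun d => by
      obtain ⟨s, rfl⟩ := hφ d
      have : φ (s * x' ^ 2 * s⁻¹ * (x' ^ 2)⁻¹) = 1 := (kφ _).2 (hAB (cmA _ (a1 x hx) s s.2))
      simp only [map_mul, map_inv, map_pow] at this
      rw [mul_inv_eq_one, mul_inv_eq_iff_eq_mul] at this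
      exact this.symm
    have m1 : f (x * y) ∈ S.map f ⊓ L := by rw [map_mul]; exact mul_mem hx hy
    have m2 : f (x * w) ∈ S.map f ⊓ L := by rw [map_mul]; exact mul_mem hx hw
    have m3 : f (y * w) ∈ S.map f ⊓ L := by rw [map_mul]; exact mul_mem hy hw
    have m4 : f (x * y * w) ∈ S.map f ⊓ L := by rw [map_mul]; exact mul_mem m1 hw
    have := sq_seven hc c2 rfl (a3 y' hy f1) (a3 w' hw f2)
      (by rw [← map_mul]; exact a3 (x' * y') m1 f3) (by rw [← map_mul]; exact a3 (x' * w') m2 f4)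
      (by rw [← map_mul]; exact a3 (y' * w') m3 f5)
    rw [← map_mul, ← map_mul, ← map_pow, kφ] at this
    exact a2 _ m4 f6 this
  have peel : ∀ K : Subgroup G, R ≤ K → (∀ L : Subgroup Q, IsComponent L →
      ∀ x, f x ∈ S.map f ⊓ L → x ∈ K) → S ≤ K := fun K h1 h2 s hs => by
    have := l1.peel (K.map f) (fun L hL y hy => by
      obtain ⟨y, rfl⟩ := hf y
      exact mem_map_of_mem f (h2 L hL y hy)) (mem_map_of_mem f hs)
    exact sup_le le_rfl h1 (mem_sup_ker this)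
  have cm2 : ∀ L M : Subgroup Q, IsComponent L → IsComponent M → L ≠ M →
      L.comap f ≤ 𝒞 (M.comap f) := fun L M hL hM hne => by
    have b1 : ⁅L.comap f, M.comap f⁆ ≤ R := by
      rw [hRdef, ← Subgroup.map_eq_bot_iff, map_commutator, map_comap_eq_self_of_surjective hf,
        map_comap_eq_self_of_surjective hf]
      exact comm_eq_bot_iff'.2 (comp_cent hL hM hne)
    have b2 : ∀ K : Subgroup G, R ≤ 𝒞 K := fun K r hr => mem_cent.2 fun a _ => cm r hr a
    have b3 : ⁅L.comap f, L.comap f⁆ ≤ 𝒞 (M.comap f) :=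
      three_subgroups_cent (b1.trans (b2 _)) (by rw [commutator_comm]; exact b1.trans (b2 _))
    intro x hx
    refine sup_le b3 (b2 _) (mem_sup_ker ?_)
    rwa [map_commutator, map_comap_eq_self_of_surjective hf, (l1.smp L hL).perfect]
  have Rrel : ∀ U : Subgroup G, R ≤ relCent U B := fun U r hr => mem_relCent.2
    ⟨cent_le_norm U (mem_cent.2 fun a _ => cm r hr a),
      cent_le_norm B (mem_cent.2 fun a _ => cm r hr a), fun u _ => by
        rw [commutatorElement_eq_one_iff_mul_comm.2 (cm r hr u).symm]; exact one_mem _⟩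
  have der : S ≤ relCent S B := by
    refine peel _ (Rrel S) fun L hL x hx => ?_
    have xS := liftS x hx.1
    refine mem_relCent.2 ⟨le_norm S xS, BS.norm xS, fun s hs => ?_⟩
    let K : Subgroup G := S ⊓ ((𝒞₁ (φ ⟨x, xS⟩)).comap φ).map S.subtype
    have hK : ∀ y (hy : y ∈ S), ⁅x, y⁆ ∈ B ↔ y ∈ K := fun y hy => by
      rw [show ⁅x, y⁆ = ((⁅(⟨x, xS⟩ : S), ⟨y, hy⟩⁆ : S) : G) from rfl, ← kφ, map_commutatorElement,
        commutatorElement_eq_one_iff_mul_comm]
      constructor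
      · exact fun h => ⟨hy, ⟨y, hy⟩, mem_cent1.2 h.symm, rfl⟩
      · rintro ⟨-, y, h, rfl⟩
        exact (mem_cent1.1 h).symm
    refine (hK s hs).2 (peel K (fun r hr => (hK r (hR hr)).1 ?_) (fun M hM y hy => ?_) hs)
    · rw [commutatorElement_eq_one_iff_mul_comm.2 (cm r hr x)]; exact one_mem _
    · have yS := liftS y hy.1
      refine (hK y yS).1 ?_
      by_cases e : L = M
      · subst e
        have := mul_mem (mul_mem (sqP L hL (x * y) (by rw [map_mul]; exact mul_mem hx hy))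
          (conj_mem_of_norm' (BS.norm yS) (inv_mem (sqP L hL x hx)))) (inv_mem (sqP L hL y hy))
        convert this using 1
        simp only [sq, commutatorElement_def]; group
      · rw [commutatorElement_eq_one_iff_mul_comm.2 (mem_cent.1 (cm2 L M hL hM e hx.2) y hy.2).symm]
        exact one_mem _
  have der' : ⁅S, S⁆ ≤ B := (comm_mono der le_rfl).trans (commutator_relCent_le S B)
  have RB' : R ≤ B := fun r hr => by
    obtain ⟨a, h1, c, h2, rfl⟩ := (mem_sup_r (le_top.trans (top_le_norm (commutator G)))).1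
      (hs (mem_top r))
    have h3 : c ∈ R := (mul_mem_cancel_left (mem_inf.1 h1).2).1 hr
    exact mul_mem (hAB h1.1) (der' (mem_der_of_central hS (hR h3) (ctr h3) h2))
  rw [relIndex_eq_one.2 (sup_le hAB RB')] at hi
  omega

theorem level2 (hG : HG G) (hf : Function.Surjective f)
    (hk : f.ker = Op {2} ⊤) (hS : IsSyl 2 S ⊤) (hA : SC A S ⊤) (ha : Abel A)
    (hg : normalClosure (A : Set G) = ⊤) (h1 : Op {2}ᶜ (⊤ : Subgroup G) = ⊥) : L2 S A f := by
  have p2 := Nat.prime_two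
  set R := f.ker with hRdef
  have Rp : IsPGroup 2 R := hk ▸ Op_pgroup p2 ⊤
  have hR : R ≤ S := hk ▸ Op_le_syl p2 hS
  have Rn : ⊤ ≤ 𝒩 R := top_le_norm _
  have SA : S ≤ 𝒩 A := hA.le_norm le_top
  have n0 : ⊤ ≤ 𝒩 (A ⊓ R) := fun g _ => mem_normalizer_of_forall fun a h =>
    have := conj_mem_of_norm (Rn (mem_top g)) h.2
    ⟨hA.conj h.1 trivial (hR this), this⟩
  have c0 : ⊤ ≤ 𝒞 (A ⊓ R) := top_le_of_ncl hg (le_norm_cent n0) (cent_mono ha le_rfl inf_le_left)
  have c1 : ⁅R, ⊤⁆ ≤ A ⊓ R := by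
    rw [commutator_comm]
    refine (comm_mono (top_le_of_ncl hg (le_normalizer_relCent Rn n0) ?_) le_rfl).trans
      (commutator_relCent_le R (A ⊓ R))
    exact le_relCent (le_top.trans Rn) (le_top.trans n0)
      (le_inf (comm_le_left (hR.trans SA)) (comm_le_right (le_top.trans Rn)))
  have c2 : commutator G ≤ 𝒞 R := three_subgroups_cent
    (by rw [commutator_comm]; exact c1.trans (cent_symm c0)) (c1.trans (cent_symm c0))
  have ht : (⊤ : Subgroup G).map f = ⊤ := map_top_of_surjective f hf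
  have cn : ∀ N : Subgroup Q, ⊤ ≤ 𝒩 N → ⊤ ≤ 𝒩 (N.comap f) := fun N hN => by
    have := normal_of_top_le hN
    exact top_le_norm _
  have cc : ∀ N : Subgroup Q, R.relIndex (N.comap f) = ♯N := fun N => by
    rw [hRdef, ← MonoidHom.comap_bot, relIndex_comap, map_comap_eq_self_of_surjective hf, relIndex_bot_left]
  have q1 : Op {2}ᶜ (⊤ : Subgroup Q) = ⊥ := by
    set O := Op {2}ᶜ (⊤ : Subgroup Q)
    have hO : ¬ 2 ∣ ♯O := not_dvd_Op_compl p2 _
    have b1 : R ⊴ O.comap f := ⟨ker_le_comap f O, le_top.trans Rn⟩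
    obtain ⟨Y, hY⟩ := exists_sd b1 (cop_of_pgroup p2 Rp (by rwa [cc]))
    have b2 : ¬ 2 ∣ ♯Y := by rwa [← hY.ri, cc]
    have b3 : Y ≤ 𝒞 R := cent_of_stable hY.norm (cop_of_pgroup p2 Rp b2)
      ((comm_mono le_rfl le_top).trans c1) (le_top.trans c0)
    have b4 : Hall {2}ᶜ Y (O.comap f) :=
      hY.hall_right (by rw [compl_compl]; exact (piG_single p2).2 Rp) ((piG_compl_single p2).2 b2)
    have b5 : Y = ⊥ := eq_bot_of_le h1 (le_Op_compl p2 b2 ⟨le_top,
      (cn O (Op_nrm _ _).norm).trans (b4.norm_le (hY.dp b3).nrm_right.norm)⟩)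
    have b6 := hY.ri
    rw [cc, b5, card_bot'] at b6
    exact card_eq_one_iff.1 b6
  have q2 : Op {2} (⊤ : Subgroup Q) = ⊥ := by
    set O := Op {2} (⊤ : Subgroup Q)
    have b1 : O.comap f ≤ R := by
      rw [hk]
      exact le_Op_p p2 ((Op_pgroup p2 ⊤).comap_of_ker_isPGroup f Rp) ⟨le_top, cn O (Op_nrm _ _).norm⟩
    rw [← card_eq_one_iff, ← cc]
    exact relIndex_eq_one.2 b1
  have l1 : L1 (S.map f) (A.map f) := level1 (hG.mono (involves_of_surjective hf))
    (ht ▸ hS.map f) (ht ▸ hA.map hS f) (abel_map ha f)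
    (by rw [coe_map, ← map_normalClosure _ f hf, hg, ht]) q1 q2
  have hN : IsSyl 2 S (𝒩 S) := hS.mono (le_norm S) le_top
  obtain ⟨H, hH⟩ := exists_sd (nrm_norm S) (cop_of_pgroup p2 hS.isPGroup hN.not_dvd)
  have HA : H ≤ 𝒩 A := (le_inf le_top hH.le_right).trans hA.norm_le
  have hCA : CA H A := mkCA_p' p2 HA (hS.isPGroup.to_le hA.le) (by rw [← hH.ri]; exact hN.not_dvd)
  have d1 : A ⊓ 𝒞 H ≤ R := fun a h => by
    refine eq_one_of_mem l1.cn ⟨mem_map_of_mem f h.1, mem_cent.2 fun y hy => ?_⟩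
    obtain ⟨y, rfl⟩ := hf y
    have b1 : y ∈ 𝒩 S := by
      have : y ∈ (𝒩 (S.map f)).comap f := hy
      rwa [comap_normalizer_eq_of_surjective _ hf, comap_map_eq, sup_eq_left.2 hR] at this
    obtain ⟨s, hs, k, hk', rfl⟩ := hH.mem b1
    rw [map_mul, mul_assoc, ← map_mul f k, mem_cent.1 h.2 k hk', map_mul, ← mul_assoc,
      ← mem_cent.1 (l1.cent (mem_map_of_mem f hs)) _ (mem_map_of_mem f h.1), mul_assoc]
  have d2 : ⊤ ≤ (A ⊓ R) ⊔ commutator G := by
    refine top_le_of_ncl hg (le_norm_sup n0 (top_le_norm _)) ?_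
    refine hCA.comm_sup_cent.ge.trans (sup_le ((comm_mono le_top le_top).trans le_sup_right) ?_)
    exact (le_inf inf_le_left d1).trans le_sup_left
  have ctr : R ≤ center G := by
    have : ⊤ ≤ 𝒞 R := d2.trans (sup_le ((cent_symm c0).trans (cent_anti le_top)) c2)
    exact fun r hr => mem_center_iff.2 fun g => (mem_cent.1 (this (mem_top g)) r hr).symm
  have RA : R ≤ A := ker_le_of hf hS hA hR l1 ctr d2
  refine ⟨l1, ctr, RA, top_le_iff.1 (d2.trans (sup_le_sup_right inf_le_right _)),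
    le_antisymm ?_ (sup_le RA (Om_le_iff.2 fun x hx h => ?_))⟩
  · refine hCA.comm_sup_cent.ge.trans (sup_le ?_ (d1.trans le_sup_left))
    refine le_trans (commutator_le.2 fun a h1 h h2 => ?_) le_sup_right
    have b1 : h * a⁻¹ * h⁻¹ ∈ A := conj_mem_of_norm (HA h2) (inv_mem h1)
    have b2 : a ^ 2 ∈ center G := ctr (by
      rw [hRdef, MonoidHom.mem_ker, map_pow]; exact ((l1.mem _).1 (mem_map_of_mem f h1)).2)
    have e : ⁅a, h⁆ = a * (h * a⁻¹ * h⁻¹) := by rw [commutatorElement_def]; group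
    rw [e]
    refine mem_Om (hA.le (mul_mem h1 b1)) ?_
    rw [(show Commute a _ from ha.comm h1 b1).mul_pow, conj_pow, inv_pow,
      mem_center_iff.1 (inv_mem b2) h]
    group
  · have := mem_sup_ker ((l1.mem (f x)).2 ⟨mem_map_of_mem f hx, by rw [← map_pow, h, map_one]⟩)
    rwa [sup_eq_left.2 RA] at this

omit [Finite G] [Finite Q] in
theorem L2.nonempty_equiv (h : L2 S A f) (hf : Function.Surjective f) :
    Nonempty (↥(commutator G) ⧸ center ↥(commutator G) ≃* Q) := by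
  let φ : commutator G →* Q := f.comp (commutator G).subtype
  have dec : ∀ g : G, ∃ c : commutator G, φ c = f g := fun g => by
    obtain ⟨r, h1, c, h2, rfl⟩ := (mem_sup_r (le_top.trans (top_le_norm (commutator G)))).1
      (h.sup.ge (mem_top g))
    exact ⟨⟨c, h2⟩, by simp [φ, MonoidHom.mem_ker.1 h1]⟩
  have hφ : Function.Surjective φ := fun y => by
    obtain ⟨g, rfl⟩ := hf y
    exact dec g
  have hk : center ↥(commutator G) = φ.ker := by
    refine le_antisymm (fun z hz => eq_one_of_mem h.l1.ctr (mem_center_iff.2 fun y => ?_))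
      fun z hz => mem_center_iff.2 fun y => Subtype.ext (mem_center_iff.1 (h.ctr hz) y)
    obtain ⟨c, rfl⟩ := hφ y
    rw [← map_mul, ← map_mul, mem_center_iff.1 hz c]
  exact ⟨(QuotientGroup.quotientMulEquivOfEq hk).trans
    (QuotientGroup.quotientKerEquivOfSurjective φ hφ)⟩

end Cfsg.GS
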