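import Cfsg.Agent.GS.R2
import Cfsg.Agent.H8.S4Ex
import Cfsg.Agent.H3.U3

/-! Reduction of Goldschmidt's theorem to simple groups, 5: the Suzuki and unitary groups. -/

set_option autoImplicit false

namespace Cfsg.GS

open Subgroup Cfsg.L0 Cfsg.H8 Cfsg.FT

theorem rb_of_coord {X F : Type*} [Group X] [Field F] [CharP F 2] {T : Subgroup X} (w : X)
    (π : X → F) (ti : ∀ g, ∀ x ∈ T, x ≠ 1 → g * x * g⁻¹ ∈ T → g ∈ 𝒩 T)
    (bru : ∀ g, g ∉ 𝒩 T → ∃ s ∈ T, ∃ b ∈ 𝒩 T, g = s * w * b)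
    (cen : ∀ z ∈ T, z ^ 2 = 1 → ∀ x ∈ T, x * z = z * x)
    (conj : ∀ z ∈ T, ∀ w ∈ T, z ^ 2 = 1 → w ^ 2 = 1 → z ≠ 1 → w ≠ 1 → ∃ g, g * z * g⁻¹ = w)
    (add : ∀ x ∈ T, ∀ y ∈ T, π (x * y) = π x + π y) (sq : ∀ x ∈ T, π x = 0 → x ^ 2 = 1)
    (K : Subring F) (hK : ∀ c ∈ K, c ≠ 0 → ∀ x ∈ T, ∃ g, g * x * g⁻¹ ∈ T ∧ π (g * x * g⁻¹) = c * π x)
    {h : Fˣ} (h1 : (h : F) ∈ K) (h2 : 3 < orderOf h) : RB ⊤ T := by
  have two : (2 : F) = 0 := CharTwo.two_eq_zero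
  have fus : ∀ c ∈ K, c ≠ 0 → ∀ x ∈ T, ∀ u ∈ T, π u = c * π x → Fus ⊤ T x u := by
    intro c hc c0 x hx u hu e
    obtain ⟨g, h3, h4⟩ := hK c hc c0 x hx
    have h5 := mul_mem (inv_mem h3) hu
    refine ⟨g, trivial, _, h5, sq _ h5 ?_, by group⟩
    have := add _ h3 _ h5
    rw [mul_inv_cancel_left, h4, e] at this
    linear_combination -this
  have hp : ∀ i j, i < j → j ≤ 3 → (h : F) ^ i + h ^ j ≠ 0 := fun i j a1 a2 e => by
    have : h ^ i = h ^ j := Units.ext (by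
      simp only [Units.val_pow_eq_pow_val]; linear_combination e - (h : F) ^ j * two)
    have := pow_injOn_Iio_orderOf (show i ∈ Set.Iio (orderOf h) by simp; omega)
      (show j ∈ Set.Iio (orderOf h) by simp; omega) this
    omega
  obtain ⟨j, j1, j2, j3⟩ : ∃ j, 1 < j ∧ j ≤ 3 ∧ 1 + h + (h : F) ^ j ≠ 0 := by
    by_cases e : 1 + h + (h : F) ^ 2 = 0
    · exact ⟨3, by omega, le_rfl, fun e' => hp 2 3 (by omega) le_rfl
        (by linear_combination e + e' - (1 + h) * two)⟩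
    · exact ⟨2, by omega, by omega, e⟩
  refine ⟨fun g _ => ti g, fun g _ k _ a1 a2 => ?_, cen, fun z a1 w a2 a3 a4 a5 a6 => ?_,
    fun x hx => ?_, fun x hx _ => ?_⟩
  · obtain ⟨s, hs, b, hb, rfl⟩ := bru g a1
    obtain ⟨s', hs', b', hb', rfl⟩ := bru k a2
    refine ⟨s * s'⁻¹, mul_mem hs (inv_mem hs'), ?_⟩
    convert mul_mem (inv_mem hb) hb' using 1; group
  · obtain ⟨g, e⟩ := conj z a1 w a2 a3 a4 a5 a6
    exact ⟨g, trivial, e⟩
  · rw [show 4 = 2 * 2 from rfl, pow_mul]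
    refine sq _ (pow_mem hx 2) ?_
    rw [pow_two, add x hx x hx]
    linear_combination π x * two
  · have hj := pow_mem h1 j
    obtain ⟨g, y1, y2⟩ := hK _ h1 h.ne_zero x hx
    obtain ⟨k, w1, w2⟩ := hK _ hj (pow_ne_zero j h.ne_zero) x hx
    refine ⟨_, y1, _, w1, fus _ h1 h.ne_zero x hx _ y1 y2,
      fus _ hj (pow_ne_zero j h.ne_zero) x hx _ w1 w2,
      fus _ (add_mem K.one_mem h1) (by simpa using hp 0 1 (by omega) (by omega)) x hx _
        (mul_mem hx y1) (by rw [add _ hx _ y1, y2]; ring),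
      fus _ (add_mem K.one_mem hj) (by simpa using hp 0 j (by omega) j2) x hx _
        (mul_mem hx w1) (by rw [add _ hx _ w1, w2]; ring),
      fus _ (add_mem h1 hj) (by simpa using hp 1 j j1 j2) x hx _
        (mul_mem y1 w1) (by rw [add _ y1 _ w1, y2, w2]; ring),
      fus _ (add_mem (add_mem K.one_mem h1) hj) j3 x hx _
        (mul_mem (mul_mem hx y1) w1) (by rw [add _ (mul_mem hx y1) _ w1, add _ hx _ y1, y2, w2]; ring)⟩

theorem exists_unit_order {F : Type*} [Field F] [Fintype F] {d : ℕ} (h : d ∣ Fintype.card F - 1) :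
    ∃ h : Fˣ, orderOf h = d := by
  obtain ⟨g, hg⟩ := IsCyclic.exists_ofOrder_eq_natCard (α := Fˣ)
  rw [Nat.card_units, Nat.card_eq_fintype_card] at hg
  exact ⟨_, orderOf_pow_orderOf_div (orderOf_pos g).ne' (hg ▸ h)⟩

section Sz
open Cfsg.H7.Suz

theorem rb_sz {F : Type*} [Field F] [CharP F 2] [Fintype F] {θ : F →+* F} [Tits θ]
    (hF : 4 < Fintype.card F) : RB ⊤ (szU θ) := by
  obtain ⟨h, hh⟩ := exists_unit_order (F := F) dvd_rfl
  refine rb_of_coord (w θ) (fun x => M x 0 1) (fun g x hx x1 h1 => ?_) (fun g => exists_uwb)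
    (fun z hz z2 x hx => ?_) (fun z _ y _ a1 a2 a3 a4 => ?_) ?_ ?_ ⊤ ?_ (h := h) trivial (by omega)
  · obtain ⟨z, hz, z1, z2, h2⟩ : ∃ z ∈ szU θ, z ≠ 1 ∧ z * z = 1 ∧ g * z * g⁻¹ ∈ szU θ := by
      by_cases e : x * x = 1
      · exact ⟨x, hx, x1, e, h1⟩
      · refine ⟨x * x, mul_mem hx hx, e, szAt_szU.four x hx, ?_⟩
        convert mul_mem h1 h1 using 1; group
    obtain ⟨b, rfl⟩ := z_of_mem hz z2
    obtain ⟨c, hc⟩ := z_of_mem h2 (by rw [← sq, conj_sq (by rw [sq, z2])])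
    refine mem_norm_szU.2 (eq_zero_of_conj (b := b) (c := c) (fun e => ?_) (by rw [← hc]; group))
    rw [e, u_zero] at hc
    exact conj_ne_one z1 g hc
  · by_cases z1 : z = 1
    · simp [z1]
    · exact (cent_szU hz (by rw [← sq, z2]) z1 x).2 hx
  · exact H3.sz_conj_inv' a3 (by rw [← sq, a1]) a4 (by rw [← sq, a2])
  · rintro _ ⟨a, b, rfl⟩ _ ⟨c, e, rfl⟩
    simp [u_mul, M_u]
  · rintro _ ⟨a, b, rfl⟩ h1
    have : a = 0 := by simpa [M_u] using h1
    rw [sq, u_mul_self, this, zero_mul, u_zero]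
  · rintro c - c0 _ ⟨a, b, rfl⟩
    obtain ⟨s, rfl⟩ := surj θ c
    have s0 : s ≠ 0 := fun e => c0 (by rw [e, map_zero])
    refine ⟨d θ (Units.mk0 (θ s * s) (mul_ne_zero c0 s0)), ?_⟩
    rw [d_conj_u]
    refine ⟨u_mem _ _, ?_⟩
    simp [M_u, Tits.sq]
    left; field_simp

end Sz

section SU
open Cfsg.H3 Cfsg.H3.U3 Matrix

variable {F : Type*} [Field F] {σ : F →+* F} [Invol σ]

omit [Invol σ] in
theorem u3_col {x : U3 σ} (h : M x 2 0 = 0) : M x 1 0 = 0 := by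
  have h1 := col x 0 0
  rw [h, map_zero, mul_zero, zero_mul, zero_add, add_zero] at h1
  simpa using h1

theorem u3_uni {m : U3 σ} (h20 : M m 2 0 = 0) (h0 : M m 0 0 = 1) : m ∈ UU σ := by
  have h10 := u3_col h20
  have h21 : M m 2 1 = 0 := by simpa [h0, h10, h20] using col m 0 1
  have h22 : M m 2 2 = 1 := by
    have := congrArg σ (col m 0 2)
    simpa [h0, h10, h20, Invol.invol] using this
  have h11 : M m 1 1 = 1 := by
    simpa [det_fin_three, h0, h10, h20, h21, h22] using M_det m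
  have h01 : M m 0 1 = -σ (M m 1 2) := by
    have := col m 1 2
    simp [h11, h21, h22] at this
    linear_combination this
  refine ⟨M m 1 2, M m 0 2, ?_, M_injective ?_⟩
  · have := col m 2 2
    simp [h22] at this
    linear_combination this
  · ext i j
    fin_cases i <;> fin_cases j <;> simp [M_u, h0, h10, h20, h21, h22, h11, h01]

theorem u3_conj_d (l : Fˣ) (a b : F) (h) : ∃ h', d σ l * u a b h * (d σ l)⁻¹ =
    u (σ l ^ 2 / l * a) (l * σ l * b) h' := ⟨_, by rw [d_mul_u, mul_inv_cancel_right]⟩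

theorem u3_norm [Finite F] {x : U3 σ} (h : M x 2 0 = 0) : x ∈ 𝒩 (UU σ) := by
  have h0 : M x 0 0 ≠ 0 := fun e => by simpa [det_fin_three, e, h, u3_col h] using M_det x
  have h1 : d σ (Units.mk0 _ h0) ∈ 𝒩 (UU σ) := mem_normalizer_of_forall (by
    rintro _ ⟨a, b, hab, rfl⟩
    obtain ⟨h', e⟩ := u3_conj_d (σ := σ) (Units.mk0 _ h0) a b hab
    exact ⟨_, _, h', e⟩)
  refine (mul_mem_cancel_left (inv_mem h1)).1 (le_norm _ (u3_uni ?_ ?_))
  · simp [M_mul_apply, M_inv_apply, M_d, Fin.rev, h]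
  · simp [M_mul_apply, M_inv_apply, M_d, Fin.rev, h0, Invol.invol]

theorem u3_ti {g x : U3 σ} (hx : x ∈ UU σ) (x1 : x ≠ 1) (h : g * x * g⁻¹ ∈ UU σ) : M g 2 0 = 0 := by
  obtain ⟨a, b, hab, rfl⟩ := hx
  obtain ⟨c, e, hce, h1⟩ := h
  by_contra h0
  have h2 : M (g * u a b hab) = M (u c e hce * g) := by rw [← h1, inv_mul_cancel_right]
  have h3 := congrFun (congrFun h2 1) 0
  have h4 := congrFun (congrFun h2 0) 0
  simp [M_mul_apply, M_u, h0] at h3 h4
  subst h3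
  have h5 : e = 0 := by
    have : e * M g 2 0 = 0 := by simpa using h4
    exact (mul_eq_zero.1 this).resolve_right h0
  subst h5
  exact conj_ne_one x1 g (h1.trans (u_zero _))

theorem u3_mem_norm [Finite F] (hne : UU σ ≠ ⊥) {x : U3 σ} : x ∈ 𝒩 (UU σ) ↔ M x 2 0 = 0 := by
  refine ⟨fun h => ?_, u3_norm⟩
  obtain ⟨y, hy, y1⟩ := exists_ne_one hne
  exact u3_ti hy y1 (conj_mem_of_norm h hy)

theorem u3_bruhat [Finite F] {m : U3 σ} (h : m ∉ 𝒩 (UU σ)) :
    ∃ s ∈ UU σ, ∃ b ∈ 𝒩 (UU σ), m = s * w σ * b := by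
  have h0 : M m 2 0 ≠ 0 := fun e => h (u3_norm e)
  have h1 := col m 0 0
  have h3 : σ (M m 2 0) ≠ 0 := by simpa using h0
  refine ⟨u (M m 1 0 / M m 2 0) (M m 0 0 / M m 2 0) ?_, ⟨_, _, _, rfl⟩, _, u3_norm ?_,
    (mul_inv_cancel_left _ _).symm⟩
  · simp only [map_div₀]
    field_simp
    simp at h1
    linear_combination h1
  · rw [_root_.mul_inv_rev, w_inv, u_inv]
    simp only [M_mul, M_u, M_w]
    simp [mul_apply, Fin.sum_univ_three]
    field_simp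
    simp at h1
    linear_combination h1

variable [CharP F 2]

theorem u3_syl [Finite F] (hne : UU σ ≠ ⊥) : IsSyl 2 (UU σ) ⊤ := by
  refine IsSyl.of_normalizer (isSyl_of_maximal (le_inf le_top (le_norm _)) (isPGroup_UU 2)
    fun Q hQ _ h2 x hx => ?_)
  have h3 := (u3_mem_norm hne).1 (h2 hx).2
  refine u3_uni h3 ?_
  have h4 : ∀ n, M (x ^ n) 0 0 = M x 0 0 ^ n := fun n => by
    induction n with
    | zero => simp [M_one]
    | succ n ih => rw [pow_succ, M_mul_apply, ih, h3, u3_col h3, pow_succ]; ring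
  obtain ⟨k, hk⟩ := isPGroup_iff_forall.1 hQ x hx
  have h5 := h4 (2 ^ k)
  rw [hk, M_one, one_apply_eq] at h5
  exact sub_eq_zero.1 (pow_eq_zero_iff (pow_ne_zero k two_ne_zero) |>.1
    (by rw [sub_pow_char_pow, ← h5, one_pow, sub_self]))

theorem u3_invol {z : U3 σ} (hz : z ∈ UU σ) (h : z ^ 2 = 1) : ∃ b hb, z = u 0 b hb := by
  obtain ⟨a, b, hab, rfl⟩ := hz
  have h1 := congrFun (congrFun (congrArg M h) 0) 2
  rw [sq, u_mul, M_u, M_one] at h1
  have h2 : σ a * a = 0 := by simpa [CharTwo.add_self_eq_zero] using h1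
  obtain rfl : a = 0 := by simpa using h2
  exact ⟨b, hab, rfl⟩

theorem rb_u3 [Finite F] (hN : ∀ m, σ m = m → ∃ a, σ a * a = m) (K : Subring F)
    (hK : ∀ c ∈ K, c ≠ 0 → ∃ l : Fˣ, σ l ^ 2 / l = c) {h : Fˣ} (h1 : (h : F) ∈ K)
    (h2 : 3 < orderOf h) : RB ⊤ (UU σ) := by
  refine rb_of_coord (w σ) (fun x => M x 1 2) (fun g x hx x1 h3 => u3_norm (u3_ti hx x1 h3))
    (fun g => u3_bruhat) (fun z hz z2 => ?_) (fun z a1 y a2 a3 a4 a5 a6 => ?_) ?_ ?_ K ?_ h1 h2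
  · obtain ⟨b, hb, rfl⟩ := u3_invol hz z2
    rintro _ ⟨c, e, hce, rfl⟩
    rw [u_mul, u_mul]
    exact u_congr _ (by ring) (by simp; ring)
  · obtain ⟨b, hb, rfl⟩ := u3_invol a1 a3
    obtain ⟨c, hc, rfl⟩ := u3_invol a2 a4
    exact conj_z hN hb hc (by rintro rfl; exact a5 (u_zero _)) (by rintro rfl; exact a6 (u_zero _))
  · rintro _ ⟨a, b, hab, rfl⟩ _ ⟨c, e, hce, rfl⟩
    simp [u_mul, M_u]
  · rintro _ ⟨a, b, hab, rfl⟩ h3
    obtain rfl : a = 0 := by simpa [M_u] using h3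
    rw [sq, u_mul]
    exact (u_congr _ (by simp) (by simp [CharTwo.add_self_eq_zero])).trans (u_zero (by simp))
  · rintro c hc c0 _ ⟨a, b, hab, rfl⟩
    obtain ⟨l, rfl⟩ := hK c hc c0
    obtain ⟨h', e⟩ := u3_conj_d (σ := σ) l a b hab
    refine ⟨d σ l, ?_⟩
    rw [e]
    exact ⟨⟨_, _, _, rfl⟩, by simp [M_u]⟩

end SU

open Cfsg.H3 Cfsg.H3.U3 in
theorem rb_psu {F : Type*} [Field F] [Fintype F] {n : ℕ} (hn : 2 ≤ n) (hF : Fintype.card F = 4 ^ n) :
    ∃ T : Subgroup (PSU 3 F (2 ^ n)), IsSyl 2 T ⊤ ∧ RB ⊤ T := by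
  have hF' : Fintype.card F = (2 ^ n) ^ 2 := by rw [hF, ← pow_mul, mul_comm, pow_mul]; norm_num
  have : CharP F 2 := charP_of_card_eq_prime_pow (f := n * 2) (by rw [hF', ← pow_mul])
  set σ := H2.frobq hF'
  have hσ : ∀ x, σ x = x ^ 2 ^ n := H2.frobq_apply hF'
  have hne : UU σ ≠ ⊥ := ne_bot_of_mem (x := u 0 1 (by simp [CharTwo.add_self_eq_zero]))
    ⟨_, _, _, rfl⟩ fun e => by simpa [M_u, M_one] using congrFun (congrFun (congrArg M e) 0) 2
  have hR : RB ⊤ (UU σ) := by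
    rcases hn.eq_or_lt with rfl | hn
    · obtain ⟨h, hh⟩ := exists_unit_order (F := F) dvd_rfl
      refine rb_u3 (frobq_norm hF') ⊤ (fun c _ c0 => ⟨Units.mk0 c c0 ^ 13, ?_⟩) (h := h) trivial
        (by rw [hh, hF]; norm_num)
      have h1 := FiniteField.pow_card_sub_one_eq_one c c0
      rw [hF] at h1
      norm_num at h1
      rw [hσ, div_eq_iff (Units.ne_zero _)]
      simp only [Units.val_pow_eq_pow_val, Units.val_mk0]
      calc ((c ^ 13) ^ 2 ^ 2) ^ 2 = (c ^ 15) ^ 6 * (c * c ^ 13) := by ring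
        _ = _ := by rw [h1, one_pow, one_mul]
    · obtain ⟨h, hh⟩ := exists_unit_order (F := F) (d := 2 ^ n - 1)
        (by rw [hF']; simpa using Nat.sub_dvd_pow_sub_pow (2 ^ n) 1 2)
      have h8 : 2 ^ 3 ≤ 2 ^ n := Nat.pow_le_pow_right (by norm_num) hn
      refine rb_u3 (frobq_norm hF') (σ.eqLocus (RingHom.id F)) (fun c hc c0 => ⟨Units.mk0 c c0, ?_⟩)
        (h := h) ?_ (by omega)
      · have : σ c = c := hc
        simp only [Units.val_mk0, this]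
        field_simp
      · change σ h = h
        rw [hσ, show 2 ^ n = orderOf h + 1 by omega, pow_succ, ← Units.val_pow_eq_pow_val,
          pow_orderOf_eq_one, Units.val_one, one_mul]
  obtain ⟨e⟩ := nonempty_U3_equiv hF'
  let f : U3 σ →* PSU 3 F (2 ^ n) := (QuotientGroup.mk' _).comp e.toMonoidHom
  have hf : Function.Surjective f := (QuotientGroup.mk'_surjective _).comp e.surjective
  have ht : (⊤ : Subgroup (U3 σ)).map f = ⊤ := map_top_of_surjective f hf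
  refine ⟨(UU σ).map f, ht ▸ (u3_syl hne).map f, ht ▸ hR.map f fun g _ x hx y hy h1 => ?_⟩
  have h2 : y⁻¹ * (g * x * g⁻¹) ∈ center (U3 σ) := by
    have h3 : (e y)⁻¹ * e (g * x * g⁻¹) ∈ center (SU 3 F (2 ^ n)) := QuotientGroup.eq.1 h1.symm
    rw [← map_inv, ← map_mul] at h3
    exact mem_center_iff.2 fun k => e.injective (by
      rw [map_mul, map_mul e _ k]; exact mem_center_iff.1 h3 _)
  obtain ⟨l, hl⟩ := exists_scalar_of_mem_center (frobq_exists_tr hF') (frobq_exists_ne hF') h2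
  have h3 : (y⁻¹ * (g * x * g⁻¹)) ^ 4 = 1 := by
    have h5 := congrArg (· ^ 4) (mul_inv_cancel_left y (g * x * g⁻¹))
    rwa [Commute.mul_pow (mem_center_iff.1 h2 _), conj_pow, hR.four x hx, hR.four y hy, one_mul,
      mul_one, mul_inv_cancel] at h5
  have h4 : l = 1 := by
    have h6 := congrFun (congrFun (congrArg M h3) 0) 0
    rw [M_pow, hl, smul_pow, one_pow, M_one] at h6
    simp only [Matrix.smul_apply, Matrix.one_apply_eq, smul_eq_mul, mul_one] at h6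
    exact sub_eq_zero.1 (pow_eq_zero_iff (pow_ne_zero 2 two_ne_zero) |>.1
      (by rw [sub_pow_char_pow, show 2 ^ 2 = 4 from rfl, h6, one_pow, sub_self]))
  rw [h4, one_smul, ← M_one (σ := σ), M_injective.eq_iff, inv_mul_eq_one] at hl
  exact hl.symm

end Cfsg.GS
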