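import Cfsg.Agent.GS.R4
import Cfsg.Agent.GS.R5
import Cfsg.Agent.H4.J1.Iso

/-! Reduction of Goldschmidt's theorem to simple groups, 6: the Goldschmidt groups and the
reduction itself. -/

set_option autoImplicit false

namespace Cfsg.GS

open Subgroup Cfsg.L0 Cfsg.H8 Cfsg.FT
open scoped MatrixGroups

universe u

/-- Goldschmidt's theorem for simple groups of order at most `n` -/
def GoldLE (n : ℕ) : Prop :=
  ∀ (G : Type) [Group G] [Finite G], Nat.card G ≤ n → IsSimpleGroup G → ¬ IsMulCommutative G →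
    ∀ (S : Sylow 2 G) (A : Subgroup G), A ≠ ⊥ → IsMulCommutative A →
      Cfsg.IsStronglyClosed A (S : Subgroup G) →
      Cfsg.IsGoldschmidtGroup G ∧ A = Cfsg.omegaOne 2 (S : Subgroup G)

/-- Goldschmidt's theorem for the simple sections of `H` -/
def GoldIn (H : Type u) [Group H] : Prop :=
  ∀ (G : Type) [Group G] [Finite G], Involves G H → IsSimpleGroup G → ¬ IsMulCommutative G →
    ∀ (S : Sylow 2 G) (A : Subgroup G), A ≠ ⊥ → IsMulCommutative A →
      Cfsg.IsStronglyClosed A (S : Subgroup G) →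
      Cfsg.IsGoldschmidtGroup G ∧ A = Cfsg.omegaOne 2 (S : Subgroup G)

theorem GoldSimple.goldIn (h : GoldSimple) (H : Type u) [Group H] : GoldIn H := fun G _ _ _ => h G

theorem GoldLE.goldIn {n : ℕ} (h : GoldLE n) {H : Type u} [Group H] [Finite H]
    (hn : Nat.card H ≤ n) : GoldIn H := fun G _ _ h1 =>
  h G ((Nat.le_of_dvd Nat.card_pos (H8.Involves.card_dvd h1)).trans hn)

theorem GoldIn.mono {G : Type u} {H : Type*} [Group G] [Group H] (h : GoldIn G) (h2 : Involves H G) :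
    GoldIn H := fun Y _ _ h3 => h Y (involves_trans h3 h2)

theorem reeType_congr {G H : Type*} [Group G] [Group H] (e : G ≃* H) (h : IsReeType G) :
    IsReeType H := by
  obtain ⟨h1, h2, t, K, n, h3, h4, h5, ⟨a1, a2, a3, a4, a5⟩, F, _, _, h6, ⟨φ⟩⟩ := h
  have hc : (𝒞₁ t).map (e : G →* H) = 𝒞₁ (e t) := by
    ext y
    obtain ⟨y, rfl⟩ := e.surjective y
    rw [show e y = (e : G →* H) y from rfl, mem_map_iff_mem e.injective, mem_cent1, mem_cent1]
    simp only [MonoidHom.coe_coe, ← map_mul, e.injective.eq_iff]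
  have hz : (zpowers t).map (e : G →* H) = zpowers (e t) := MonoidHom.map_zpowers _ _
  refine ⟨e.symm.isSimpleGroup, fun h7 => h2 ⟨⟨fun a b => e.injective ?_⟩⟩, e t, K.map e, n, h3,
    by rw [e.orderOf_eq, h4], by rw [← hc, index_map_equiv]; exact h5, ⟨?_, ?_, ?_, ?_, ?_⟩, F,
    inferInstance, inferInstance, h6, ⟨(e.subgroupMap K).symm.trans φ⟩⟩
  · rw [map_mul, map_mul, h7.is_comm.comm]
  · rw [← hc, ← hz]; exact map_mono a1
  · rw [← hc]; exact map_mono a2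
  · rw [← hz]
    rintro _ ⟨a, ha, rfl⟩ _ ⟨b, hb, rfl⟩
    rw [← map_mul, a3 a ha b hb, map_mul]
  · rw [← hz, ← Subgroup.map_inf _ _ _ e.injective, a4, Subgroup.map_bot]
  · rw [← hz, ← Subgroup.map_sup, a5, hc]

theorem gold_congr {G H : Type*} [Group G] [Group H] (e : G ≃* H) (h : IsGoldschmidtGroup G) :
    IsGoldschmidtGroup H := by
  rcases h with h | ⟨F, _, _, n, h1, h2, ⟨φ⟩⟩ | ⟨F, _, _, n, h1, h2, ⟨φ⟩⟩ |
    ⟨F, _, _, n, h1, h2, ⟨φ⟩⟩ | ⟨F, _, _, n, h1, h2, h3, ⟨φ⟩⟩ | ⟨⟨φ⟩⟩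
  · exact .inl (reeType_congr e h)
  · exact .inr (.inl ⟨F, _, _, n, h1, h2, ⟨e.symm.trans φ⟩⟩)
  · exact .inr (.inr (.inl ⟨F, _, _, n, h1, h2, ⟨e.symm.trans φ⟩⟩))
  · exact .inr (.inr (.inr (.inl ⟨F, _, _, n, h1, h2, ⟨e.symm.trans φ⟩⟩)))
  · exact .inr (.inr (.inr (.inr (.inl ⟨F, _, _, n, h1, h2, h3, ⟨e.symm.trans φ⟩⟩))))
  · exact .inr (.inr (.inr (.inr (.inr ⟨e.symm.trans φ⟩))))

theorem not8_psl {F : Type*} [Field F] [Fintype F]
    (h : Fintype.card F % 8 = 3 ∨ Fintype.card F % 8 = 5) : ¬ 8 ∣ Nat.card PSL(2, F) := fun e => by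
  have e1 := H3.card_PSL2_mul (F := F)
  rw [(H3.gcd_two_cases _).2 (by omega)] at e1
  have e3 : 16 ∣ Fintype.card F * (Fintype.card F ^ 2 - 1) := e1 ▸ Nat.mul_dvd_mul_right e 2
  generalize Fintype.card F = q at *
  have e4 : Nat.Coprime 16 q := by
    rw [show 16 = 2 ^ 4 from rfl]
    exact Nat.Coprime.pow_left 4 (Nat.coprime_two_left.2 (Nat.odd_iff.2 (by omega)))
  have e5 := e4.dvd_of_dvd_mul_left e3
  have e2 : q ^ 2 % 16 = 9 := by
    have : q % 16 = 3 ∨ q % 16 = 5 ∨ q % 16 = 11 ∨ q % 16 = 13 := by omega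
    rcases this with h | h | h | h <;> simp [Nat.pow_mod, h]
  omega

section
variable {G : Type u} [Group G] [Finite G] {T B L : Subgroup G}

omit [Finite G] in
theorem syl_of_equiv {H : Type*} [Group H] (e : G ≃* H) {P : Subgroup H} (hP : IsSyl 2 P ⊤) :
    IsSyl 2 (P.map (e.symm : H →* G)) ⊤ :=
  map_top_of_surjective (e.symm : H →* G) e.symm.surjective ▸ hP.map _

theorem rb_of_equiv {H : Type*} [Group H] [Finite H] (e : G ≃* H) {P : Subgroup H}
    (hP : IsSyl 2 P ⊤) (h : RB ⊤ P) (hT : IsSyl 2 T ⊤) : RB ⊤ T := by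
  have := h.map_inj (f := (e.symm : H →* G)) e.symm.injective
  rw [map_top_of_surjective _ e.symm.surjective] at this
  exact this.of_syl (syl_of_equiv e hP) hT

/-- the Sylow `2`-subgroups of the Goldschmidt groups -/
theorem gold_cases (h : IsGoldschmidtGroup G) (hT : IsSyl 2 T ⊤) :
    ¬ 16 ∣ Nat.card G ∨ Abel T ∨ RB ⊤ T := by
  rcases h with ⟨-, -, t, K, n, -, h4, h5, ⟨-, -, a3, a4, a5⟩, F, _, _, h6, ⟨φ⟩⟩ |
    ⟨F, _, _, n, h1, h2, ⟨φ⟩⟩ | ⟨F, _, _, n, h1, h2, ⟨φ⟩⟩ |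
    ⟨F, _, _, n, h1, h2, ⟨φ⟩⟩ | ⟨F, _, _, n, h1, h2, h3, ⟨φ⟩⟩ | ⟨⟨φ⟩⟩
  · refine .inl fun e => not8_psl (F := F) (.inl ?_) ?_
    · rw [h6, pow_succ, pow_mul, Nat.mul_mod, Nat.pow_mod]; simp
    · have b1 : DP (zpowers t) K (𝒞₁ t) := ⟨a5, fun b hb => mem_cent.2 fun a ha => a3 a ha b hb, a4⟩
      rw [← card_mul_index (𝒞₁ t), b1.card, card_zpow, h4, Nat.card_congr φ.toEquiv] at e
      have b2 : Nat.Coprime (2 ^ 4) (𝒞₁ t).index :=
        Nat.Coprime.pow_left 4 (Nat.coprime_two_left.2 h5)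
      have := b2.dvd_of_dvd_mul_right e
      omega
  · have : CharP F 2 := charP_of_card_eq_prime_pow h2
    obtain ⟨P, hP⟩ := H3.exists_sylow_eq (F := F) 2
    obtain ⟨g, -, rfl⟩ := (syl_of_equiv φ (isSyl_sylow P)).exists_cj_eq hT
    refine .inr (.inl (Abel.cj ?_ g))
    rw [hP]
    rintro _ ⟨_, ⟨a, rfl⟩, rfl⟩
    refine mem_cent.2 ?_
    rintro _ ⟨_, ⟨b, rfl⟩, rfl⟩
    rw [← map_mul, ← map_mul, ← map_mul, ← map_mul, mul_comm]
  · obtain ⟨_, θ, _, h0⟩ := H7.Suz.exists_tits h2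
    revert φ
    rw [H7.Suz.Sz_eq h0]
    refine fun φ => .inr (.inr (rb_of_equiv φ isSyl_szU (rb_sz ?_) hT))
    have : 2 ^ 3 ≤ 2 ^ (2 * n + 1) := Nat.pow_le_pow_right (by norm_num) (by omega)
    omega
  · obtain ⟨P, hP, h3⟩ := rb_psu h1 h2
    exact .inr (.inr (rb_of_equiv φ hP h3 hT))
  · refine .inl fun e => not8_psl (F := F) (h1 ▸ h3) ?_
    rw [← Nat.card_congr φ.toEquiv]
    exact (show 8 ∣ 16 by norm_num).trans e
  · obtain ⟨ψ⟩ := H4.J1.iso
    rw [Nat.card_congr (φ.trans ψ.symm).toEquiv, H4.J1.main.1]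
    exact .inl (by norm_num)

omit [Finite G] in
theorem eq_of_card_two (h : ♯B = 2) {x y : G} (hx : x ∈ B) (hy : y ∈ B) (x1 : x ≠ 1) (y1 : y ≠ 1) :
    x = y := by
  obtain ⟨z, -, hz⟩ := (Nat.card_eq_two_iff' (1 : B)).1 h
  exact congrArg Subtype.val ((hz ⟨x, hx⟩ fun e => x1 (congrArg Subtype.val e)).trans
    (hz ⟨y, hy⟩ fun e => y1 (congrArg Subtype.val e)).symm)

theorem abel_of_small (hL : Smp L) (hT : IsSyl 2 T L) (hB : SC B T L) (hne : B ≠ ⊥) (ha : Abel B)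
    (hO : B = Om 2 T) (h : ¬ 16 ∣ ♯L) : Abel T := by
  have hE : Elem 2 B := by rw [hO] at ha ⊢; exact elem_Om ha
  have memB : ∀ x ∈ T, x ^ 2 = 1 → x ∈ B := fun x hx h2 => hO ▸ mem_Om hx h2
  obtain ⟨k, hk⟩ := IsPGroup.iff_card.1 hT.isPGroup
  obtain ⟨j, hj⟩ := IsPGroup.iff_card.1 (hT.isPGroup.to_le hB.le)
  have k3 : k ≤ 3 := by
    by_contra hc
    exact h ((show 16 ∣ ♯T from hk ▸ pow_dvd_pow 2 (show 4 ≤ k by omega)).trans (card_dvd hT.le))
  have j0 : j ≠ 0 := fun e => hne (card_eq_one_iff.1 (by rw [hj, e, pow_zero]))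
  have j1 : j ≠ 1 := fun e => by
    obtain ⟨b, hb, b1⟩ := exists_ne_one hne
    refine b1 (hL.eq_one (hT.le (hB.le hb)) (mem_cent.2 fun g hg =>
      commutatorElement_eq_one_iff_mul_comm.1 (eq_one_of_mem hL.Op'
        (zstarA hT (hB.le hb) (fun g hg h1 => ?_) g hg))))
    exact eq_of_card_two (by rw [hj, e, pow_one]) (hB.conj hb hg h1) hb (conj_ne_one b1 g) b1
  by_cases hTB : T ≤ B
  · exact ha.mono hTB
  have jk : j < k := by
    have := card_lt (lt_of_le_of_ne hB.le fun e => hTB e.ge)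
    rwa [hj, hk, Nat.pow_lt_pow_iff_right (by norm_num)] at this
  obtain rfl : j = 2 := by omega
  obtain rfl : k = 3 := by omega
  have hi : B.relIndex T = 2 := by
    have := card_mul_ri hB.le
    rw [hj, hk] at this
    omega
  have two : ∀ a ∈ T, ∀ b ∈ T, (a * b ∈ B ↔ (a ∈ B ↔ b ∈ B)) := fun a h1 b h2 =>
    mul_mem_iff_of_index_two (H := B.subgroupOf T) hi (a := ⟨a, h1⟩) (b := ⟨b, h2⟩)
  have TB : T ≤ 𝒞 B := fun x hx => by
    by_cases xB : x ∈ B
    · exact ha xB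
    by_contra hc
    obtain ⟨a, h1, h2⟩ := SetLike.not_le_iff_exists.1 (mt le_cent1_iff.1 hc)
    have x2 : x ^ 2 ∈ B ⊓ 𝒞₁ x := mem_inf.2
      ⟨by rw [sq, two x hx x hx], pow_mem (self_mem_cent1 x) 2⟩
    have x1 : x ^ 2 ≠ 1 := fun e => xB (memB x hx e)
    have hC : ♯(B ⊓ 𝒞₁ x) = 2 := by
      have b1 : ♯(B ⊓ 𝒞₁ x) ∣ 2 ^ 2 := hj ▸ card_dvd inf_le_left
      have b2 : ♯(B ⊓ 𝒞₁ x) < 2 ^ 2 := hj ▸ card_lt (lt_of_le_of_ne inf_le_left fun e =>
        h2 (e.ge h1).2)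
      have b3 := one_lt_card (ne_bot_of_mem x2 x1)
      generalize ♯(B ⊓ 𝒞₁ x) = m at *
      interval_cases m <;> simp_all
    have b1 : x * a * x⁻¹ ∈ B := conj_mem_of_norm (hB.le_norm hT.le hx) h1
    have ai := inv_eq_of_sq (hE.pow h1)
    have b2 : x * a * x⁻¹ * a = x ^ 2 := by
      refine eq_of_card_two hC ⟨mul_mem b1 h1, mem_cent1.2 ?_⟩ x2 (fun e => h2 (mem_cent1.2 ?_)) x1
      · have c1 := ha.comm b1 h1
        have c2 := ha.comm x2.1 h1
        calc x * a * x⁻¹ * a * x = a * (x * a * x⁻¹) * x := by rw [c1]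
          _ = (x ^ 2 * a) * x⁻¹ * x⁻¹ * x * a := by rw [c2, sq]; group
          _ = _ := by rw [sq]; group
      · calc a * x = (x * a * x⁻¹ * a) * a⁻¹ * x := by rw [e, ai, one_mul]
          _ = _ := by group
    have b3 : a * x⁻¹ ∈ B := memB _ (mul_mem (hB.le h1) (inv_mem hx)) (by
      calc (a * x⁻¹) ^ 2 = x⁻¹ * (x * a * x⁻¹ * a) * x⁻¹ := by rw [sq]; group
        _ = 1 := by rw [b2, sq]; group)
    exact xB (inv_mem_iff.1 ((mul_mem_cancel_left h1).1 b3))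
  intro x hx
  refine mem_cent.2 fun y hy => ?_
  by_cases xB : x ∈ B
  · exact (mem_cent.1 (TB hy) x xB).symm
  by_cases yB : y ∈ B
  · exact mem_cent.1 (TB hx) y yB
  have := mem_cent.1 (TB hx) _ ((two x hx y hy).2 (iff_of_false xB yB))
  rw [mul_assoc] at this
  exact mul_left_cancel this

end

theorem gb_top {G : Type} [Group G] [Finite G] (h : GoldIn G)
    (hs : Smp (⊤ : Subgroup G)) {T B : Subgroup G} (hT : IsSyl 2 T ⊤) (hB : SC B T ⊤) (hne : B ≠ ⊥)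
    (ha : Abel B) : IsGoldschmidtGroup G ∧ B = Om 2 T ∧ (T ≤ B ∨ RB ⊤ T) := by
  have h1 : IsSimpleGroup G := have := hs.isSimpleGroup; topEquiv.symm.isSimpleGroup
  have h2 : ¬ IsMulCommutative G := fun e => hs.nab fun x _ => mem_cent.2 fun y _ => e.is_comm.comm y x
  obtain ⟨S, rfl⟩ := isSyl_top_iff.1 hT
  obtain ⟨h3, h4⟩ := h G involves_self h1 h2 S B hne (abel_iff.1 ha) (sc_top_iff.1 hB)
  refine ⟨h3, h4, ?_⟩
  have h5 : Abel (S : Subgroup G) → (S : Subgroup G) ≤ B := fun e => by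
    rw [h4]
    exact (h G involves_self h1 h2 S S (ne_bot_of_le hne hB.le) (abel_iff.1 e) ⟨le_rfl, fun _ _ _ => id⟩).2.le
  rcases gold_cases h3 hT with e | e | e
  · exact .inl (h5 (abel_of_small hs hT hB hne ha h4 (by rwa [card_top])))
  · exact .inl (h5 e)
  · exact .inr e

theorem GoldIn.hg {G : Type u} [Group G] (h : GoldIn G) : HG G := by
  intro Y _ _ L hL hn T B hT hB hne ha
  let e : Shrink.{0} L ≃* L := Shrink.mulEquiv
  have : Finite (Shrink.{0} L) := Finite.of_equiv _ e.toEquiv.symm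
  let φ : Shrink.{0} L →* Y := L.subtype.comp e
  have hφ : Function.Injective φ := L.subtype_injective.comp e.injective
  have hr : ∀ x ∈ L, ∃ y, φ y = x := fun x hx => ⟨e.symm ⟨x, hx⟩, by simp [φ]⟩
  have ht : (⊤ : Subgroup _).map φ = L := le_antisymm (by rintro _ ⟨y, -, rfl⟩; exact (e y).2)
    fun x hx => by obtain ⟨y, rfl⟩ := hr x hx; exact mem_map_of_mem φ trivial
  have hm : ∀ K ≤ L, (K.comap φ).map φ = K := fun K hK => map_comap_eq_self fun x hx => hr x (hK hx)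
  have hs : Smp (⊤ : Subgroup (Shrink.{0} L)) := by
    refine ⟨fun N hN => ?_, fun e => hL.nab ?_, ?_⟩
    · rcases hL.simple (N.map φ) ⟨(map_mono le_top).trans ht.le,
        ht.ge.trans ((map_mono hN.norm).trans (le_normalizer_map φ))⟩ with e | e
      · exact .inl (map_injective hφ (by rw [e, Subgroup.map_bot]))
      · exact .inr (map_injective hφ (by rw [e, ht]))
    · intro x hx
      obtain ⟨x, rfl⟩ := hr x hx
      refine mem_cent.2 fun y hy => ?_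
      obtain ⟨y, rfl⟩ := hr y hy
      rw [← map_mul, ← map_mul, e.comm (mem_top y) (mem_top x)]
    · rw [card_top, Nat.card_congr e.toEquiv]; exact hL.even
  have hT' : IsSyl 2 (T.comap φ) ⊤ := by
    convert syl_of_equiv e hT.subgroupOf_top
    ext x
    exact (mem_map_equiv (f := e.symm) (K := T.subgroupOf L) (x := x)).symm
  have hB' : SC (B.comap φ) (T.comap φ) ⊤ := ⟨comap_mono hB.le, fun x hx g _ h1 => by
    simp only [mem_comap, map_mul, map_inv] at h1 ⊢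
    exact hB.conj hx (e g).2 h1⟩
  have ha' : Abel (B.comap φ) := fun x hx => mem_cent.2 fun y hy => hφ (by
    rw [map_mul, map_mul, ha.comm hy hx])
  have BL := hB.le.trans hT.le
  obtain ⟨h1, h2, h3⟩ := gb_top (h.mono ((involves_congr_left e).2 hn)) hs hT' hB'
    (fun e => hne (by rw [← hm B BL, e, Subgroup.map_bot])) ha'
  refine ⟨gold_congr e h1, le_antisymm (fun b hb => ?_) (Om_le_iff.2 fun x hx h4 => ?_),
    h3.imp (fun h4 => ?_) fun h4 => ?_⟩
  · obtain ⟨y, rfl⟩ := hr b (BL hb)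
    refine mem_Om (hB.le hb) ?_
    rw [h2] at ha'
    rw [← map_pow, (elem_Om ha').pow (h2.le hb), map_one]
  · obtain ⟨y, rfl⟩ := hr x (hT.le hx)
    exact h2.ge (mem_Om hx (hφ (by rw [map_pow, h4, map_one])))
  · rw [← hm T hT.le, ← hm B BL]
    exact map_mono h4
  · have := h4.map_inj hφ
    rwa [ht, hm T hT.le] at this

/-- the structure of the normal closure modulo its core -/
theorem level3 {G : Type u} [Group G] [Finite G] (h : GoldIn G)
    {S A K : Subgroup G} (hS : IsSyl 2 S ⊤) (ha : Abel A) (hA : SC A S ⊤)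
    (hK : K = normalClosure (A : Set G)) {Q : Type u} [Group Q] {π : K →* Q}
    (hπ : Function.Surjective π) (hker : π.ker = pPrimeCore 2 K) :
    IsSyl 2 ((S.subgroupOf K).map π) ⊤ ∧
    L2 ((S.subgroupOf K).map π) ((A.subgroupOf K).map π) (QuotientGroup.mk' (pCore 2 Q)) := by
  have p2 := Nat.prime_two
  have : Finite Q := Finite.of_surjective π hπ
  have Kn : ⊤ ≤ 𝒩 K := by rw [hK]; exact top_le_norm _
  have AK : A ≤ K := hK ▸ le_normalClosure
  have h1 : IsSyl 2 (S ⊓ K) K := hS.inf le_top (le_top.trans Kn)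
  have h2 : IsSyl 2 (S.subgroupOf K) ⊤ := by simpa using h1.subgroupOf_top
  have h3 : SC (A.subgroupOf K) (S.subgroupOf K) ⊤ :=
    ⟨fun _ hx => hA.le hx, fun x hx g _ h4 => hA.2 x hx g trivial h4⟩
  have h4 : Abel (A.subgroupOf K) := fun x hx => mem_cent.2 fun y hy => Subtype.ext (ha.comm hy hx)
  have h5 : normalClosure (A.subgroupOf K : Set K) = ⊤ := by
    refine map_injective K.subtype_injective ?_
    rw [← MonoidHom.range_eq_map, range_subtype]
    refine le_antisymm (map_subtype_le _) (hK.le.trans ((closure_le _).2 fun y hy => ?_))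
    obtain ⟨a, haA, hy⟩ := Group.mem_conjugatesOfSet_iff.1 hy
    obtain ⟨g, rfl⟩ := isConj_iff.1 hy
    obtain ⟨k, hk, m, hm, rfl⟩ := h1.frattini (Kn (mem_top g))
    have b1 := conj_mem_of_norm hm (show a ∈ S ⊓ K from ⟨hA.le haA, AK haA⟩)
    refine ⟨_, normalClosure_normal.conj_mem ⟨_, b1.2⟩
      (subset_normalClosure (hA.conj haA trivial b1.1)) ⟨k, hk⟩, ?_⟩
    simp [mul_assoc]
  have ht : (⊤ : Subgroup K).map π = ⊤ := map_top_of_surjective π hπ
  refine ⟨ht ▸ h2.map π, level2 (h.hg.mono (involves_trans (involves_of_surjective hπ)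
    (involves_subgroup K))) (QuotientGroup.mk'_surjective _)
    (by rw [QuotientGroup.ker_mk', Op_top_two]) (ht ▸ h2.map π) (ht ▸ h3.map h2 π) (abel_map h4 π)
    (by rw [coe_map, ← map_normalClosure _ π hπ, h5, ht]) ?_⟩
  set O := Op {2}ᶜ (⊤ : Subgroup Q)
  have cc : π.ker.relIndex (O.comap π) = ♯O := by
    rw [← MonoidHom.comap_bot, relIndex_comap, map_comap_eq_self_of_surjective hπ, relIndex_bot_left]
  have b1 : O.comap π ≤ π.ker := by
    have := normal_of_top_le (Op_nrm {2}ᶜ (⊤ : Subgroup Q)).norm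
    nth_rewrite 1 [hker, ← Op_top_compl]
    refine le_Op (PiG.of_ri (N := π.ker) ?_ ?_) ⟨le_top, top_le_norm _⟩
    · rw [hker, ← Op_top_compl]; exact Op_pi _ _
    · rw [cc]; exact piG_iff.1 (Op_pi _ _)
  rw [← card_eq_one_iff, ← cc]
  exact relIndex_eq_one.2 b1

/-- the structural form of Goldschmidt's theorem from the case of simple groups -/
theorem reduction {G : Type u} [Group G] [Finite G] (h : GoldIn G)
    (S : Sylow 2 G) (A : Subgroup G) (hA : IsMulCommutative ↥A)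
    (hsc : Cfsg.IsStronglyClosed A (S : Subgroup G)) (K : Subgroup G)
    (hK : K = Subgroup.normalClosure (A : Set G)) (Q : Type u) [Group Q] (π : ↥K →* Q)
    (hπ : Function.Surjective π) (hker : π.ker = Cfsg.pPrimeCore 2 ↥K) :
    Cfsg.pCore 2 Q ⊔ commutator Q = ⊤ ∧ Cfsg.pCore 2 Q ≤ Subgroup.center Q ∧
    (∃ T : Sylow 2 Q, (A.subgroupOf K).map π ≤ (T : Subgroup Q) ∧
      (A.subgroupOf K).map π = Cfsg.pCore 2 Q ⊔ Cfsg.omegaOne 2 (T : Subgroup Q)) ∧
    ∃ (ι : Type) (_ : Fintype ι) (L : ι → Type u) (_ : ∀ i, Group (L i)),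
      (∀ i, IsSimpleGroup (L i) ∧ ¬ IsMulCommutative (L i) ∧ Cfsg.IsGoldschmidtGroup (L i)) ∧
      Nonempty (↥(commutator Q) ⧸ Subgroup.center ↥(commutator Q) ≃* ((i : ι) → L i)) := by
  have : Finite Q := Finite.of_surjective π hπ
  obtain ⟨h1, h2⟩ := level3 h (isSyl_sylow S) (abel_iff.2 hA) (sc_top_iff.2 hsc) hK hπ hker
  obtain ⟨T, hT⟩ := isSyl_top_iff.1 h1
  obtain ⟨ι, i1, L, i2, h3, ⟨e⟩⟩ := h2.l1.exists_equiv
  obtain ⟨e'⟩ := h2.nonempty_equiv (QuotientGroup.mk'_surjective _)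
  have hk := QuotientGroup.ker_mk' (pCore 2 Q)
  refine ⟨hk ▸ h2.sup, hk ▸ h2.ctr, ⟨T, ?_, ?_⟩, ι, i1, L, i2, h3, ⟨e'.trans e⟩⟩
  · rw [hT]
    exact map_mono fun _ hx => hsc.1 hx
  · rw [hT, ← hk]
    exact h2.eq

end Cfsg.GS
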