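import Cfsg.Agent.GS.U4

/-! The uniqueness case for groups of order prime to `3`, 5: the uniqueness subgroup. -/

set_option autoImplicit false

namespace Cfsg.GS.Ux

open Subgroup Cfsg.L0 Cfsg.H8 Cfsg.FT Cfsg.BS Cfsg.BS.R Cfsg.GS.T3
open scoped commutatorElement

variable {G : Type} [Group G] [Finite G] {A B C D H K L L' M S T W X Y Z : Subgroup G}
  {a a' b c g k n x y z : G}

theorem zpow_cases (h : a ^ 2 = 1) (hx : x ∈ zpowers a) : x = 1 ∨ x = a := by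
  obtain ⟨m, rfl⟩ := (mem_powers_iff_mem_zpowers.2 hx : x ∈ Submonoid.powers a)
  obtain ⟨j, rfl | rfl⟩ := Nat.even_or_odd' m
  · exact .inl (by simp [pow_mul, h])
  · exact .inr (by simp [pow_succ, pow_mul, h])

namespace M0
variable (h : Mn S A)
include h

omit [Finite G] in
theorem norm_ne (h1 : B ≠ ⊥) (h2 : B ≠ ⊤) : 𝒩 B ≠ ⊤ := fun e =>
  (h.simple.eq_bot_or_eq_top_of_normal B (normal_of_top_le e.ge)).elim h1 h2

theorem cent1_ne (ha : a ∈ A) (a1 : a ≠ 1) : 𝒞₁ a ≠ ⊤ := fun e => by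
  refine norm_ne h (ne_bot_of_mem (mem_zpowers a) a1) (fun e' => ?_)
    (top_le_iff.1 (e.ge.trans ((cent_zpowers a).ge.trans (cent_le_norm _))))
  have h1 := card_le (le_top.trans e'.ge : A ≤ zpowers a)
  rw [card_zpow] at h1
  have := orderOf_le_of_pow_eq_one two_pos (h.elem.pow ha)
  have := h.big
  omega

theorem ne_bot : A ≠ ⊥ := ne_bot_of_card (by have := h.big; omega)

theorem ne_top : A ≠ ⊤ := by
  obtain ⟨a, ha, a1⟩ := exists_ne_one (ne_bot h)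
  exact ne_top_of_le_ne_top (cent1_ne h ha a1) (h.elem.abel.trans (cent_le_cent1 ha))

theorem pp : PP ↥(𝒩 A) := by
  refine ⟨fun ⟨x, _, x1, ⟨j, hj⟩, _⟩ => h.three ?_, fun Y _ _ h1 _ h2 => ?_⟩
  · exact ((dvd_card_of_pgroup Nat.prime_three (isPGroup_zpowers hj)
      (ne_bot_of_mem (mem_zpowers x) x1)).trans (card_subgroup_dvd_card _)).trans
      (card_subgroup_dvd_card _)
  · obtain ⟨K, f, hf⟩ := involves_iff.1 h2
    have := Finite.of_surjective f hf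
    exact .inl (szA_of_isoSuzuki (h.ih _ (norm_ne h (ne_bot h) (ne_top h)) Y h2 inferInstance h1))

theorem loc (ha : a ∈ A) : ∃ P, IsSyl 2 P (𝒞₁ a) ∧ SC A P ⊤ := by
  obtain ⟨P, h1, h2⟩ := exists_isSyl_ge h.elem.pgroup (h.elem.abel.trans (cent_le_cent1 ha))
  exact ⟨P, h1, sc_of_le h.syl h.sc h1.isPGroup h2⟩

theorem not_two (q : Cp A L a) (h1 : ∀ n ∈ 𝒩 A, cj n (A ⊓ L) = A ⊓ L ∨ cj n (A ⊓ L) = C) : False := by
  by_cases e : 𝒩 A ≤ 𝒩 (A ⊓ L)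
  · exact q.a1 (q.smp.eq_one (((h.irr _ inf_le_left e).resolve_left q.ne).ge q.aA).2 q.aC)
  obtain ⟨m, hm, m1⟩ := SetLike.not_le_iff_exists.1 e
  refine h.two (𝒩 A ⊓ 𝒩 (A ⊓ L)) inf_le_left (relIndex_eq_two_iff.2 ⟨m, hm, fun b hb => ?_⟩)
  by_cases e' : b ∈ 𝒩 (A ⊓ L)
  · exact .inr ⟨⟨hb, e'⟩, fun e => m1 ((mul_mem_cancel_left e').1 e.2)⟩
  refine .inl ⟨⟨mul_mem hb hm, cj_eq_iff.1 ?_⟩, fun e => e' e.2⟩
  rw [cj_mul, (h1 m hm).resolve_left fun e => m1 (cj_eq_iff.1 e),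
    ← (h1 b⁻¹ (inv_mem hb)).resolve_left fun e => e' (inv_mem_iff.1 (cj_eq_iff.1 e)), cj_cj_inv]

theorem case2 (ho : ∀ a ∈ A, a ≠ 1 → O2 (𝒞₁ a) = ⊥) : ∃ M, UC S A M := by
  have gen : ∀ b ∈ A, b ≠ 1 → ∀ D, A ≤ D → (∀ M, Cp A M b → M ≤ D) → ncl (𝒞₁ b) A ≤ D :=
    fun b hb b1 D d1 d2 => by
      obtain ⟨P, p1, p2⟩ := loc h hb
      exact st1 (h.ih _ (cent1_ne h hb b1)) p1 (p2.mono p2.le le_rfl le_top) h.elem (ho b hb b1) d1
        fun Y T C Z k q => q.gen.trans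
          (sup_le (d2 _ (q.cp h.elem (pp h) h.irr hb b1)) (q.ZA.trans d1))
  have cm : ∀ L L' a a', Cp A L a → Cp A L' a' → L' ≤ 𝒩 L := fun L L' a a' q q' => by
    by_cases e : A ⊓ 𝒞 L ⊓ 𝒞 L' = ⊥
    · refine (not_two h q (C := A ⊓ L') fun n hn => ?_).elim
      have p := q.conj hn
      rw [cj_inf, cj_eq_iff.2 hn]
      refine (p.dich q).imp_right fun e1 => (p.dich q').resolve_right fun e2 => p.ne ?_
      exact eq_bot_of_le e (le_inf (le_inf inf_le_left e1) e2)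
    obtain ⟨b, hb, b1⟩ := exists_ne_one e
    exact (q'.le_ncl' (le_cent1_iff.2 hb.2)).trans (q.comp hb.1.2 (gen b hb.1.1 b1))
  set X := A ⊔ sSup {L | ∃ a, Cp A L a}
  have n : 𝒩 A ≤ 𝒩 X := le_norm_sup le_rfl
    (le_normalizer_sSup fun g hg L ⟨a, q⟩ => ⟨_, q.conj hg⟩)
  refine ⟨𝒩 X, h, norm_ne h (ne_bot_of_le (ne_bot h) le_sup_left) fun e => ?_, n, fun a ha a1 => ?_⟩
  · by_cases e' : ∃ L a, Cp A L a
    · obtain ⟨L, a, q⟩ := e'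
      exact norm_ne h q.smp.ne_bot (ne_top_of_le_ne_top (cent1_ne h q.aA q.a1) q.le)
        (top_le_iff.1 (e.ge.trans (sup_le q.An (sSup_le fun L' ⟨a', q'⟩ => cm _ _ _ _ q q'))))
    · exact ne_top h (top_le_iff.1 (e.ge.trans
        (sup_le le_rfl (sSup_le fun L ⟨a, q⟩ => (e' ⟨L, a, q⟩).elim))))
  · obtain ⟨P, p1, p2⟩ := loc h ha
    exact frat_le p1 (p2.mono p2.le le_rfl le_top) (le_norm_of_le (gen a ha a1 X le_sup_left
      fun M q => le_sup_of_le_right (le_sSup ⟨a, q⟩))) n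

theorem not_trans (hC : SFx.Hy A C) (t : ∀ x ∈ C, ∀ y ∈ C, x ≠ 1 → y ≠ 1 → ∃ n ∈ 𝒩 A, n * x * n⁻¹ = y)
    {e : ℕ} (he : Odd e) (hc : ♯A = 2 ^ e * 2) : False := by
  obtain ⟨a, ha, a1⟩ := exists_ne_one (ne_bot h)
  have b := h.big
  have h1 : (𝒞₁ a).relIndex (𝒩 A) + 1 = ♯A := by
    have e1 : {z | ∃ y ∈ 𝒩 A, y * a * y⁻¹ = z} = (A : Set G) \ {1} := by
      ext z
      refine ⟨fun ⟨y, hy, e⟩ => e ▸ ⟨conj_mem_of_norm hy ha, conj_ne_one a1 y⟩, fun ⟨hz, z1⟩ => ?_⟩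
      obtain ⟨m, hm, m1⟩ := SFx.meet h.irr (by omega) ⟨ha, a1⟩ hC
      obtain ⟨n, hn, n1⟩ := SFx.meet h.irr (by omega) ⟨hz, z1⟩ hC
      obtain ⟨u, hu, e⟩ := t _ m1 _ n1 (conj_ne_one a1 m) (conj_ne_one z1 n)
      refine ⟨n⁻¹ * u * m, mul_mem (mul_mem (inv_mem hn) hu) hm, ?_⟩
      calc _ = n⁻¹ * (u * (m * a * m⁻¹) * u⁻¹) * n := by group
        _ = z := by rw [e]; group
    rw [← card_conj]
    change Set.ncard {z | ∃ y ∈ 𝒩 A, y * a * y⁻¹ = z} + 1 = Set.ncard (A : Set G)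
    rw [e1, Set.ncard_sdiff_singleton_add_one (one_mem A)]
  refine h.three (Dvd.dvd.trans ?_ ((ri_dvd_card (𝒞₁ a) (𝒩 A)).trans (card_subgroup_dvd_card _)))
  obtain ⟨j, rfl⟩ := he
  have : 2 ^ (2 * j + 1) * 2 % 3 = 1 := by
    rw [← pow_succ, show 2 * j + 1 + 1 = 2 * (j + 1) by ring, pow_mul, Nat.pow_mod]; simp
  rw [← hc, ← h1] at this
  omega

theorem case1 (w1 : W ≠ ⊥) (w2 : Odd ♯W) (w3 : 𝒩 A ≤ 𝒩 W)
    (w4 : ∀ a ∈ A, a ≠ 1 → W ⊓ 𝒞₁ a = O2 (𝒞₁ a)) : UC S A (𝒩 W) := by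
  have el := h.elem
  refine ⟨h, norm_ne h w1 fun e => ?_, w3, fun a ha a1 => ?_⟩
  · have := eq_bot_of_le (inf_eq_bot_of_cop (SFx.cop2 el w2)) (le_inf (le_top.trans e.ge) le_rfl)
    exact ne_bot h this
  have two : ∀ b ∈ A, b ∉ zpowers a → 𝒞₁ a ⊓ 𝒞₁ b ≤ 𝒩 W := fun b hb b1 g hg => by
    have l : zpowers a ⊔ zpowers b ≤ A := sup_le (zpowers_le.2 ha) (zpowers_le.2 hb)
    refine mem_norm_of_cj_le ((cj_le_iff g).2 (SFx.gen1 (el.mono l) ?_ w2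
      (l.trans ((le_norm A).trans w3)) fun x hx => ?_))
    · have h1 := card_lt (lt_of_le_of_ne (le_sup_left : zpowers a ≤ zpowers a ⊔ zpowers b)
        fun e => b1 (e.ge (mem_sup_right (mem_zpowers b))))
      rwa [card_zpow, el.orderOf_eq Nat.prime_two ha a1] at h1
    · have h1 : g ∈ 𝒞₁ x := cent_le_cent1 hx.1 (by rw [cent_sup, cent_zpowers, cent_zpowers]; exact hg)
      rw [w4 x (l hx.1) hx.2, ← cj_le_iff, cj_eq_iff.2 ((Op_nrm _ _).norm h1)]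
      exact (w4 x (l hx.1) hx.2).ge.trans inf_le_left
  obtain ⟨P, p1, p2⟩ := loc h ha
  obtain ⟨Q, _, _, f, hf, hk⟩ := exists_quo0 (Op_nrm {2}ᶜ (𝒞₁ a))
  have AH : A ≤ 𝒞₁ a := p2.le.trans p1.le
  have ko : Odd ♯(up f ⊥) := hk ▸ odd_O2 _
  have kM : up f ⊥ ≤ 𝒩 W := hk ▸ (w4 a ha a1).ge.trans (inf_le_left.trans (le_norm W))
  have ca : ∀ B ≤ A, CA B (up f ⊥) := fun B hB => SFx.caE (el.mono hB) ko (le_norm_ker f (hB.trans AH))
  have k0 : up f ⊥ ⊓ A = ⊥ := inf_eq_bot_of_cop (SFx.cop2 el ko)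
  have s1 : IsSyl 2 (down f P) ⊤ := down_top hf ▸ p1.down f le_rfl
  have s2 : SC (down f A) (down f P) ⊤ := sc_top_iff.2 (sc_down p1 (sc_top_iff.1 p2) hf)
  have nA : 𝒩 (down f A) = down f (𝒞₁ a ⊓ 𝒩 A) := by
    rw [(ca A le_rfl).down_norm_ker AH le_rfl (up_le _ _), down_top hf, top_inf_eq]
  refine le_trans (le_of_down_le (f := f) le_rfl inf_le_left (le_inf (up_le _ _) kM) ?_) inf_le_right
  rw [down_top hf]
  refine frat_le s1 s2 (st1 (szg_mono (h.ih _ (cent1_ne h ha a1)) ((involves_congr_left topEquiv).2 (involves_of_surjective hf))) s1 s2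
    (el.down f) (down_top hf ▸ Op_down_eq_bot le_rfl hk)
    (down_mono f (le_inf AH ((le_norm A).trans w3))) fun Y T C Z k q => ?_)
    (nA.le.trans (down_mono f (inf_le_inf_left _ w3)))
  by_contra hY
  have a0 : down f A ⊓ 𝒞 Y = zpowers (f ⟨a, AH ha⟩) := by
    refine le_antisymm ?_ (zpowers_le.2 ⟨mem_down_of_mem ha, mem_cent.2 fun y _ => ?_⟩)
    · rintro _ ⟨⟨b, hb, rfl⟩, h2⟩
      replace hb : (b : G) ∈ A := hb
      by_contra b1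
      refine hY (le_trans ?_ (down_mono f (le_inf inf_le_left (two b hb fun e => b1 ?_))))
      · rw [← cent_zpowers (b : G), (ca _ (zpowers_le.2 hb)).down_cent_ker (zpowers_le.2 b.2) le_rfl
          (up_le _ _), down_top hf, top_inf_eq, down_zpowers]
        exact cent_symm (zpowers_le.2 h2)
      · rw [← down_zpowers]
        exact mem_down_of_mem e
    · obtain ⟨y, rfl⟩ := hf y
      rw [← map_mul, ← map_mul]
      exact congrArg f (Subtype.ext (mem_cent1.1 y.2))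
  have dp := q.dp (el.down f).abel
  have inj : ∀ x : 𝒞₁ a, (x : G) ∈ A → f x = 1 → (x : G) = 1 := fun x h e =>
    eq_one_of_mem k0 ⟨coe_mem_up.2 (mem_bot.2 e), h⟩
  have a2 : f ⟨a, AH ha⟩ ^ 2 = 1 := (el.down f).pow (mem_down_of_mem ha)
  have a3 : orderOf (f ⟨a, AH ha⟩) = 2 := orderOf_eq_prime a2 fun e => a1 (inj _ ha e)
  obtain ⟨e, he, -, hc⟩ := q.deg
  obtain ⟨k, hk, rfl⟩ := mem_down.1 (nA.le q.kA)
  refine not_trans h (C := A ⊓ up f C) ⟨inf_le_left, fun x hx y hy x1 y1 => ⟨mul_mem hx hy, ?_⟩⟩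
    (fun x hx y hy x1 y1 => ?_) he (by rw [← card_down_eq AH k0, dp.card, a0, card_zpow, a3, hc])
  · have key : ∀ x : 𝒞₁ a, (x : G) ∈ A → (x : G) ∉ A ⊓ up f C → f x * f ⟨a, AH ha⟩ ∈ C :=
      fun x hx x1 => by
        obtain ⟨c, hc, d, hd, e⟩ := dp.sd.mem (mem_down_of_mem hx)
        rw [a0] at hd
        rcases zpow_cases a2 hd with rfl | rfl
        · exact (x1 ⟨hx, coe_mem_up.2 (by rwa [← e, mul_one])⟩).elim
        · rwa [← e, mul_assoc, ← sq, a2, mul_one]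
    have := mul_mem (key ⟨x, AH hx⟩ hx x1) (key ⟨y, AH hy⟩ hy y1)
    refine (coe_mem_up (f := f) (x := ⟨x, AH hx⟩ * ⟨y, AH hy⟩)).2 ?_
    rwa [mul_assoc, ← mul_assoc (f ⟨a, _⟩), (el.down f).abel.comm (mem_down_of_mem ha)
      (mem_down_of_mem (x := ⟨y, AH hy⟩) hy), mul_assoc, ← sq, a2, mul_one, ← map_mul] at this
  · obtain ⟨m, e⟩ := q.tr (f ⟨x, AH hx.1⟩) (coe_mem_up.1 hx.2) (f ⟨y, AH hy.1⟩) (coe_mem_up.1 hy.2)
      (fun e => x1 (inj _ hx.1 e)) fun e => y1 (inj _ hy.1 e)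
    refine ⟨k ^ m, pow_mem hk.2 m, mul_inv_eq_one.1
      (inj (k ^ m * ⟨x, AH hx.1⟩ * (k ^ m)⁻¹ * (⟨y, AH hy.1⟩ : 𝒞₁ a)⁻¹)
        (mul_mem (pow_conj_mem hk.2 hx.1 m) (inv_mem hy.1)) ?_)⟩
    rw [map_mul, map_mul, map_mul, map_inv, map_inv, map_pow, e, mul_inv_cancel]

end M0

theorem _root_.Cfsg.GS.T3.taskU (hb : KBal) (hs : SF) : T3.TaskU := by
  intro G _ _ S A h
  obtain ⟨W, w2, w3, w4⟩ := hs G A h.ft h.simple h.elem h.big h.irr fun H h1 h2 a ha a1 =>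
    le_trans (inf_comm (𝒞₁ a) H ▸ le_trans (le_inf inf_le_left (inf_le_inf_right _ (Op_le _ _)))
      (Op_inf_le _ inf_le_left)) (hb G H a h.ft (h.ih H h1) (h2 ha) ⟨a1, SFx.sq1 h.elem ha⟩)
  by_cases e : W = ⊥
  · exact M0.case2 h fun a ha a1 => by rw [← w4 a ha a1, e, bot_inf_eq]
  · exact ⟨_, M0.case1 h e w2 w3 w4⟩

end Cfsg.GS.Ux
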