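import Cfsg.Agent.GS.Fin3
import Cfsg.Agent.GS.A3
import Cfsg.Agent.GS.U5
import Cfsg.Agent.GS.F4
import Cfsg.Agent.GS.D4

/-! Simple groups of order prime to `3` are Suzuki groups. -/

set_option autoImplicit false

namespace Cfsg.GS

open T3

theorem sz3 : H8.Sz3 :=
  sz3_of (taskU Kx.kBal SFx.sf) Ax.taskL0 (Ax.taskL1 Kx.kOne Kx.kM) (taskL2 Kx.k0) taskL3
    (taskL4 (Ax.taskL1 Kx.kOne Kx.kM))

end Cfsg.GS
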