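import Cfsg.Agent.GS.R6
import Cfsg.Agent.BS.Fin
import Cfsg.Agent.BS.R0
import Cfsg.Agent.H8.Sz3

/-! Pieces of the proof of `H8.Sz3` (simple groups of order prime to `3` are Suzuki groups), the
first stage of Goldschmidt's theorem. Notation of the sketches: `O(H) = O2 H`, `N = N(A)`,
`q = |A|`, `I` = conjugates of the elements of `A#` (`InI A`), hyperplane = subgroup of index `2`
of `A`, `K_H` = subgroup generated by the `H`-conjugates of `A ∩ H`. -/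

set_option autoImplicit false

namespace Cfsg.GS.T3

open Subgroup Cfsg.L0 Cfsg.H8 Cfsg.FT Cfsg.BS Cfsg.BS.R
open scoped commutatorElement

/-- all non-abelian simple sections are Suzuki groups -/
def SzG (H : Type) [Group H] : Prop :=
  ∀ (Y : Type) [Group Y] [Finite Y], Involves Y H → IsSimpleGroup Y → ¬ IsMulCommutative Y →
    Lie.IsoSuzuki Y

section
variable {G : Type} [Group G]

/-- `x` is conjugate to an element of `A#` -/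
def InI (A : Subgroup G) (x : G) : Prop := x ≠ 1 ∧ ∃ g, g * x * g⁻¹ ∈ A

/-- `N(A)` is irreducible on `A` -/
def Irr (A : Subgroup G) : Prop := ∀ B, B ≤ A → 𝒩 A ≤ 𝒩 B → B = ⊥ ∨ B = A

/-- the minimal counterexample -/
structure Mn (S A : Subgroup G) : Prop where
  ft : OddOrder
  simple : IsSimpleGroup G
  three : ¬ 3 ∣ Nat.card G
  ih : ∀ H : Subgroup G, H ≠ ⊤ → SzG H
  syl : IsSyl 2 S ⊤
  sc : SC A S ⊤
  elem : Elem 2 A
  big : 8 ≤ ♯A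
  irr : Irr A
  two : ∀ K, K ≤ 𝒩 A → K.relIndex (𝒩 A) ≠ 2

/-- the uniqueness case -/
structure UC (S A M : Subgroup G) : Prop extends Mn S A where
  ne : M ≠ ⊤
  nA : 𝒩 A ≤ M
  cA : ∀ a ∈ A, a ≠ 1 → 𝒞₁ a ≤ M

/-- `T` is a Suzuki `2`-group with centre `A`, and `k` acts on it as the torus of `Sz(q)` -/
structure S2G (A T : Subgroup G) (k : G) : Prop where
  pg : IsPGroup 2 T
  ctr : 𝒵 T = A
  card : ♯T = ♯A ^ 2
  sq : ∀ x ∈ T, x * x ∈ A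
  one : ∀ x ∈ A, x * x = 1
  inj : ∀ x ∈ T, ∀ y ∈ T, x * x = y * y → x * y⁻¹ ∈ A
  cen : ∀ x ∈ T, x ∉ A → ∀ y ∈ T, x * y = y * x → y ∈ A ∨ x * y⁻¹ ∈ A
  hyp : ∀ x ∈ T, ∀ y ∈ T, (∀ s ∈ T, ∃ t ∈ T, ⁅x, s⁆ = ⁅y, t⁆) → x ∈ A ∨ x * y⁻¹ ∈ A
  odd : Odd (orderOf k)
  kT : k ∈ 𝒩 T
  tr : ∀ a ∈ A, ∀ b ∈ A, a ≠ 1 → b ≠ 1 → ∃ n : ℕ, k ^ n * a * (k ^ n)⁻¹ = b

/-- `L ≅ Sz(q)` with Sylow `2`-subgroup `T` and torus `⟨k⟩` -/
structure SzP (L T : Subgroup G) (k : G) : Prop where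
  smp : Smp L
  syl : IsSyl 2 T L
  s2g : S2G (𝒵 T) T k
  rb : RB L T
  deg : ∃ e, Odd e ∧ 3 ≤ e ∧ ♯(𝒵 T) = 2 ^ e
  kL : k ∈ L
  ord : orderOf k + 1 = ♯(𝒵 T)
  bor : L ⊓ 𝒩 T = T ⊔ zpowers k
  idx : (𝒩 T).relIndex L = ♯(𝒵 T) ^ 2 + 1
  cz : ∀ z ∈ 𝒵 T, z ≠ 1 → L ⊓ 𝒞₁ z ≤ T
  mx : ∀ Y, T ≤ Y → Y ≤ L → Y ≤ 𝒩 T ∨ Y = L
  wl : ∃ w ∈ L, w * w = 1 ∧ w ∉ 𝒩 T ∧ w * k * w = k⁻¹
  aut2 : ∀ g ∈ 𝒩 L, (∃ n, g ^ 2 ^ n = 1) → g ∈ L ⊔ 𝒞 L
  autO : ∀ g ∈ 𝒩 L, Odd (orderOf g) → g ∈ 𝒞 (𝒵 T) → g ∈ 𝒞 L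
  noab : ∀ Y, Y ≤ L → Abel Y → Odd ♯Y → ♯Y ≤ ♯(𝒵 T) ^ 2

/-- Sylow `2`-subgroup of the centralizer of an involution `v ∈ C(A) \ A` -/
structure Loc1 (A S1 T R : Subgroup G) (v k : G) : Prop extends S2G A T k where
  syl : IsSyl 2 S1 (𝒞₁ v)
  sup : T ⊔ R = S1
  inf : T ⊓ R = ⊥
  cm : R ≤ 𝒞 T
  vR : v ∈ R
  v1 : v ≠ 1
  el : Elem 2 R
  kR : k ∈ 𝒞 R

/-- a Sylow `2`-subgroup `S2` of the stabilizer of the coset `v A` -/
structure Loc2 (A S1 T R S2 : Subgroup G) (v k : G) : Prop extends Loc1 A S1 T R v k where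
  le : S1 ≤ S2
  p2 : IsPGroup 2 S2
  cA : S2 ≤ 𝒞 A
  n1 : S2 ≤ 𝒩 S1
  kS : k ∈ 𝒩 S2
  comm : ∀ s ∈ S2, ∀ r ∈ R, ⁅r, s⁆ ∈ A
  onto : ∀ a ∈ A, ∃ s ∈ S2, s * v * s⁻¹ = v * a

/-- `Loc1` holds at every involution of `C(A) \ A` -/
def All1 (A : Subgroup G) : Prop := ∀ (v : G) (S1 : Subgroup G), Ivo v → v ∉ A → v ∈ 𝒞 A →
  IsSyl 2 S1 (𝒞₁ v) → A ≤ S1 → ∃ T R k, Loc1 A S1 T R v k

/-- `Loc2` holds at every involution of `C(A) \ A` -/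
def All2 (A : Subgroup G) : Prop := ∀ (v : G) (S1 : Subgroup G), Ivo v → v ∉ A → v ∈ 𝒞 A →
  IsSyl 2 S1 (𝒞₁ v) → A ≤ S1 → ∃ T R S2 k, Loc2 A S1 T R S2 v k

end

/-- **Task SF** (completeness of the signalizer functor `θ(a) = O(C(a))`; files `GS/F*.lean`, own
names in `Cfsg.GS.SFx`; prove `sf : SF`). `D = θ(a) ∩ C(A)` does not depend on `a`, `θ(B) = θ(b) ∩
C(B)`. `И` = odd `A`-invariant `X` with `C_X(a) ≤ θ(a)` for all `a`; `𝓜` its maximal members.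
(0) A nonempty `N`-invariant `Y ⊆ A#` meets every hyperplane `B`: else `B^n = B` for all `n` (if
not, `Y` lies in the third hyperplane above `B ∩ B^n`, but `⟨Y⟩ = A`), so `B = 1`.
(1) General lemma (any balanced functor `θ`, induction on `|X|` over all groups): `X` odd,
`A`-invariant `⇒ θ(X) = ⟨θ(a) ∩ X⟩ ∈ И`. Wlog `X = ⟨θ(B)⟩`. For `A`-invariant `Q ⊴ X`,
`θ(Q) = ⟨θ(B) ∩ Q⟩` is normalized by each `θ(B')` (take `1 ≠ a ∈ B ∩ B'`). If `θ(Q) ≠ 1` for a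
proper `Q`, pass to `X/θ(Q)`. Else let `Q` be maximal; some hyperplane `B₀` centralizes `X/Q`; if
`A` does not, `θ(B) = 1` for `B ≠ B₀`; if it does, `[θ(B), A] ≤ Q ∩ θ(B) = 1`, `X = D`.
(2) For `1 ≠ Y ∈ И`, `N°(Y) = θ(O(N(Y))) ∈ И` contains all members of `И` in `N(Y)`; `N°(Y) = M`
if `Y ⊴ M ∈ 𝓜`. (3) `D` is transitive on the maximal `p`-groups in `И` (maximal intersection `R`:
use `N°(R)`, or `θ(a)` with `C_P(a) ≠ 1 ≠ C_Q(a)` if `R = 1`); their intersection `P₀(p)` is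
`N`-invariant and contains every `D`-invariant `p`-group in `И`. (4) K1: `X` odd, `Y ≤ X` a
`p`-group invariant under `a` and `C_X(a)` `⇒ [Y,a] ≤ O_p(X)` (GW/M1 `k1` part (b), `k0`).
(5) Bender (GW/M2 `Inf.one`, `one'`; redo `two`, `three` in `𝓜` with `N°`): `M, L ∈ 𝓜`,
`Inf M L`, `π(F(L)) ⊆ π(F(M))` `⇒ L = M`, or both are of characteristic `p`; then by ZJ
`M = N°(ZJ P)`, `P` is a maximal `p`-group in `И`, so `L = M^d`, `d ∈ D`.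
(6) It suffices to find `M ∈ 𝓜` and `a` with `θ(a^n) ≤ M` for all `n ∈ N`: by (0) `θ(B) ≤ M` for
all `B`. (7) Suppose all `θ(a) ∈ 𝓜`. If `O_r(θ a) ≠ 1`, then `C_{P₀(r)}(O_r(θ a)) ≤ θ(a)`, so
`U = C_{P₀}(a)` is self-centralizing in `P₀`, `a` centralizes `P₀` (`A × B`), so does `A`
(`Irr`); `A` centralizes `F(θ a)`, `θ(a) = D`. (8) Else `θ(a) < M' ∈ 𝓜`, `a` acts on some
`O_p(M')`. Let `Y` be the join of all `θ(a) A`-invariant `p`-groups `Y = [Y,a] ∈ И` (inside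
`P₀(p)`), `N°(Y) ≤ M ∈ 𝓜`, `P = O_p(M)`, `Q = O_{p'}(F(M))`; `Y = [P,a]`, `θ(a) ≤ M`.
(U2) If `L ∈ 𝓜`, `Inf M L`, `L ≠ M`, there is `ℓ ∉ π(F(M))` with `R = O_ℓ(L) ≠ 1`; `R ∩ M = 1`,
`a` inverts `R`, `[L,a]` centralizes `R`; so `Y ≰ L`. (U3) `1 ≠ X ≤ F(M)` normalized by `A Y`
`⇒ N°(X) ≤ M`. If `Q = 1`, `M^n = M` by (5), done. Let `Q ≠ 1`. (U4) `N°(X) ≤ M` for all
`A`-invariant `1 ≠ X ≤ P`. Else take `L ≠ M`, `Inf M L`, `Q ≤ L`, with `T = P ∩ L` maximal; so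
`N°(X) ≤ M` if `T < N_P(X)`. `T < P`, `C_P(T) ≤ T`, `W = [T,a] ≠ 1` (`A × B`), `W ≤ T₀ = C_T(R)`,
`N_P(W) = T`, so `C(a) ∩ N_P(T) ≤ T`. Take `g ∈ N_P(T) \ T` inverted by `a`, centralized by a
hyperplane `B_g`. `⟨W^⟨g⟩⟩ ≰ T₀` (it is `T⟨g⟩A`-invariant), so wlog `W^g ≰ T₀`; `W` lies in the
normal closure in `T` of the `y ∈ T` inverted by `a` and centralized by a hyperplane `B_y`, so
`[y,g] ∉ T₀` for one such `y`. `T₁ = ⟨y,g⟩ ∩ T`, `R'' = [R,T₁] ≠ 1`. For `1 ≠ b ∈ B_g ∩ B_y`, K1 in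
`θ(b)` (for `P ∩ θ(b)`) gives `y, g ∈ O_p(θ b)`, so `[C_{R''}(b), T₁] = 1`, `C_{R''}(b) = 1`. So
`|A| = 8`, `B_g ∩ B_y = ⟨b⟩`, `c = ab` centralizes `R''`; `N` is transitive on `A#` (an orbit of
length `≤ 3` spans or sums to an invariant proper subgroup), `c = a^n`, `M_c = M^n ≥ θ(c) ≥ R''`,
`M_c ≠ M`. `[Q,a]`, `[Q,b]` centralize `R''`, so are `1` by (U3); `Q ≤ M_c`, `Q ∩ Q_c = 1`. Take
`x ∈ Q` of prime order `r`, `⟨x⟩` `A`-invariant, not centralized by `A` if possible;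
`C_{R''}(x) = 1`. `R''` centralizes `Q_c`: `B_c = ⟨a,b⟩^n` centralizes `Q_c`; if `a` does,
`R'' = [R'',a]` does; else some `d ∈ B_c` inverts `x`, `x` and `R'' = [R'',x]` do. `R''`
centralizes `U = P_c`: `[C_U(a), x] ≤ P_c ∩ Q = 1`; compare `FT.wielandt` for the Frobenius groups
`R''⟨a⟩` and `R''⟨xa⟩`. So `R'' ≤ F(M_c)`: false. (★) `P ∩ P^n ≠ 1 ⇒ M^n = M` ((U4), (5)).
Blocks: `Δ = {a' ∈ a^N : θ(a') ≤ M}`; the sets `Δ^n` partition `a^N` (if `θ(a^n) ≤ M` then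
`1 ≠ Y^n ≤ P^n`, `Y^n = [P, a^n]` by K1 and symmetry of orders, so `M^n = M`; simpler: define the
blocks by `M^n = M`). For `a' ∈ Δ` there is a hyperplane `B ∌ a'` with `X = [C_P(B), a'] ≠ 1`; for
`a'' = a^n ∈ B`, `X ≤ [P ∩ M^n, a'] ≤ P^n` (K1 in `M^n`), so `a^N ∩ B ⊆ Δ`. By (0) there are two
different such `B`, so `U₁ = ⟨a^N \ Δ⟩ < A`. With several blocks `Δ_i`: `⋂ U_i = 1` (`Irr`),
`A₁ = ⟨Δ₁⟩ ≤ U_i` (`i ≠ 1`), so `A = A_i × U_i`; let `f_i : A → ±1` be `1` on `U_i` and on `A_i` the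
character of a `B` belonging to another block (it is `-1` on `Δ_i`); `∏ f_i = -1` on `a^N`,
against (0). So `M^n = M` for all `n`. -/
def SF : Prop := ∀ (G : Type) [Group G] [Finite G] (A : Subgroup G), OddOrder → IsSimpleGroup G →
  Elem 2 A → 8 ≤ ♯A → Irr A →
  (∀ H, H ≠ ⊤ → A ≤ H → ∀ a ∈ A, a ≠ 1 → O2 (𝒞₁ a) ⊓ H ≤ O2 H) →
  ∃ W, Odd ♯W ∧ 𝒩 A ≤ 𝒩 W ∧ ∀ a ∈ A, a ≠ 1 → W ⊓ 𝒞₁ a = O2 (𝒞₁ a)

/-- **Task K**, part 0 (files `GS/K*.lean`, names in `Cfsg.GS.Kx`): facts on `Sz(q)` (H7.Sz,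
H3.SzB, GS.R5 `rb_sz`, H8.Sz3 `SzA`, `Cit`). `aut2`: a `2`-element `g` normalizes some Sylow, say
`T`; `T` is regular on the other Sylows, so `τ = g t` normalizes `T`, `T^w` and
`N(T) ∩ N(T^w) = ⟨k⟩`; an involution `τ` acting on `Z = Z(T)` nontrivially and normalizing `⟨k⟩`
gives `C_{⟨k⟩}(τ)` transitive on `C_Z(τ)#`, `[Z,τ] = C_Z(τ)`, `q` a square; so `τ` centralizes `Z`
and `k`, one of the `q - 1` involutions `w k^i`, the Bruhat factors of `w z w`, so `T` and `L`. `autO`: `g` centralizes `T/Z`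
(`inj`), so `T`; `g` permutes the other Sylows commuting with the regular `T`; a prime power part
fixes one, so all. `noab`: `Y` has order prime to `q (q-1)` or lies in a conjugate of `⟨k⟩`; if
`|Y| = q² + 1` it is regular on the Sylows, `Y = C(y)` for `y ∈ Y#`, `|N(Y) : Y| ∈ {1,2,4}` (acts
fixed point freely, lies in `T`); for a prime `r ≠ 5` dividing `q² + 1` (not a power of `5`)
Sylow's theorem gives `q² (q-1) ≡ n₀`, `q ≡ 1 - n₀`, `r ∣ 10`. -/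
def K0 : Prop := ∀ (G : Type) [Group G] [Finite G] (L T : Subgroup G), Lie.IsoSuzuki L →
  IsSyl 2 T L → ∃ k, SzP L T k

/-- **Task K**, part 1: balance. In `H/O(H)`, `X = O(C(t))` centralizes `O₂` (`A × B`) and each
component `L` (if `t` centralizes `L`, `[X,L] ≤ X`; if `t` moves `L`, `X` centralizes the diagonal;
else `X` normalizes `L` and centralizes `Z(T)` modulo `Z(L)`, `aut2`, `autO`), so `X ≤ F* ∩ odd`. -/
def KBal : Prop := ∀ (G : Type) [Group G] [Finite G] (H : Subgroup G) (t : G), OddOrder → SzG H →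
  t ∈ H → Ivo t → O2 (H ⊓ 𝒞₁ t) ≤ O2 H

/-- **Task K**, part 2 (`SzG H` gives `GoldIn H`, then `GS.level3`). `O(H) = ⟨C(b)⟩ ≤ M`,
`H = K_H N_H(B)`, so some component `L` of `K_H/O(K_H)` is not in the image of `M`; then
`C_B(L) = 1`, so `O₂ = 1` and `L` is the only component. -/
def KOne : Prop := ∀ (G : Type) [Group G] [Finite G] (H T B M : Subgroup G), OddOrder → SzG H →
  IsSyl 2 T H → SC B T H → Elem 2 B → 4 ≤ ♯B → H ⊓ 𝒩 B ≤ M →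
  (∀ b ∈ B, b ≠ 1 → H ⊓ 𝒞₁ b ≤ M) → ¬ H ≤ M →
  ∃ (Q : Type) (_ : Group Q) (_ : Finite Q) (f : H →* Q) (L : Subgroup Q) (k : Q),
    Function.Surjective f ∧ up f ⊥ = O2 H ∧ L.Normal ∧ SzP L (down f T ⊓ L) k ∧
      down f B = 𝒵 (down f T ⊓ L)

/-- **Task K**, part 3. If `K_H/O(K_H)` had components, `k` permutes them and is transitive on
`A#`, so there is one, `L ≥ A`, simple; `y` acts on it as an element of `A` fixed by `k`, so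
trivially; then `C(y)` covers `L`, against solvability. -/
def KM : Prop := ∀ (G : Type) [Group G] [Finite G] (H T A Y : Subgroup G) (y k : G), OddOrder →
  SzG H → IsSyl 2 T H → SC A T H → Elem 2 A → 4 ≤ ♯A → y ∈ H → y * y = 1 → y ∈ 𝒞 A → k ∈ H →
  k ∈ 𝒩 A → k * y = y * k → (∀ a ∈ A, ∀ b ∈ A, a ≠ 1 → b ≠ 1 → ∃ n : ℕ, k ^ n * a * (k ^ n)⁻¹ = b) → Sol Y →
  (∀ a ∈ A, ∀ h ∈ H, h * a * h⁻¹ ∈ 𝒞₁ y → h * a * h⁻¹ ∈ Y) → H ≤ O2 H ⊔ 𝒩 A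

/-- **Task K**, part 4: abelian Sylow `2`-subgroups (no components, `O₂(H/O(H))` is
self-centralizing) -/
def KAb : Prop := ∀ (G : Type) [Group G] [Finite G] (H T : Subgroup G), OddOrder → SzG H →
  IsSyl 2 T H → Abel T → H ≤ O2 H ⊔ 𝒩 T ∧ ∀ X, X ≤ H → Odd ♯X → T ≤ 𝒩 X → X ≤ O2 H

/-- **Task U** (files `GS/U*.lean`, names in `Cfsg.GS.Ux`; prove
`taskU (h0 : K0) (hb : KBal) (hs : SF) : TaskU`). Structure of `K_a = K_{C(a)}` modulo `O`: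
`B₀ ∘ L₁ ∘ ⋯ ∘ L_r` (`GS.level3`); `C(a) = K_a N_{C(a)}(A)`. For a component `L`: `A₀ = C_A(L)`,
`|A/A₀| = q_L = 2^e`, `e` odd, and some `k ∈ N(A)` of odd order centralizes `A₀` and is regular on
`(A/A₀)#`; `C₁ = [A,k]`, `A = A₀ × C₁`. Take `W` from `SF` (`O(C(a)) ∩ H ≤ O(C_H(a)) ≤ O(H)`).
Case `W ≠ 1`: `M = N(W)`; `W = ⟨O(C(b)) : b ∈ B#⟩` for noncyclic `B ≤ A`, so `C(B) ≤ M`. If
`C(a) ≰ M`, some `L ≰ M` and `A₀ = ⟨a⟩`. The `⟨k⟩`-orbits on `A#` are `{a}`, `C₁#`, `a C₁#`; `a^N`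
is not `{a}`, not `{a} ∪ C₁#` (the product of its elements is `a`), not `a C₁` (misses the
hyperplane `C₁`, SF (0)), not `A#` (`3 ∣ 2 q_L - 1`). Case `W = 1`: `𝓛` = components `L` of the
`C(a)` with `[L,A] ≠ 1`; `L` is a component of `C(b)` for all `b ∈ A₀#`. If `𝓛 = ∅`, `M = N`. Let
`T_L` be the Sylow `2`-subgroup of `L` normalizing `A`. It centralizes `A`: else (`k` is
irreducible on `T_L/(A ∩ L)`) it induces on `A` an elementary group of order `q_L` centralizing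
`A₀`, against S2752 for `N/C(A)` (`O₂ = 1` by `Irr`). `Z(L) = 1`: for a hyperplane `Z₁` of `Z(L)`
squaring `T_L/(A ∩ L) → Z(L) C₁/Z₁ C₁` is `k`-invariant, so constant on nonzero vectors, so `0`
(rank `≥ 3`, cf. `GS.sq_seven`), `T_L' ≤ C₁`, use `GS.mem_der_of_central`. So `T = T_L ⊴ C(A)`,
`R = O₂(C(A)) = T × C_R(L)`. Let `L ≠ L'` in `𝓛`, `φ : T → T'`, `ψ : T' → T` the projections.
Claim: `C₁ ≤ A₀'` or `C₁ = C₁'`. If `φ(T) ≤ C₁'`, squares give `C₁ ≤ A₀'`. Else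
`T₁ = φ⁻¹(C₁') < T`; for `t ∉ T₁`, `[t,T'] = [φ t, T']` has order `q'/2` and lies in
`[t,T] ∩ C₁'`. If `|T : T₁| = 2`, the squares of `T₁` give `|A₀' ∩ C₁| ≥ q/2`, and
`(q/2)(q'/2) ≤ q`: false. Else (`hyp`) `C₁' ≤ C₁`, by symmetry `C₁ = C₁'`. If `C₁ = C₁'` for some
`L ≠ L'`, then `A₀ ∩ A₀' = 1` (else both are components of one `C(b)` and commute), so no `L''`
has `C₁'' ≤ A₀ ∩ A₀'`, `C₁` is `N`-invariant: false. So always `C₁ ≤ A₀'`, `C₁' ≤ A₀`; if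
`A₀ ∩ A₀' = 1` then `𝓛 = {L, L'}`, against `two` or `Irr`. So the members of `𝓛` commute,
`M = N(⟨𝓛⟩)`. -/
def TaskU : Prop := ∀ (G : Type) [Group G] [Finite G] (S A : Subgroup G), Mn S A → ∃ M, UC S A M

/-- **Task L1** (files `GS/A*.lean`, names in `Cfsg.GS.Ax`; prove
`taskL1 (h1 : KOne) (hM : KM) : TaskL1`; keep the geometry below as reusable lemmas for L4).
`Ω = G/M`, `α = M`. (a) Each `x ∈ I` fixes exactly one point (`SC.fusion`). For `x, y ∈ I` with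
different points `xy` has odd order (a Sylow `2`-subgroup of `⟨x,y⟩` lies in a conjugate of `A`,
its central involution is in `I`). So `I` is one class, `N` is transitive on `A#`, `q = 2^e` with
`e` odd. (b) For an involution `z ∉ I` and `x ∈ I`: there is `c ∈ I ∩ C(z)` with `zc ∈ C(x)`
(central involution of `⟨z,x⟩`), `zc ∉ I`; `c` is unique if `x ∉ C(z)`. (c) Let `z ∉ I` fix `α` and
another point; `T` Sylow in `C_M(z)`, wlog `T ≤ S`, `B = C_A(z) = A ∩ T`, `|B|² ≥ q`. `T` is Sylow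
in `H = C(z)`, `H` is transitive on `Δ_z = Fix(z)`, `KOne` applies: `K_z = K_H`, `K_z/O ≅ Sz(r)`,
`r = |B|`, `|Δ_z| = r² + 1`, there is `k ∈ N_{K_z}(T)` transitive on `B#`. `B = A`: else
`A₁ = N_A(T) > B`; `K'' = ⟨A₁^{N(T)}⟩` stabilizes `T ≥ B ≥ 1` and `C(T) = Z(T) × O(C(T))`, so
`N(T) = O(C(T)) N(A₁)`, `k` acts on `A₁ O/O` commuting with `z`, `[A₁,z] = B`, `q = r²`: false.
(d) Every involution `z ∉ I` fixes two points: else for `x ∈ I` at another point `w = zc` of (b)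
fixes two points; all `wc'`, `c' ∈ I ∩ C(w)`, are conjugate in `C(w)`, and by (b) for `w` one of
them fixes a point outside `Δ_w` and the point of `c'`. So all of them have `q² + 1` fixed points.
`KM` gives `M = O(M) N`, so an involution of `N` (it centralizes a conjugate of `A` in `M`)
centralizes `A`.
(e) `v ∈ C(A) \ A`, `S₁ ≥ A` Sylow in `C(v)`: `S₁ = T × R`, `T = S₁ ∩ K_v`, `R` = kernel of `S₁` on
`Δ_v` (`aut2`), `k ∈ N_{K_v}(S₁)` centralizes `R`. For `u ∈ vA`, `S₁` is Sylow in `C(u)`,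
`Δ_u ∩ Δ_v = {α}` for `u ≠ v`, so `R_u ∩ R_v = 1`; `R_u ⊴ S₁` projects injectively into `Z(T)`, so
`R` is elementary. -/
def TaskL1 : Prop := ∀ (G : Type) [Group G] [Finite G] (S A M : Subgroup G), UC S A M →
  All1 A ∧ ((∃ z, Ivo z ∧ ¬ InI A z) → (∀ z ∈ 𝒩 A, z * z = 1 → z ∈ 𝒞 A) ∧ M ≤ O2 M ⊔ 𝒩 A)

/-- **Task L2** (files `GS/B*.lean`, names in `Cfsg.GS.Bx`; prove `taskL2 (h0 : K0) : TaskL2`).
`V = A × R = Z(S₁) = Ω₁(S₁)`. For `u ∈ vA`, `S₁` is Sylow in `C(u)` (a larger one centralizes `A`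
by `All1`, so `v`); let `k_u` be given by `All1`; it centralizes `V/A`, fixes `u` and is
transitive on `vA \ u`. `G₂ = S₁⟨k_u : u ∈ vA⟩ ≤ N(S₁)` is doubly transitive on `vA`, the
stabilizer of `v` has the normal Sylow `2`-subgroup `S₁`. `C₂ = C_{G₂}(A)` is transitive on `vA`:
else it is the kernel, `Y = G₂/C₂` is faithful on `vA` and on `A`, `O(Y) = 1` (a normal subgroup
`≠ 1` is transitive on `q` points), `O₂(Y) = 1` (`k` is irreducible on `A`), and a component `L`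
(simple, Suzuki) has orbits on `A#` of length dividing `q - 1`, odd and prime to `5`, so (`mx`,
`idx`) it centralizes `A`. Let `S₂` be Sylow in `C₂`; by Frattini replace `k` by `k c`,
`c ∈ C₂ ∩ C(v) ≤ C(V)`, of odd order, normalizing `S₂`; `c` acts on `S₁` as an inner
automorphism (`inj`). -/
def TaskL2 : Prop := ∀ (G : Type) [Group G] [Finite G] (S A : Subgroup G), Mn S A →
  (∃ e, Odd e ∧ ♯A = 2 ^ e) → All1 A → All2 A

/-- **Task L3** (files `GS/C*.lean`, names in `Cfsg.GS.Cx`; prove `taskL3 : TaskL3`). Bars: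
modulo `A`. `s ↦ [v,s]` maps `S₂` onto `A` with kernel `S₁`; a `2`-group stabilizing `vA` has order
`≤ q |S₁|`; `⟨k⟩` is regular on `(S₂/S₁)#`, `(S₁/V)#`, `C_{S̄₂}(k^i) = V̄` if `k^i ∉ C(A)`, and `S₂`
centralizes `S₁/V`. Suppose `z ∈ S₂ \ S₁` is an involution. For `t ∈ S₁`, `z̄^t = z̄ r̄`, `r ∈ R`, and
`(z r)² = [z,r] ≠ 1` unless `r = 1`; so `z̄` centralizes `S̄₁`, every coset of `S₁` contains an
involution, `E = S̄₂` is elementary. `Q(x̄) = x²` is a quadratic map `E → A` with polar form the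
commutator `B`; singular = `Q = 0`. For singular `s̄ ≠ 0`, `S₂` is a Sylow `2`-subgroup of the
stabilizer of `sA` in `C(A)` (symmetry), so `All2` (and conjugation) gives `Loc2` with the same
`S₂`: `V_s = Ω₁(C_{S₂}(s))`, `k_s`; the `V̄_s#` partition the singular vectors, `|V̄_s| = w`, there
are `ν ≥ 2` of them. `ν` is odd: let `N₀ = 1 + ν (w-1)`, `N₁` be the sizes of the fibres of `Q`
over `1` and over `a ≠ 1`; for a character `f ≠ 1` of `A`, `g = ∑ f(Q x) = |E| - q N₁` and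
`g² = ∑_z f(Q z) ∑_x f(B(x,z))` is divisible by `|E| = q² w`, so `N₁` and `N₀` are even. A
`2`-element of `N(S₂)` normalizing `V_s` fixes some `s̄'`, so lies in `S₂`; hence `S₂` is Sylow in
`G`, `Y = N(S₂)/S₂ C(E)` has odd order. `Y₀ = C_Y(A)`. If `Y₀ = 1`: `R₀` minimal normal in `Y` is
semiregular on `A#` (`Y` is transitive), so cyclic; `C_{⟨k_s⟩}(R₀) ≠ 1` (else a Frobenius group
with complement fixing nothing), so `R₀` normalizes `V̄_s`; `[k_s, R₀] ≤ R₀` centralizes `V̄_s`, and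
if it is `1` then `R₀ ≤ ⟨k_s⟩`; so `R₀` centralizes all `V̄_s`, but `C_E(R₀)` is totally singular,
so lies in one `V̄_s`. If `D₀ = C_{Y₀}(k^i) ≠ 1` for some `k^i ≠ 1` in `Y`: `D₀` normalizes `V̄`,
centralizes `S₁/V`, `[D₀,k]` centralizes `A`, `V̄`, `S₂/S₁`, so is `1`; `d ∈ D₀` of prime order is
fixed point free on `S₂/S₁` and on `V̄`; `J̄ = [E,d] ∩ [E,k]` has order `q` and is singular (`Q` is
`d`-invariant and `k`-equivariant), `w = q`, `T̄' = C_E(d)`, `B(T̄', J̄ + V̄) = 0`; take `t + x + r`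
singular with `t ≠ 0`: its `V̄_s` is `{x + φ x + ψ x}`, `ψ` onto `T̄'`, `ψ x ∈ s^⊥ = V̄_s^⊥`, so
`B(T̄', T̄') = 0`: false. Else take `R₀ ≤ Y₀` minimal `k`-invariant, an `r`-group; `R₀⟨k⟩` is
Frobenius, `W = [E,R₀]` has order `w₁^(q-1) ≤ w₁ q²` (`FT.wielandt`), so `q = 8`, `|W| = 128`,
`w₁ = 2`, `W ≥ [E,k]`; fibres of `Q` on `W`: `128 = (2 + 7σ) + 7 n₁`, `n₁ > 0`, `r ∣ n₁`,
`r ∣ 1 + 7σ`, so `r = 127 > n₁`. -/
def TaskL3 : Prop := ∀ (G : Type) [Group G] [Finite G] (S A : Subgroup G), Mn S A → All2 A →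
  ∀ (S1 T R S2 : Subgroup G) (v k : G), Loc2 A S1 T R S2 v k → ∀ z ∈ S2, z * z = 1 → z ∈ S1

/-- **Task L4** (files `GS/D*.lean`, names in `Cfsg.GS.Dx`; uses the geometry of L1; prove
`taskL4 (h1 : KOne) (hM : KM) (hA : KAb) (hb : KBal) : TaskL4`). `V = Ω₁(S₂)`, so `S₂` is Sylow in
`G`, wlog `S = S₂`, `S` is transitive on `vA`. For an involution `u ∉ I`: `Ĥ_u`, `Γ_u` = set and
point stabilizer of `Δ_u`; `KOne` for `Ĥ_u` (and for any proper `H ≥ A`, `H ≰ M`: the orbit of `α`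
has `q² + 1` points); `A`-invariant subgroups of odd order of `Ĥ_u` lie in `Γ_u`; `R_u` is Sylow in
`Γ_u`. No `X ≠ 1` is normalized by `K_u` and `K_{u'}`, `u ≠ u'` in `vA`. Step 1: `O(Γ_u) = 1`,
`V O(M) ⊴ M`. Case `w = |R| ≥ 4`: `O(Γ_u) = ⟨C(r) : r ∈ R_{u'}#⟩ ≤ Γ_{u'}`, `O(Γ_u) O(Γ_{u'})` is
`R_{u'}`-invariant, `KAb` gives `O(Γ_u) ≤ O(Γ_{u'})`, so both are `1`; `O(M) = ⟨C(r)⟩ ≤ Γ_u`, so
`O(M) = 1`, `M = N`. `V̄ = V/A` is strongly closed in `S/A`, `C(r̄) ≤ N(V̄)` in `C(A)/A`; if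
`V ⋬ C(A)`, `KOne` gives `Sz(w)` with Sylow `T̄₁ > V̄`, centralized by `k` (`autO`), so `T₁` fixes
`v`, `T̄₁ ≤ C_{S̄₁}(k) = V̄`. So `V ⊴ C(A)`, `V ⊴ N` (Frattini). Case `w = 2`: `W = O(M) ≥ O(C(A))`
(`KBal`), `v̄ ∈ Z*(N/A)` (`zstarA`), `Γ_u = O(Γ_u)⟨u⟩`. For `p ∣ |O(Γ_u)|` an `A`-invariant Sylow
`p`-subgroup `P` of `Γ_u` has `N(P) ≤ Ĥ_u` (Frattini in `Ĥ_u`: `N(P)` is transitive on `Δ_u`), so
is a maximal `A`-invariant `p`-group, `P ∩ W` is Sylow in `W`. So `W ∩ Γ_u` is a `V`-invariant Hall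
`π(Γ_u)`-subgroup of `W`, independent of `u ∈ vA` (conjugate under `C_W(V) ≤ Γ_u`).
`O(Γ_u) = [O(Γ_u), V] C(V) ≤ Γ_{u'}`, so `O(Γ_u) = O(Γ_{u'}) = 1`, all `u ∈ vA` invert `W`,
`[W,A] = 1`, `M = N`. `L = K_v ≅ Sz(q)` is semiregular outside `Δ_v` (an element fixing `γ`
centralizes the unique `c` with `γ ∈ Fix(vc)`). If `1 ≠ x ∈ C_W(k^i)`, `k^i ≠ 1`, `x` fixes the
second fixed point `β` of `k^i`, `x` is inverted by `v`, so centralizes `A_β`;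
`KOne` for `N(⟨x⟩) ∋ v` shows that `x` fixes `Δ_v` pointwise, `x ∈ Γ_v`: false. So if
`W ≠ 1`, `T` centralizes `W` (Frobenius group `(T/A)⟨k⟩`), `S/T` is elementary (squaring is
`k`-invariant), `[S,k]` centralizes `W` too, `N/C_N(W)` has Sylow `2`-subgroups of order `2`,
against `two`. So `W = 1`. Step 2: now `M = N = N(V)`, `L = K_v ≅ Sz(q)`, the fixed point sets of
the involutions outside `I` ("lines") through a point `γ` are the `q` sets `Δ_u`, `u ∈ V_γ \ A_γ`,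
two lines meet in at most one point. Take `γ ∉ Δ = Δ_v`, `c ∈ I ∩ L` with `γ ∈ Fix(vc)`, and
`v' ∈ V_γ \ A_γ` with `Δ' = Δ_{v'} ≠ Fix(vc)`. Then `Δ' ∩ Δ = ∅` and `Δ' ≠ Fix(vc')` for all `c'`.
For `γ' ∈ Δ'`, `v c(γ') ∈ V_{γ'}` centralizes `v'`; these are `q² + 1` different involutions in
`Y = C_{⟨v⟩ × L}(v') = Y₀⟨vc⟩`, `Y₀ = Y ∩ L` has odd order (an involution of `Y₀` has its point in
`Δ ∩ Δ'`), `C_{Y₀}(c) = 1`, so `Y₀` is abelian of order `≥ q² + 1`, against `noab`. -/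
def TaskL4 : Prop := ∀ (G : Type) [Group G] [Finite G] (S A M : Subgroup G), UC S A M → All2 A →
  (∀ (S1 T R S2 : Subgroup G) (v k : G), Loc2 A S1 T R S2 v k → ∀ z ∈ S2, z * z = 1 → z ∈ S1) →
  ∀ z, Ivo z → InI A z

/-- `q` is an odd power of `2` (part (a) of L1) -/
def TaskL0 : Prop := ∀ (G : Type) [Group G] [Finite G] (S A M : Subgroup G), UC S A M →
  ∃ e, Odd e ∧ ♯A = 2 ^ e

theorem all_inI (hU : TaskU) (h0 : TaskL0) (h1 : TaskL1) (h2 : TaskL2) (h3 : TaskL3) (h4 : TaskL4)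
    {G : Type} [Group G] [Finite G] {S A : Subgroup G} (h : Mn S A) :
    ∃ M, UC S A M ∧ ∀ z, Ivo z → InI A z := by
  obtain ⟨M, hM⟩ := hU G S A h
  have a2 := h2 G S A h (h0 G S A M hM) (h1 G S A M hM).1
  exact ⟨M, hM, h4 G S A M hM a2 (h3 G S A h a2)⟩

end Cfsg.GS.T3
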