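import Cfsg.Agent.GS.Fin3
import Cfsg.Agent.GS.F4

/-! Pieces of the proof of Goldschmidt's theorem `GoldSimple` (keyed to S2775). Notation as in
`GS/T3.lean`: `O(H) = O2 H`, `N = N(A)`, `Γ = N/C(A)`, `q = |A|`, `I` = conjugates of `A#`,
`K_H = ⟨(A ∩ H)^H⟩`, `K_a = K_{C(a)}`, bars = modulo `O`. Goldschmidt groups: type I = `L₂(2^n)`,
`Sz`, `U₃`; type II = `L₂(q)`, `q ≡ ±3 (8)`; type III = Ree type, `J₁`. -/

set_option autoImplicit false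

namespace Cfsg.GS.T4

open Subgroup Cfsg.L0 Cfsg.H8 Cfsg.FT Cfsg.BS Cfsg.BS.R Cfsg.GS.T3
open scoped commutatorElement

section
variable {G : Type} [Group G]

/-- the minimal counterexample -/
structure Mg (S A : Subgroup G) : Prop where
  simple : IsSimpleGroup G
  nab : ¬ IsMulCommutative G
  ih : ∀ H : Subgroup G, H ≠ ⊤ → GoldIn H
  syl : IsSyl 2 S ⊤
  sc : SC A S ⊤
  elem : Elem 2 A
  four : 4 ≤ ♯A
  irr : Irr A
  two : ∀ K, K ≤ 𝒩 A → K.relIndex (𝒩 A) ≠ 2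

/-- the uniqueness case -/
structure UG (S A M : Subgroup G) : Prop extends Mg S A where
  ne : M ≠ ⊤
  nA : 𝒩 A ≤ M
  cA : ∀ a ∈ A, a ≠ 1 → 𝒞₁ a ≤ M

/-- `k` has odd order and is transitive on `A#` -/
structure Tor (A : Subgroup G) (k : G) : Prop where
  odd : Odd (orderOf k)
  kA : k ∈ 𝒩 A
  tr : ∀ a ∈ A, ∀ b ∈ A, a ≠ 1 → b ≠ 1 → ∃ n : ℕ, k ^ n * a * (k ^ n)⁻¹ = b

/-- `T` is a Sylow `2`-subgroup of `U₃(q)` with centre `A`, `k` acts as the torus -/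
structure U3G (A T : Subgroup G) (k : G) : Prop where
  pg : IsPGroup 2 T
  le : A ≤ T
  cA : T ≤ 𝒞 A
  kT : k ∈ 𝒩 T
  ex : ∃ (F : Type) (_ : Field F) (_ : Fintype F) (π ι : G → F) (l : F), Fintype.card F = ♯A ^ 2 ∧
    (∀ x ∈ T, ∀ y ∈ T, π (x * y) = π x + π y) ∧ (∀ x ∈ T, π x = 0 ↔ x ∈ A) ∧
    (∀ c, ∃ x ∈ T, π x = c) ∧ (∀ a ∈ A, ∀ b ∈ A, ι (a * b) = ι a + ι b) ∧
    (∀ a ∈ A, ι a = 0 → a = 1) ∧ (∀ x ∈ T, x * x ∈ A ∧ ι (x * x) = π x ^ (♯A + 1)) ∧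
    (∀ x ∈ T, π (k * x * k⁻¹) = l * π x) ∧ (∀ a ∈ A, ι (k * a * k⁻¹) = l ^ (♯A + 1) * ι a) ∧
    orderOf l * Nat.gcd 3 (♯A + 1) + 1 = ♯A ^ 2

/-- the three types -/
def Ty (A T : Subgroup G) (k : G) : Prop := Tor A k ∧ (T = A ∨ S2G A T k ∨ U3G A T k)

/-- `g` acts on a group of type `U₃` as a graph automorphism -/
def Gr (A T : Subgroup G) (k g : G) : Prop := U3G A T k ∧ ∃ x ∈ T, g * x * g⁻¹ * x⁻¹ ∉ A

/-- `L ≅ L₂(r), Sz(r), U₃(r)`, `r = |Z|`, `Z = Ω₁(T)`, Sylow `2`-subgroup `T`, torus `⟨k⟩` -/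
structure BenP (L T : Subgroup G) (k : G) : Prop where
  smp : Smp L
  syl : IsSyl 2 T L
  el : Elem 2 (Om 2 T)
  four : 4 ≤ ♯(Om 2 T)
  ty : Ty (Om 2 T) T k
  ti : ∀ g ∈ L, ∀ x ∈ T, x ≠ 1 → g * x * g⁻¹ ∈ T → g ∈ 𝒩 T
  two : ∀ g ∈ L, ∀ h ∈ L, g ∉ 𝒩 T → h ∉ 𝒩 T → ∃ x ∈ T, g⁻¹ * x * h ∈ 𝒩 T
  kL : k ∈ L
  bor : L ⊓ 𝒩 T = T ⊔ zpowers k
  idx : (𝒩 T).relIndex L = ♯T + 1
  mx : ∀ Y, T ≤ Y → Y ≤ L → Y ≤ 𝒩 T ∨ Y = L
  gen : ∀ Y, Om 2 T ≤ Y → Y ≤ L → k ∈ 𝒩 Y → Y ≤ 𝒩 T ∨ Y = L ∨ U3G (Om 2 T) T k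
  wl : ∃ w ∈ L, w * w = 1 ∧ w ∉ 𝒩 T ∧ w ∈ 𝒩 (zpowers k)
  aut2 : ∀ g ∈ 𝒩 L, (∃ n, g ^ 2 ^ n = 1) → g ∈ 𝒞 (Om 2 T) →
    g ∈ T ⊔ 𝒞 L ∨ Gr (Om 2 T) T k g
  autT : ∀ g ∈ 𝒩 L, g ∈ 𝒞 T → g ∈ Om 2 T ⊔ 𝒞 L
  autO : ∀ g ∈ 𝒩 L, Odd (orderOf g) → g ∈ 𝒞 (Om 2 T) → g ∈ 𝒞 L ∨ U3G (Om 2 T) T k
  iso : (∃ (F : Type) (_ : Field F) (_ : Fintype F), Fintype.card F = ♯(Om 2 T) ∧ T = Om 2 T ∧
      Nonempty (L ≃* Matrix.SpecialLinearGroup (Fin 2) F)) ∨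
    (Lie.IsoSuzuki L ∧ SzP L T k) ∨
    (∃ (F : Type) (_ : Field F) (_ : Fintype F), Fintype.card F = ♯(Om 2 T) ^ 2 ∧
      U3G (Om 2 T) T k ∧ Nonempty (L ≃* PSU 3 F ♯(Om 2 T)))

/-- local data at an involution `v ∈ C(A) \ A`: `T` Sylow in `K_v`, `R` = kernel of a Sylow
`2`-subgroup of `C(v)` on `K_v/O(K_v)`, `P = T × R` -/
structure Loc (A P T R : Subgroup G) (v k : G) : Prop where
  ty : Ty A T k
  sup : T ⊔ R = P
  inf : T ⊓ R = ⊥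
  cm : R ≤ 𝒞 T
  vR : v ∈ R
  v1 : v ≠ 1
  el : Elem 2 R
  kR : k ∈ 𝒞 R
  nT : 𝒞₁ v ⊓ 𝒩 P ≤ 𝒩 T
  nk : ∀ g ∈ 𝒞₁ v ⊓ 𝒩 A, ∃ n : ℕ, g * k * g⁻¹ * (k ^ n)⁻¹ ∈ 𝒞 A
  top : ∀ g ∈ 𝒞₁ v ⊓ 𝒞 A ⊓ 𝒩 P, (∃ n, g ^ 2 ^ n = 1) → g ∈ P ∨ Gr A T k g

/-- a `2`-group `S2 ≤ C(A)` transitive on `v A` with stabilizer `P` -/
structure Loc2 (A P T R S2 : Subgroup G) (v k : G) : Prop extends Loc A P T R v k where
  le : P ≤ S2
  p2 : IsPGroup 2 S2
  cA : S2 ≤ 𝒞 A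
  n1 : S2 ≤ 𝒩 P
  kS : k ∈ 𝒩 S2
  cv : S2 ⊓ 𝒞₁ v ≤ P
  comm : ∀ s ∈ S2, ∀ r ∈ R, ⁅r, s⁆ ∈ A
  onto : ∀ a ∈ A, ∃ s ∈ S2, s * v * s⁻¹ = v * a
  u3 : U3G A T k → ∀ s ∈ S2, ∀ t ∈ T, ⁅t, s⁆ ∈ A

def AllL (A : Subgroup G) : Prop := ∀ (v : G) (X : Subgroup G), Ivo v → v ∉ A → v ∈ 𝒞 A →
  IsPGroup 2 X → X ≤ 𝒞₁ v ⊓ 𝒩 A → ∃ P T R k, Loc A P T R v k ∧ X ≤ 𝒩 P

def AllL2 (A : Subgroup G) : Prop := ∀ (P T R : Subgroup G) (v k : G), Loc A P T R v k →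
  ∃ S2 k', Loc2 A P T R S2 v k'

/-- the uniqueness case, normalized -/
structure U2 (S A M : Subgroup G) : Prop extends UG S A M where
  mo : M ≤ O2 M ⊔ 𝒩 A
  tr : ∀ a ∈ A, ∀ b ∈ A, a ≠ 1 → b ≠ 1 → ∃ n ∈ 𝒩 A, n * a * n⁻¹ = b
  all : AllL A
  fld : ∀ z ∈ 𝒩 A, z * z = 1 → z ∈ 𝒞 A ∨ ♯A = ♯(A ⊓ 𝒞₁ z) ^ 2

/-- rank `3`: `Γ = 7:3`, `K_a/O(K_a) = ⟨a⟩ × L₂(q)`; `R` = kernel of `S` on all these `L₂(q)` -/
structure W8 (S A R : Subgroup G) : Prop extends Mg S A where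
  card : ♯A = 8
  tr : ∀ a ∈ A, ∀ b ∈ A, a ≠ 1 → b ≠ 1 → ∃ n ∈ 𝒩 A, n * a * n⁻¹ = b
  odd : Odd ((𝒞 A).relIndex (𝒩 A))
  sup : A ⊔ R = S
  inf : A ⊓ R = ⊥
  cm : R ≤ 𝒞 A
  scR : SC R S ⊤
  loc : ∀ a ∈ A, a ≠ 1 → ∃ (Q : Type) (_ : Group Q) (_ : Finite Q) (f : ↥(𝒞₁ a) →* Q)
    (L : Subgroup Q) (F : Type) (_ : Field F) (_ : Fintype F), Function.Surjective f ∧
    up f ⊥ = O2 (𝒞₁ a) ∧ L.Normal ∧ 5 ≤ Fintype.card F ∧
    (Fintype.card F % 8 = 3 ∨ Fintype.card F % 8 = 5) ∧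
    Nonempty (L ≃* Matrix.ProjectiveSpecialLinearGroup (Fin 2) F) ∧ IsSyl 2 (down f A ⊓ L) L ∧
    down f R ≤ 𝒞 L

end

/-- **KB** (helper1, `GS/N*.lean`): the facts on the three families (`K0` for `Sz`; `R5` for `U₃`) -/
def KB : Prop := ∀ (G : Type) [Group G] [Finite G] (L T M : Subgroup G), Smp L → IsSyl 2 T L →
  H9.SPE 2 M L → 4 ≤ ♯(Om 2 T) → ∃ k, BenP L T k

/-- **KG** (helper1): as `KOne`; the component `L ≰ M` has `M ∩ L` strongly embedded (`Fx.spe`) -/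
def KG : Prop := ∀ (G : Type) [Group G] [Finite G] (H T B M : Subgroup G), GoldIn H →
  IsSyl 2 T H → SC B T H → Elem 2 B → 4 ≤ ♯B → H ⊓ 𝒩 B ≤ M →
  (∀ b ∈ B, b ≠ 1 → H ⊓ 𝒞₁ b ≤ M) → ¬ H ≤ M →
  ∃ (Q : Type) (_ : Group Q) (_ : Finite Q) (f : H →* Q) (L : Subgroup Q) (k : Q),
    Function.Surjective f ∧ up f ⊥ = O2 H ∧ L.Normal ∧ BenP L (down f T ⊓ L) k ∧
      down f B = Om 2 (down f T ⊓ L)

/-- **U8** (helper7, `GS/V*.lean`). *Members*: for a component `L̄` of `C(a)/O` with `[L̄,A] ≠ 1`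
put `A₀ = C_A(L̄) ∋ a`, `r = |A/A₀| ≥ 4`, `k ∈ N` of odd order centralizing `A₀`, transitive on
`(A/A₀)#`, `C₁ = [A,k]`. `Ā ≤ N(L̄)`, `O₂(K̄_a) ≤ Ā` (`level3`, K2 `St`). For `b ∈ A₀#` the image in
`C(b)/O` of the perfect preimage of `L̄` in `C(A₀)` is a component of `K̄_b`, or the `L₂(q)` in the
centralizer of an involution of a type III component (pump-up; in type I, II centralizers of
involutions are solvable). *Good* = never pumps up (type III members are good, so good members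
exist if members exist). Good members with `A₀ ∩ A₀' ≠ 1` are equal or commute (`C₁ ≤ A₀'`,
`C₁' ≤ A₀`); a good member is determined by `A₀`. (1) `Z(L̄) = 1`, so `C₁ = A ∩ L` mod `O` is
canonical: abelian Sylow: `T̄ ≤ Ā`, `mem_der_of_central`. `U₃`: the power `w` of `k` centralizing
`A/A₀` centralizes `A`, has no fixed point on `T/(A ∩ L)`, so `T` centralizes `A`; then as in T3
(`RB.seven`, `sq_seven`). `Sz`: as in T3 if `T ≤ C(A)`. Else `T` induces `E ≅ 2³` on `A`,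
`Z₁ = [A,T] ≤ Z(L̄) ≤ A₀`, each character of `Z₁` gives a `k`-invariant nondegenerate pairing
`T/(A ∩ L) × A/A₀ → F₂` (so `r = 8`; or avoid this: only nondegeneracy and `r ≥ 8` matter, adapt).
`|Z₁| = 2`: `Γ` contains all transvections `(z, f)`, `f ∈ F = (A/A₀)*`, `z = z₁`; no `(z', f)`,
`f ≠ 0` in `F`, `z' ∉ A₀` (a `2`-element centralizing `A₀`, so normalizing `L̄`, acting on `A/A₀`;
`SzP.aut2`); `U = {z : (z,f) ∈ Γ ∀ f ∈ F} ≤ A₀` is invariant under all conjugates `(z'',f'')`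
(conjugate `(u,f)`, `f(z'') = 0`), Clifford gives an invariant complement, it lies in `A₀`: false.
`|Z₁| ≥ 4`: commuting conjugates contain `Z₁` in `A₀ ∩ A₀'`, so some `A₀' ∩ A₀ = 1`, `|A| ≤ r²`;
`a' Z₁ ⊆ X = ⋃ A₀^n` for `a' ∈ X \ A₀`; `|A| = 32`: `X = A#`, `3 ∣ 31`; `|A| = 64`, `|Z₁| = 4`:
`A₀' ∩ A₀'^t` has order `2` and contains `Z₁'`; `|Z₁| = 8`: spread of `9`, a conjugate `k'` of `k`
centralizes `A/A₀`, normalizes `A₀` and `L̄`, so centralizes `L̄ ≥ Z₁ = A₀` (`autO`): false.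
(2) *Lin* (pure linear algebra): an `N`-orbit `𝓟` of good members is commuting or `|A| = 8`,
`|A₀| = 2`, `|Γ|` odd, `N` transitive on `A#`. Let `s = |A₀|`, some pair not commuting. The
non-commuting graph is connected (else `A₀ ∩ A₀'' ≥ C₁'`), `s ≤ r`. A commuting pair has
`C₁ = A₀'` (partner), then `|𝓟|` is even, `> 2` (`two`), and `k` shows that `𝓟` is a full spread
of `r + 1` members: false. So the `A₀` are a partial spread, `X = A₀# ∪ ⋃_{a ∈ J} a C₁#`. `1 ∉ J`: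
`X = A \ C₁`, against `Irr`. `J = {1}`: `C₁' = C₁`. The `A₀'` with `u = |A₀' ∩ C₁| > 1` form one
`k`-orbit of length `(r-1)/(u-1)`; if these are all, counting gives `u = s`, `J = {1}`. So
`X = A#`, `u(s-1) ≤ s(u-1)`, `u = s`, `|𝓟| = 1 + s d`, `d = (r-1)/(s-1)`; the suborbits have odd
lengths `d`, `r - 1`; if `s > 2` they are self-paired, `|𝓟|` is even: false. If `s = 2` they are
paired, so `|Γ|` is odd, `Γ` is primitive on `A#`, a minimal normal `E` is regular, cyclic,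
`E⟨k⟩` is Frobenius, `2r = 2^(r-1)`, `r = 4`. (3) No members: `C(a) = O(C a) N_{C(a)}(A)`,
`θ = O(C a)` is balanced (`[X̄,Ā] = 1`, `X̄ ≤ O(C(Ā)) = 1`); for `SF` use `level3` in `H` (or the
general `SFG`), `M = N(W)` or `N`. (4) Commuting: `A = ∏ C_i`, `m ≥ 3` (`two`), `|A| ≥ 64`, one
orbit. `Δ(B) = ⋂_{b ∈ B#} O(C b)`. `Δ(E) ∩ H ≤ O(H)` for `|E| = 8`, `A ≤ H < G` (some `e`
centralizes a type II component; type III is generated by the `C(e)'` by Bender; type I balanced;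
components outside `K̄_H` are centralized by `A`). So `C_{Δ(E)}(B) = Δ(B)` for hyperplanes `B ≥ E`,
`θ(a) = ⟨Δ(B) : a ∈ B⟩ ≤ O(C a)` has `C_{θ(a)}(B) = Δ(B)` (`SFx.complete`, `complete_ker` twice, or
redo (1) of SF with `E ≤ B ∩ B'`), `SF'` gives `W`, `C_W(E) = Δ(E)`, `N(B₀) ≤ N(W)` for
`|B₀| ≥ 16`, `|A₀| ≥ 16`: `M = N(W)`. If `W = 1`: `A` centralizes `O(C(A₀))`, `L_i = K_{A₀}'` is
quasisimple, centralizes `O(C b)`, `b ∈ A₀#` (`[C_{O(C b)}(E), L_i] ≤ Δ(E) = 1` for hyperplanes `E`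
of `A₀`), the `L_i` commute, `C(B)` permutes them if `B` meets every `A₀`, `M = N(∏ L_i)`.
(5) `|A| = 8`: `K̄_a = ⟨a⟩ × L̄`, `S ≤ C(A)`. Not `U₃(4)`: `T_a ∩ T_{a'}` has order `≤ 2`, so `T_{a'}`
centralizes `T_a`, acts on `L̄_a` as elements of `C₁`, its squares centralize `L̄_a`: false. So
`L̄ = L₂(q)` (`SL₂(4) ≅ L₂(5)`), `S = C₁(a) × R_a`, `R_a = C_S(L̄_a)` (K2 `St.split`), `R = ⋂ R_a`.
For an involution `u ∈ S \ A` each `a` gives two elements of `uA ∩ R_a`, `14 > 8`, so some `u'`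
lies in two `R_a`, `K̄_{u'}` is of type III, `u' ∈ R`. If `R = 1`, `S` is elementary, `S = A`; else
`z ∈ R ∩ Z(S)`, `S = A × C_S(K̄_z)`. The projection `S → A` is `N`-equivariant for fusion
(`Fx.ctrl`), so `R` is strongly closed. -/
def U8 : Prop := ∀ (G : Type) [Group G] [Finite G] (S A : Subgroup G), Mg S A → 8 ≤ ♯A →
  (∃ M, UG S A M) ∨ ∃ R, W8 S A R

/-- **SFG** (helper9, `GS/E*.lean`): Goldschmidt's `2`-signalizer functor theorem -/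
def SFG : Prop := ∀ (G : Type) [Group G] [Finite G] (A : Subgroup G) (θ : G → Subgroup G),
  SFx.Fn A θ → SFx.In A θ (SFx.Gn A θ)

/-- **W8a**: abelian Sylow `2`-subgroups of order `8` -/
def W8a : Prop := ∀ (G : Type) [Group G] [Finite G] (A : Subgroup G), W8 A A ⊥ →
  (∃ M, UG A A M) ∨ IsGoldschmidtGroup G

/-- **W8b** (uses `SFG`). `z ∈ R` an involution: `K̄_z = J` is of type III, `K̄_{za} = ⟨a⟩ × L₂(q)`.
`B = A × ⟨z⟩`; `Δ(E)` is weakly balanced for four-groups `E ≤ B`: `[Δ(E) ∩ C(b), A] ≤ O(C b)`; use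
`θ(b) = ⟨[Δ'(B₀), A] : b ∈ B₀⟩ ⋯` (the `5/2`-functor, relative to `A`), `W`, `M = N(W)` or `N(J)`. -/
def W8b : Prop := ∀ (G : Type) [Group G] [Finite G] (S A R : Subgroup G), W8 S A R → R ≠ ⊥ →
  ∃ M, UG S A M

/-- **U4b**: `|A| = 4`, `A = Ω₁(S) < S` (Higman; Brauer; Lyons) -/
def U4b : Prop := ∀ (G : Type) [Group G] [Finite G] (S A : Subgroup G), Mg S A → ♯A = 4 →
  (∀ x ∈ S, x * x = 1 → x ∈ A) → S ≠ A → ∃ M, UG S A M

/-- **U4c**: `|A| = 4`, an involution in `S \ A` (uses `SFG`) -/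
def U4c : Prop := ∀ (G : Type) [Group G] [Finite G] (S A : Subgroup G) (v : G), Mg S A → ♯A = 4 →
  v ∈ S → v * v = 1 → v ∉ A → ∃ M, UG S A M

/-- **G1** (helper2, `GS/G*.lean`): redo A1-A3 for `UG` (copy `GA` with `Mg`). `N` is transitive on
`A#`, so `K̄_M = Ā` or one simple `L̄ ≥ Ā`; type I: `C_M̄(ā) ≤ N(Ā)`, replace `M` by `O(M) N`; abelian
Sylow type II, III: `S̄ = Ā × C_S̄(L̄)`; an involution `z ∉ I` gives `r ≠ 1` in `C_S(L̄)`, `C_M(r)`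
covers `L̄`, but `K_r ∩ M` is solvable by `KG` (or: `L̄` has a strongly embedded subgroup).
(c): `B = C_A(z)`, `|B| ≥ 4` (`q = 4`: `S ≤ C(A)` by `two`), `B = A` or `q = |B|²`. (e):
`R = C_{S₁}(L̄_v)`, `P = T × R`, `k ∈ N_{K_v}(P)`. `R` is elementary: for `u ∈ vA`, `Δ_u ∩ Δ_v = {α}`,
`R_u ∩ R_v = 1`; `P_u = P_v` (graph elements act on `T/A` with fixed space of order `q < q²/2`),
`R_u ⊴ P` projects injectively into `T`, meets `Z(P)`..., `R ≤ Z(P)`, `Φ(R) ≤ R_u ∩ R_v`. -/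
def G1 : Prop := ∀ (G : Type) [Group G] [Finite G] (S A M : Subgroup G), UG S A M →
  (∃ z, Ivo z ∧ ¬ InI A z) → ∃ M', U2 S A M'

/-- **G2** (`GS/G*.lean`). `V = A × R`. For `u ∈ V \ A`, `AllL` gives `Loc` with the same `P` and
type. `G₂ = P⟨k_u : u ∈ vA⟩ ≤ N(P)` centralizes `V/A`, is doubly transitive on `vA`. `U₃`: `w_u`
centralizes `V`, normalizes `T` (`nT`), so `T_u = [P,w_u] = T`; the field structures on `A`, `T/A`
are determined by squaring (polar form, centroid; isometries of the norm form: dihedral of order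
`2(q+1)`), all `k_u` act as scalars, `G₂/C(A)` has order `q - 1`, `C_{G₂}(A)` is transitive on
`vA`, `G₂` acts on `T/A` as an abelian group of odd order. `L₂`, `Sz`: *Aff*: `Y ≤ AGL(A)` doubly
transitive on `X = vA`, `Y_v ≤ ΓL₁(q)` contains the Singer cycle (`nk`), no translations, so `Y` is
faithful and irreducible on `A`, `O₂(Y) = 1`. `Φ = Y_{v,va}` is cyclic, `Φ̂` = setwise stabilizer.
If some class `C` of fixed point free involutions has exactly one member swapping `v`, `va`, then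
products of two members are `2`-elements (the odd part `ρ` fixes a point `x`, `τ` and `τρ` swap
`x, τx`), Baer-Suzuki: false. `|Φ|` even, `σ ∈ Φ`: `|σ^Y| = q + √q`, `q - 1` of them move `v`, so
exactly one, `σ'`, swaps `v, va`; `Φ̂ = Φ × ⟨σ'⟩`, take `C ∋ σσ'`. `|Φ|` odd: `τ` centralizes each
Sylow subgroup of `Φ` with more than `2` fixed points (its centralizer is doubly transitive on
them); so `τ` inverts `φ` of prime order `p`, `q = 2^p`, `Φ = ⟨φ⟩`. `Y_a` has order `2^p p`,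
`Q = O₂(Y_a)`, `C_Q(φ) = 1`, `|Y₂ : Q| = 2^s ∣ p - 1`, `p ∣ 2^(p-s) - 1`, `s = 1`; `N(Y₂) = Y₂`,
one class of involutions, so `|Ω₁ Z(Y₂)| = 2`, `|Ω₁ Z(Q)| = 4`, `p = 3`, `q = 8`,
`|C_A(τ)| = 4 = ⟨a⟩[A,τ]`. `Sz`: squaring `P/V → A` is an equivariant bijection, the fixed points
`x, y, xy` of `τ` have `x² y² = (xy)²`, against `cen`. `L₂` (`P = V`): `y` a `2`-element over `τ`,
`y² ∈ V`; `y² ∉ A` is against `nk` at `y²` (`|ΓL₁(8)|` is odd); `y² ∈ C_A(τ) ≤ [V,y]` gives an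
involution in `yV`, against `fld`. Then as in T3 L2 (Frattini). -/
def G2 : Prop := ∀ (G : Type) [Group G] [Finite G] (S A M : Subgroup G), U2 S A M → AllL2 A

/-- **CSz** (helper1): generalize L3, L4. All involutions of `C(A) \ A` met there are of type `Sz`
(orders; or count points: the type is the same for all). Field involutions do not exist (`q` is
not a square). In L4, `Γ_u = O(Γ_u) R_u` by Burnside (an element of odd order of `C(A) ∩ N(P)`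
centralizes `V/A`...), replace `KAb`, `KBal` accordingly. -/
def CSz : Prop := ∀ (G : Type) [Group G] [Finite G] (S A M P T R S2 : Subgroup G) (v k : G),
  U2 S A M → AllL2 A → Loc2 A P T R S2 v k → S2G A T k → False

/-- **CU3** (helper8). `w` = generator of `C_{⟨k⟩}(A)`, `J = [C_{S2}(w), k]`: `J/A` is elementary of
order `q` (`j² ∈ V \ A` would put `j` in `P`), centralizes `T` (`w`-invariance), is abelian (H1
`alt_zero`), `j² = c [j,v]`, `[j,r] = ψ(r) [j,v]`, `ψ : R → F_q` injective. `c ≠ 0`: look at the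
involutions `x = t j`, `t² = j²` (type `U₃`, `|R_x| ≥ q/2`), and `j r`, `ψ r = c`; reduce to `c = 0`
or contradiction. `c = 0`: `w = q`, `S2 = T × (J R)`, `J R = q^{1+2}`..., the singular classes
`V_x/A` form an ovoid permuted by a group of odd order, paired suborbits. -/
def CU3 : Prop := ∀ (G : Type) [Group G] [Finite G] (S A M P T R S2 : Subgroup G) (v k : G),
  U2 S A M → AllL2 A → Loc2 A P T R S2 v k → U3G A T k → False

/-- **CL2** (helper8). `P = V = A × R`, `J = [S2,k]`, `S2 = J R`, `J` abelian of order `q²`, `c`, `ψ`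
as in CU3, `w = |R|`. (α) `c ∉ ψ(R)`: `Ω₁(S2) = V`, `S2` Sylow in `C(A)`; (β) `c = 0`: `w = q`;
(γ) `c = 1`, `w = 2`: the involutions of `S2 \ J` invert `J`. (α), (β): Steps 1, 2 of L4
(Step 2: `Y₀ ≠ 1` of odd order normalized by a four-group of `L₂(q)`: false), Thompson transfer
for field automorphisms and `w = 2`. (γ): chain `Y₀ = A < Y₁ = J < ⋯` of homocyclic groups inverted
by `v` (`alt_zero`), top `Y⟨v⟩` Sylow in `C(A)`, then transfer (`two`, `Fx.ctrl`). -/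
def CL2 : Prop := ∀ (G : Type) [Group G] [Finite G] (S A M R S2 : Subgroup G) (v k : G),
  U2 S A M → AllL2 A → Loc2 A (A ⊔ R) A R S2 v k → False

/-- **Fld** (helper2): no involution in `C(A) \ A`. `z ∈ S \ C(A)`, `q = r²`, `K̄_z` of type
`L₂(r), Sz(r), U₃(r)` with `Z = B`. `D = M_β`, `t ∈ I` swapping `α, β`: `[D,t] ≤ O(D)` (`Z*`), `O(D)`
is transitive on `I ∩ M`. (*) no four-group of `D` acts on `A` with all fixed spaces of order `r`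
(Brauer-Wielandt on `O(D)`, `r + 1` prime to `r - 1`). So the kernel `R_z` of a Sylow subgroup of
`C(z)` on `Δ_z` is `⟨z⟩` or has one involution; `T_z` centralizes `A` (`U₃`: `w`-argument; `Sz`:
monomials); `S₀ = C_S(A)`, `X = S₀/A`; compare `C_S̄(z̄)` in `S̄ = S/S₀`; `S̄` cyclic or of maximal
class; transfer (`two`). -/
def Fld : Prop := ∀ (G : Type) [Group G] [Finite G] (S A M : Subgroup G), U2 S A M →
  (∀ v ∈ 𝒞 A, v * v = 1 → v ∈ A) → ∀ z, Ivo z → InI A z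

/-- in the uniqueness case all involutions are conjugate into `A` -/
def LU : Prop := ∀ (G : Type) [Group G] [Finite G] (S A M : Subgroup G), UG S A M →
  ∀ z, Ivo z → InI A z

theorem lu_of (h1 : G1) (h2 : G2) (h3 : CSz) (h4 : CU3) (h5 : CL2) (h6 : Fld) : LU := by
  intro G _ _ S A M h z hz
  by_contra hI
  obtain ⟨M', u⟩ := h1 G S A M h ⟨z, hz, hI⟩
  refine hI (h6 G S A M' u (fun v hv v2 => by_contra fun vA => ?_) z hz)
  obtain ⟨P, T, R, k, l, -⟩ := u.all v ⊥ ⟨fun e => vA (e ▸ one_mem _), v2⟩ vA hv IsPGroup.of_bot bot_le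
  obtain ⟨S2, k', l2⟩ := h2 G S A M' u P T R v k l
  rcases l2.ty.2 with e | e | e
  · subst e
    exact h5 G S T M' R S2 v k' u (h2 G S T M' u) (l2.sup ▸ l2)
  · exact h3 G S A M' P T R S2 v k' u (h2 G S A M' u) l2 e
  · exact h4 G S A M' P T R S2 v k' u (h2 G S A M' u) l2 e

/-- **Fin** (`GS/Fin4.lean`): `U8 → W8a → W8b → U4b → U4c → LU → GoldSimple` (`Fx.exists_min`,
`two`, `bender_of`, `gold_of`, `GW.gw4`; a larger abelian strongly closed subgroup is excluded by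
`KB`). -/
def FinG : Prop := U8 → W8a → W8b → U4b → U4c → LU → GoldSimple

end Cfsg.GS.T4
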