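import Cfsg.Agent.GS.JMain
import Cfsg.Agent.GW.P2

/-! Pieces of the proof of `JT2` (an involution centralizer `⟨t⟩ × E` of odd index with
`L₂(q) ≅ L ⊴ E ≤ Aut L`, `|E : L|` odd, forces `E = L`). Notation of the sketches:
`i = |G : C(t)|` (the number of involutions), `A = ⟨t, v, w⟩` (Sylow, elementary of order `8`),
`U ≅ E / L` (field automorphisms), `f = |U|`, `q0` = order of the fixed field of `U`,
"inverted" = inverted by `t`, "odd" = of odd order. -/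

set_option autoImplicit false

namespace Cfsg.GW2

open Subgroup Cfsg.L0 Cfsg.H8 Cfsg.FT Cfsg.GJ
open scoped MatrixGroups

/-- the target -/
def JT2 : Prop :=
  ∀ (G : Type) [Group G] [Finite G], IsSimpleGroup G → ¬ IsMulCommutative G →
    ∀ (t : G) (E L : Subgroup G) (F : Type) [Field F] [Fintype F], orderOf t = 2 →
      Odd (𝒞₁ t).index → Cfsg.IsInternalDirectProduct (zpowers t) E (𝒞₁ t) → L ⊴ E →
      E ⊓ 𝒞 L = ⊥ → Odd (L.relIndex E) → 5 ≤ Fintype.card F →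
      (Fintype.card F % 8 = 3 ∨ Fintype.card F % 8 = 5) → Nonempty (L ≃* PSL(2, F)) → E = L

/-- generated by involutions -/
def GI (G : Type) [Group G] : Prop := closure {s : G | Iv s} = ⊤

section
variable {G : Type} [Group G]

/-- one class of involutions, `C(t) = ⟨t⟩ × E` of odd index, `L₂(q) ≅ L ⊴ E ≤ Aut L` -/
structure WH (t : G) (E L : Subgroup G) (q : ℕ) : Prop where
  iv : Iv t
  tE : t ∉ E
  cm : ∀ k ∈ E, k * t = t * k
  ce : ∀ g, g * t = t * g → g ∈ E ∨ t * g ∈ E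
  od : Odd (𝒞₁ t).index
  one : ∀ s, Iv s → ∃ g, g * t * g⁻¹ = s
  LE : L ≤ E
  nm : E ≤ 𝒩 L
  cl : ∀ g ∈ E, g ∈ 𝒞 L → g = 1
  oi : Odd (L.relIndex E)
  q8 : q % 8 = 3 ∨ q % 8 = 5
  iso : ∃ (F : Type) (_ : Field F) (_ : Fintype F), Fintype.card F = q ∧ Nonempty (L ≃* PSL(2, F))

/-- `E = L U` with `U` a group of field automorphisms; `⟨v, w, x⟩ ≅ A₄` lies over the prime field -/
structure WU (t : G) (E L U : Subgroup G) (v w x : G) (q : ℕ) : Prop extends WH t E L q where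
  UE : U ≤ E
  dec : ∀ g ∈ E, ∃ k ∈ L, ∃ u ∈ U, g = k * u
  dis : ∀ u ∈ U, u ∈ L → u = 1
  cyc : IsCyclic U
  oU : Odd ♯U
  kp : KP v w
  vL : v ∈ L
  wL : w ∈ L
  xL : x ∈ L
  x3 : x ^ 3 = 1
  xv : x * v * x⁻¹ = w
  xw : x * w * x⁻¹ = v * w
  vU : v ∈ 𝒞 U
  wU : w ∈ 𝒞 U
  xU : x ∈ 𝒞 U
  cL : 2 * ♯L = q * (q ^ 2 - 1)
  cV : ∀ k ∈ L, k * v = v * k → k * w = w * k → k ∈ V4 v w
  di : ∀ k ∈ L, k * v = v * k → Odd (orderOf k) → w * k * w = k⁻¹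
  sub : ∀ U1 ≤ U, (∀ g ∈ E, g ∈ 𝒞 U1 → g ∈ 𝒞 (L ⊓ 𝒞 U1) → g ∈ U1) ∧
    ∃ (F : Type) (_ : Field F) (_ : Fintype F), Fintype.card F ^ ♯U1 = q ∧
      Nonempty (↥(L ⊓ 𝒞 U1) ≃* PSL(2, F))

/-- characteristic `3`, `q ≥ 27`: `P` unipotent, `T` diagonal, `Y` the torus through `v` -/
structure W3 (t : G) (E L U P T Y : Subgroup G) (v w x : G) (q n m : ℕ) : Prop
    extends WU t E L U v w x q where
  ks : KS L P T w q
  tT : Tor L T w n
  tY : Tor L Y w (2 * m)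
  vY : v ∈ Y
  hn : 2 * n + 1 = q
  hm : 4 * m = q + 1
  ord : ∀ k ∈ L, k ^ 3 = 1 ∨ k ^ n = 1 ∨ k ^ (2 * m) = 1
  nr : ∀ k ∈ L, ∀ y ∈ L, k ^ 3 = 1 → y * k * y⁻¹ = k⁻¹ → k = 1
  UP : U ≤ 𝒩 P
  UT : U ≤ 𝒩 T
  xP : x ∈ P
  fP : ∀ u ∈ U, ♯(P ⊓ 𝒞₁ u) ^ orderOf u = q
  fT : ∀ u ∈ U, 2 * ♯(T ⊓ 𝒞₁ u) + 1 = ♯(P ⊓ 𝒞₁ u)
  gen : ∃ u q0, zpowers u = U ∧ q0 ^ ♯U = q ∧ ∀ d ∈ T, u * d * u⁻¹ = d ^ q0

/-- fusion facts -/
structure ZF (t : G) (E L U : Subgroup G) : Prop where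
  two : ∀ (y : G) (j : ℕ), y ^ 2 ^ j = 1 → y * y = 1
  inv : ∀ s ∈ E, s * s = 1 → s ∈ L
  tr : ∀ U1 ≤ U, ∀ s ∈ 𝒞 U1, Iv s → ∃ g ∈ 𝒞 U1, g * t * g⁻¹ = s
  fz : ∀ z ∈ E, Odd (orderOf z) → ∀ g, g * z * g⁻¹ ∈ E → z⁻¹ * (g * z * g⁻¹) ∈ L
  cnt : {s : G | Iv s}.ncard = (𝒞₁ t).index
  s7 : ∃ s d, orderOf s = 7 ∧ s ∉ U ∧ s ∈ 𝒞 U ∧ d ∈ 𝒞 U ∧ d ∈ 𝒩 (zpowers s) ∧ d ∉ 𝒞₁ s ∧
    Odd (orderOf d)
  dv : GI G → ♯U ∣ (𝒞₁ t).index

/-- everything that is known before the end games -/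
structure R3 (t : G) (E L U P T Y : Subgroup G) (v w x : G) (q n m : ℕ) : Prop
    extends W3 t E L U P T Y v w x q n m, ZF t E L U where
  ft : OddOrder
  gi : GI G
  tl : ∀ z ∈ L, z ≠ 1 → z ^ n = 1 → ∀ g, g * z = z * g → g * t = t * g
  i1 : (𝒞₁ t).index ≡ 1 [MOD n]
  i3 : ∀ r, r.Prime → r ∣ m → (𝒞₁ t).index ≡ 3 [MOD r]
  cop : (♯U).Coprime n

/-- the inverted elements near `x` inside `H` -/
def X9 (H : Subgroup G) (t x : G) : Prop :=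
  (∀ y ∈ H, Odd (orderOf y) → t * y * t = y⁻¹ → y * x = x * y → y = 1) ∨
  ∃ s ∈ H, orderOf s = 9 ∧ t * s * t = s⁻¹ ∧ s ^ 3 * x = x * s ^ 3 ∧
    (∀ y ∈ H, Odd (orderOf y) → t * y * t = y⁻¹ → y * x = x * y → y ∈ zpowers (s ^ 3)) ∧
    ∀ y ∈ H, Odd (orderOf y) → t * y * t = y⁻¹ → y ∈ 𝒩 (zpowers x ⊔ zpowers (s ^ 3)) →
      y ∈ zpowers s

end

/-- **[S]** (files `GS/WS*.lean`, names in `Cfsg.GW2.Sx`). `GW.Px.exists_aut` (or `Wx.Cv.aut`): every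
`g ∈ E` acts on `L = PSL₂(F)` as `a ↦ M a^ρ M⁻¹`. `ρ_g` is determined by `g` (traces up to sign,
`Px.ring_id`) and `g ↦ ρ_g` is a homomorphism; `U = {g ∈ E | g acts as a ↦ a^ρ}`. If `det M` is a
square, `M` is scalar times an element of `SL₂`, so `g ∈ L U` (`cl`). A non-square is impossible:
`g ^ |E : L| ∈ L` has matrix `M M^ρ ⋯` (odd number of factors) with non-square determinant, but
inner automorphisms have square determinant (`Wx.scalar`). `U` embeds in `Aut F` (cyclic).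
`v, w, x`: `Q₈ ⋊ 3` in `SL₂(𝔽_p)` (for `p = 3`: `x = [1 1; 0 1]`, `w = wSL`, `v = x⁻¹ w x`).
`sub`: `F₁` = fixed field of `U1`, `|F| = |F₁| ^ |U1|` (Artin; `Px.exists_fixed`); `a^ρ = ±a` for `ρ`
of odd order gives `a^ρ = a`; if `k u` centralizes `PSL₂(F₁)` then `k` centralizes `U1`
(`U` is abelian), and `u` is trivial on `F₁`, so `u ∈ U1`, `k = 1`. -/
def TaskS : Prop :=
  ∀ (G : Type) [Group G] [Finite G] (t : G) (E L : Subgroup G) (q : ℕ), WH t E L q →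
    (∃ U v w x, WU t E L U v w x q) ∧
    (3 ∣ q → 3 < q → ∃ U P T Y v w x n m, W3 t E L U P T Y v w x q n m)

/-- **[Z]** (files `GS/WZ*.lean`, names in `Cfsg.GW2.Zx`). `|C(t)| = 2 |L| |U|`, so `A` is a Sylow
`2`-subgroup (`cL`, `q8`); `two`, `inv` follow. `C(A) = A × U` (`dec`, `cV`, `vU`, `wU`).
`N(A)` controls fusion in `A`, so it is transitive on `A#`; `N(A)/C(A)` has odd order, contains
the image of `x` and has order `21`. `N(A)` normalizes `U = O(C(A))`, cyclic, so `N(A)'` and `x`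
centralize `U`; the conjugates of `x` generate `N(A)` modulo `C(A)`, so `N(A) ≤ C(U)`; `tr` by
Sylow in `C(U1)`. `s7`: Frattini for a Sylow `7`-subgroup `X` of `N(A)`, `|X| = 7 |U₇|`, `X` is
abelian, `d` a `3`-element of `N(A) ∩ N(X)` outside `C(A) X`, `s = [σ, d]`. `fz`: `t` and
`s = g⁻¹ t g` lie in `C(z)`; conjugating inside `C(z)` assume `s t = t s`; if `s = t` use that
`E / L` is abelian; else conjugate by `L` to `s ∈ {v, t v}`, `z = k u` with `k ∈ C_L(v)` odd,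
`g₀ ∈ C(U)` with `g₀ s g₀⁻¹ = t` (`tr`), `g₀ k g₀⁻¹ ∈ E` is inverted by an involution of `C(t)` (`di`),
so it lies in `L`. `dv`: transfer `V` from `C(t)` to `C(t)/⟨t⟩L ≅ U`; `V(u) = u ^ i` by `fz`, and `V`
is trivial as `G` is generated by involutions. -/
def TaskZ : Prop :=
  ∀ (G : Type) [Group G] [Finite G] (t v w x : G) (E L U : Subgroup G) (q : ℕ),
    WU t E L U v w x q → ZF t E L U

/-- **[Q]** (files `GS/WQ*.lean`, names in `Cfsg.GW2.Qx`). `Q = C(U1)/U1`. If `[h, t] ∈ U1` then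
`h t h⁻¹ = t u` squares to `u² = 1`. Involutions of `Q` lift uniquely to involutions. Use `sub`,
`tr`; `A ≤ C(U1)` gives the odd index; `q1 % 8` from `q1 ^ odd = q`. -/
def TaskQ : Prop :=
  ∀ (G : Type) [Group G] [Finite G] (t v w x : G) (E L U : Subgroup G) (q : ℕ),
    WU t E L U v w x q → ZF t E L U → ∀ U1 ≤ U,
      ∃ (Q : Type) (_ : Group Q) (_ : Finite Q) (f : ↥(𝒞 U1) →* Q) (ht : t ∈ 𝒞 U1) (q1 : ℕ),
        Function.Surjective f ∧ up f ⊥ = U1 ∧ q1 ^ ♯U1 = q ∧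
        WH (f ⟨t, ht⟩) (down f E) (down f L) q1 ∧
        (down f L).relIndex (down f E) * ♯U1 = ♯U ∧
        {s : G | Iv s ∧ s ∈ 𝒞 U1}.ncard = (𝒞₁ (f ⟨t, ht⟩)).index

/-- **[K]** (with [Q]). `K` = subgroup generated by the involutions. `L` is simple, so `L ≤ K`.
The involutions are conjugate in `K`: `x ∈ K` and the element of order `7` of `N(A)` lies in
`K` (`N(A) = C(A) ⟨conjugates of x⟩`), or use `G = K C(t)`: the `K`-classes are permuted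
transitively by `G`, each meets `A`, and `N(A) = N_K(A) C(A)`. -/
def TaskK : Prop :=
  ∀ (G : Type) [Group G] [Finite G] (t : G) (E L : Subgroup G) (q : ℕ), WH t E L q → 5 ≤ q →
    ∃ (K : Subgroup G) (ht : t ∈ K), GI K ∧ WH (⟨t, ht⟩ : K) (E.subgroupOf K) (L.subgroupOf K) q ∧
      (𝒞₁ (⟨t, ht⟩ : K)).index = (𝒞₁ t).index

/-- **[MC]** (helper9, `GS/MC1.lean`) -/
def TaskMC : Prop :=
  ∀ (G : Type) [Group G] [Finite G] (p : ℕ) (u s d : G), p.Prime → IsPGroup p (zpowers u) → u ≠ 1 →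
    𝒩 (zpowers u) ≤ 𝒞₁ u → orderOf s = p → s ∉ zpowers u →
    IsSyl p (zpowers u ⊔ zpowers s) (𝒞₁ u) → d ∈ 𝒞₁ u → d ∈ 𝒩 (zpowers s) → d ∉ 𝒞₁ s →
    Odd (orderOf d) → u ∉ ⁅(⊤ : Subgroup G), (⊤ : Subgroup G)⁆

/-- **[J1]** (helper7) -/
def TaskJ1 : Prop :=
  ∀ (G : Type) [Group G] [Finite G] (t : G) (L : Subgroup G), WH t L L 5 →
    Nat.card G = 175560 ∧ ∀ p, p = 7 ∨ p = 11 ∨ p = 19 → ∃ s d : G, orderOf s = p ∧
      Odd (orderOf d) ∧ d ∈ 𝒩 (zpowers s) ∧ d ∉ 𝒞₁ s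

/-- **[A4]** (helper7) -/
def TaskA4 : Prop :=
  OddOrder → ∀ (G : Type) [Group G] [Finite G] (t x : G) (L : Subgroup G), WH t L L 3 → x ∈ L →
    orderOf x = 3 → (Nat.card G = 168 ∨ Nat.card G = 1512) ∧ X9 ⊤ t x

/-- **[RL]** (files `GS/WR*.lean`, names in `Cfsg.GW2.Rx`; model: `GS/J3` `Ra Rb Rc Rd`, `GS/J4`
`kr_cnt`). For an involution `s = g t g⁻¹` put `L_s = g L g⁻¹`; by `fz` a real odd element of `C(s)`
lies in `L_s`. `V = ⟨t, v⟩`, `X = C(y)`, `C_X(t) = ⟨t⟩ × Y C_U(y)`, so `V` is Sylow in `X`. Exactly one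
`t' ∈ A \ V` has `V ≤ L_{t'}`; it inverts `y`. For the other `e ∈ A \ V` real odd elements of
`C_X(e)` are trivial. For an involution `j ∈ X`, `j t'` inverts `y`, has even order, so an
involution `e ∈ ⟨j t'⟩` commutes with `j, t'`; if `e ∈ X` then `t'` normalizes the only four-group
of `C_X(e)`; else `(j t')²` is a real odd element of `C_X(e)` or `e = t'`. So the subgroup `X₀`
generated by the involutions of `X` lies in `L_{t'}`, `C_{X₀}(s) = V` for `s ∈ V#` (odd elements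
of `C_{L_{t'}}(s)` are inverted by `V`), hence `X₀ = V` or `|X₀| = 60`, but `5 ∤ |L|`. -/
def TaskRL : Prop :=
  ∀ (G : Type) [Group G] [Finite G] (t v w x : G) (E L U P T Y : Subgroup G) (q n m : ℕ),
    W3 t E L U P T Y v w x q n m → ZF t E L U → ∀ y ∈ Y, y ≠ 1 → y ^ m = 1 →
      ∀ s, Iv s → s * y = y * s → s = t ∨ s = v ∨ s = t * v

/-- **[TL]** (helper4) -/
def TaskTL : Prop :=
  ∀ (G : Type) [Group G] [Finite G] (t : G) (E L : Subgroup G) (q n : ℕ), WH t E L q → 3 ∣ q →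
    2 * n + 1 = q → ∀ z ∈ L, z ≠ 1 → z ^ n = 1 → ∀ g, g * z = z * g → g * t = t * g

/-- **[OF]** (files `GS/WO*.lean`, names in `Cfsg.GW2.Ox`). Copy `H8/ReeC2` (`RT.false`) with `tl` in
place of `RT.cent_le`, `RT.fus` (`C(d) ≤ C(t)` has `t` as its only involution) and `fz`, `nr` for
`acnt (t x) = 0`; `H8.ree_equation` gives `i (y-q)² = q (q²-1) (q-1) y (y+1)`. `i` is prime to
`q² - 1` (`od`, `i1`, `i3`). So `y - q = (q-1) z`, `i z² = q (q+1) y (y+1)`; primes of `z` divide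
`3 (q+1)`; comparing valuations (`y + 1 = (q+1) + (q-1) z`) gives `z = ± 3^a (q+1)`,
`i 9^a = q y (1 ± 3^a (q-1))`, `y = q ± 3^a (q²-1)`; `a ≤ f'` where `q = 3^f'`; modulo `n`
`9^a ≡ 1`, and `3` has order `f'` (odd) modulo `n`, so `a = 0` or `a = f'`; the four values are
`q²(q²-q+1)`, `q(q-2)(q²-q-1)`, `q²(q²+q-1)`, `(q²-2)(q²-q-1)`; the last two are `≡ -1` modulo a
prime of `m`. -/
def TaskOF : Prop :=
  ∀ (G : Type) [Group G] [Finite G] (t v w x : G) (L U P T Y : Subgroup G) (q n m : ℕ),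
    R3 t L L U P T Y v w x q n m → ((𝒞₁ t).index : ℤ) = q ^ 2 * (q ^ 2 - q + 1) ∨
      ((𝒞₁ t).index : ℤ) = q * (q - 2) * (q ^ 2 - q - 1)

/-- **[BL]** (files `GS/WB*.lean`, names in `Cfsg.GW2.Bx`; tools `H5/Block2-4`, `GW/C1` `blk`, `tw`).
`Ξ` = class function of `G`, `0` on odd elements, `conj κ(y)` on the conjugates of `t y` (`y ∈ E` odd;
well defined by `fz`); on `C(t)` it is `conj κ` on all elements of even order. `B` = characters with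
central character of `Ξ` a unit at `2`. Second main theorem (copy `exists_brRel_inB0`,
`sum_inB0_centralizer`, `sum_section_eq_zero` with `Ξ` for `preg`): the blocks of `C(t)` with unit
central character are `κ B₀(C(t))` (sum over even elements = − sum over odd elements). So for
`χ ∈ B` the function `d_χ(y) = χ(t y)` on odd `y ∈ E` is an integral combination of `κ B₀(E)`,
and for `χ ∉ B` it is orthogonal to `κ B₀(E)` on odd elements. `B₀(E)`: Sylow `V₄`, one class,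
`C_E(v)` has a normal `2`-complement, so `χ(v y) = χ(v)` (`InB0.apply_mul_eq`), the characteristic
function of the even elements has norm `1/4` and equals `¼ Σ χ(v) χ`; so `B₀(E) = {1, St, φ₁, φ₂}`
(signs chosen with `φ_i(v) = 1`, `St(v) = -1`, `St = π - 1`), `St = 1 + φ₁ + φ₂` on odd elements,
`φ_i(1) ≡ 1 (mod 4)`, Gram matrix `I - J/4` of `1, φ₁, φ₂` on odd elements. `c ∉ B`. For `χ ∈ B`,
`d_χ = κ (x₁ + x₂ φ₁ + x₃ φ₂)` has `|x|² - (Σ x)²/4 < 2` (norm of `χ` on the section `< 1`);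
`d_a + d_b` has coordinates `(2,1,1)` of norm `2`, so `a, b ∈ B` and `{x_a, x_b}` is
`{(1,0,0), (1,1,1)}` or `{(1,1,0), (1,0,1)}`. -/
def TaskBL : Prop :=
  ∀ (G : Type) [Group G] [Finite G] (t v w x : G) (E L U P T Y : Subgroup G) (q n m : ℕ),
    R3 t E L U P T Y v w x q n m → ∀ κ θ a b c : G → ℂ, Lin E κ → (∀ k ∈ L, κ k = 1) → Irr E θ →
      (∀ y ∈ E, Even (orderOf y) → θ y = 0) → Dirr ⊤ a → Dirr ⊤ b → Dirr ⊤ c →
      (∀ y ∈ E, Odd (orderOf y) → a (t * y) + b (t * y) - c (t * y) =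
        κ y * ind (P ⊔ T ⊔ U) E (cf1 (P ⊔ T ⊔ U)) y - θ y) →
      dot E (fun y => c (t * y)) θ ≠ 0 →
      (a t = 1 ∧ b t = q) ∨ (a t = q ∧ b t = 1) ∨
        ∃ s₁ s₂ : ℤ, a t = s₁ ∧ b t = s₂ ∧ s₁ % 4 = 2 ∧ s₂ % 4 = 2

/-- **[CH]** (files `GS/WC*.lean`, names in `Cfsg.GW2.Cx`; model `H8/ReeC1-2`). `p` a prime of `|U|`,
`U' ≤ U` of index `p`, `κ` runs over the characters of `U/U'`. `T = C_T(U) × [T,U]` (`cop`), `μ₀ ≠ 1` a
`U`-invariant character of `T`, `μ₁` one with stabilizer `U'` (`fT`, `fP`: `C_T(U') > C_T(U)`),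
extended by `μ(d u) = μ(d)`. Every `d u` is conjugate in `T U` to `d' u` with `d' ∈ C_T(u)` a power of
it; if `d' ≠ 1`, then by `tl` conjugates of `t^e d u` in `⟨t⟩ T U` are conjugates under
`N = ⟨t⟩ T U ⟨w⟩`. `γ_κ = (κ (1 - μ₀))^G` from `⟨t⟩ T U` (norm `3`, `⟨γ_κ, 1⟩ = δ_{κ,1}`),
`α_κ = ((1 - sgn) κ μ₀)^G` from `⟨t⟩ P T U` (norm `2`, it is `2 θ_κ(y)` at `t y`, `θ_κ = (κ μ₀)^E`
irreducible, `0` on even elements), `α = ((1 - sgn) μ₁)^G` from `⟨t⟩ P T U'`, `ε = (μ₀ - μ₁)^G` from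
`⟨t⟩ T U'` (norm `p + 1`, `⟨ε, α_κ⟩ = 1`, `⟨ε, α⟩ = -1`, `⟨ε, γ_κ⟩ = -1`). `acnt` vanishes at
`t^e d' u` for `u ≠ 1` and is `q - 1` at `t^e d'`; `⟨α_κ, acnt⟩ = ⟨α, acnt⟩ = ⟨ε, acnt⟩ = 0`,
`⟨γ_κ, acnt⟩ = (q-1)/|U|`. So `α_κ = χ_κ - χ'_κ`, `γ_κ = a_κ + b_κ - χ_κ`, `χ_κ(t) = q + 1`, the pairs
of the `α`'s are disjoint, `ε = Σ χ_κ - χ` with `χ(t) = p (q+1)` (if `a_κ` or `b_κ` were among the
pairs then both, `a(t) + b(t) ∈ {0, ±2(q+1), ±2p(q+1)}`). `D_κ = χ_κ(1)` is the same `D'` for all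
`κ ≠ 1` (Galois automorphisms fixing `n`-th roots of unity), `D₁ + (p-1) D' = χ(1)`,
`1/D₁ + (p-1)/D' = p²/χ(1)`, so `D' = D₁`. With `y₀ = b₁(1)`, `x = a_κ(1)`, `y = b_κ(1)`:
`x + y = 1 + y₀`, `a(t)²/x + b(t)²/y = 1 + q²/y₀`, `i |U| (y₀-q)² = |C(t)| (q-1) y₀ (1+y₀)`.
`χ(1) ≡ χ(t) (mod 8)` (restrict to `A`), so `v₂(y₀ - q) = 3`. Case `(1, q)`: `x = 1` (a non-trivial
linear character with `a(t) = 1`, against `gi`) or `x - 1 = (y₀-q)(y₀+q)/(q²+y₀) ≡ 4 (mod 8)`.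
Case `s₁, s₂ ≡ 2 (mod 4)`: `(s₁ y - s₂ x)²/(x y) = (y₀-q)²/y₀` gives `y₀ ≡ (x/2)(y/2) ≡ (s₁/2)(s₂/2)
≡ 1 (mod 4)`, but `y₀ ≡ q ≡ 3`. -/
def TaskCH : Prop :=
  ∀ (G : Type) [Group G] [Finite G] (t v w x : G) (E L U P T Y : Subgroup G) (q n m : ℕ),
    R3 t E L U P T Y v w x q n m → U ≠ ⊥ → T ⊓ 𝒞 U ≠ ⊥ → False

/-- **[L3]** (files `GS/WL*.lean`, names in `Cfsg.GW2.Lx`). `u₀` generates `U`, cubes `T = ⟨a⟩`.
(FB) `M` finite abelian (a section `X/Y`), `T U` acts, every `d ∈ T#` without fixed points,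
`C_M(u₀) ⊆ {0, ±z}`, `3 z = 0`. With `N = Σ u₀^j`: `Σ_{d ∈ T} d N d⁻¹ = n` (for `j ≠ 0` the image of
`d ↦ d^(1-3^j)` is a nontrivial subgroup, its sum is `0`), `n` is invertible, so `M = R z`,
`R = 𝔽₃[a] ≅ M`, `u₀` is cubing on `R`, `R` has no idempotents but `0, 1` and `h^q = h`, so `R` is a
field and `|M| ≤ q`; `⟨-1⟩ × T` is semiregular, so `M = 0` or `|M| = q`, `M` is `T`-irreducible,
`C_M(u₀) ≠ 0`, `ker N = (u₀ - 1) M` (count), `|C_M(u)|³ ≤ q` for `u = u₀^(±f/3)`, and so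
`ker (1 + u + u²) = (u - 1) M`. A coset `y W` (`W` a `3`-group) fixed by `d ∈ T#` contains a fixed
point, which lies in `C(t)` by `tl`.
(1) `C(P) = W ⟨t⟩`, `W` odd, `C_W(t) = P`, `N(P) = W ⟨t⟩ T U`; `M = W/P` is inverted, in bijection with
the inverted elements `Z` of `W`; `X9` and FB give `|Z| ∈ {1, q}`, `W` has exponent `3`.
`Z = 1`: `P` is the only elementary subgroup of order `q` of `P U₃` (`fP`), `P U₃` is Sylow in `G`,
against `3 ∣ |U| ∣ i`. So `|W| = q²`, second case of `X9`, `s³ ∈ Z`.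
(2) `W U₃` is not Sylow in `G`: else, if `9 ∣ |U|`, `⟨s⟩ × ⟨u⟩ ≅ Z₉ × Z₉` cannot lie in (exponent
`3`).(cyclic); if `|U₃| = 3`, a Sylow `3`-subgroup of `C(u)` contains `s` and is conjugate to
`C_{W U₃}(u')`; `u' ∉ W` gives exponent `3`, `u' ∈ P` contradicts `fz`, `u' ∈ W \ P` gives
`P × ⟨u'⟩` by the bound. A conjugate `W^g ≠ W` in `W U₃` is impossible (`y ∈ W^g \ W` has
`|C_W(y)| ≥ q` but `≤ q^(2/3)`), so `N(W) > N(P)`, `W` is abelian (else `Z(W) = P`), `W = P × Z = C(W)`.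
(3) `B = N(W)` has Sylow `⟨t⟩`, `C_B(t) = ⟨t⟩ P T U`, `B = O(B) ⟨t⟩` is solvable. Let `N/W` be minimal
normal in `B/W`, odd. If `C_{N/W}(t) ≠ 1` it meets `T W/W` (`U` is faithful on `T`), the
inverted elements of `N/W` centralize that `d`, so `N/W ≤ C(t)`, `[B, t]` centralizes `d` modulo `W`,
`t W` is central, `B = N(P)`. So `N/W` is inverted. A coset `y W` fixed by `u₀` contains an inverted
element of `C(U)`: `t' = t y` is an involution, `u₀ z⁻¹` centralizes `t'` for some `z ∈ [W, t']`,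
`(u₀ z⁻¹)^f = 1`, so it is `W`-conjugate to `u₀`. It normalizes `C_W(U) = ⟨x, s³⟩`, so lies in `⟨s⟩`.
FB: `N/W` is a `3`-group, `C_W(N) = Z ⊴ B`. `Q = C_B(Z) ∩ C_B(W/Z) ≥ [B, t]`, `Q/W` is abelian
and inverted, FB: `|Q| = q³`, `B = Q ⟨t⟩ T U`. `(y z)³ = y³` on `Q`, `s ∈ Q \ W`, `⟨t⟩ T` is transitive on
`(Q/W)#`, so all elements of `Q \ W` have order `9`; `W` is weakly closed in `S = Q U₃`, `S` is
Sylow in `G`. (4) Transfer from `B` to `B / Q ⟨t⟩ T ≅ U` at `u` of order `3`: a conjugate `u'` of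
`u` in `S` is not in `W` (bound, `|U| < q`), and not in `Q u⁻¹` (FB for `Q/W`, `P`, `Z` makes it
conjugate to `u⁻¹`, against `fz`). So `V(u) = u ^ k` with `k ≡ |G : B|`, against `gi`. -/
def TaskL3 : Prop :=
  ∀ (G : Type) [Group G] [Finite G] (t v w x : G) (E L U P T Y : Subgroup G) (q n m : ℕ),
    R3 t E L U P T Y v w x q n m → 3 ^ ♯U = q → 3 ∣ ♯U → X9 (𝒞 U) t x →
      (∀ u ∈ U, orderOf u = 3 → ∀ X ≤ 𝒞₁ u, IsPGroup 3 X → ♯X ∣ q * ♯U) → False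

end Cfsg.GW2
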