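import Cfsg.Agent.GS.T4
import Cfsg.Agent.GS.W0

/-! Sketches for `W8a`, `W8b` of `GS/T4.lean`. `O_a = O(C a)`, `V_a = C₁(a)` (the four-group of `A`
in the preimage of `L̄_a ≅ L₂(q)`), `U₀ = O(C(A))`, "line" = four-group of `A`, "eigen-element" = `w`
centralized by a line `B_w` and inverted by `A \ B_w`, `ρ_a ∈ N ∩ K_a` permutes `V_a#` cyclically.
(T) For `x ≠ y` in `A#` exactly one of `x ∈ V_y`, `y ∈ V_x` holds (a symmetric pair makes the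
relation symmetric, `3`-regular on `7` points); `a ↦ V_a` is a bijection onto the lines; `ρ_a` fixes
only `a`. (L) In `L₂(q)`, `q ≡ ±3 (8)`, four-group `V ∋ t`: `C(t) = O(C t) V`, `T = O(C t)` cyclic,
`C(x) ∩ C(t) ≤ ⟨t⟩ T` for `1 ≠ x ∈ T`, `C(V) = V`; no odd `r`-group `Y = [Y,t] ≠ 1` is normalized by
`C(t)` (also in type III, `L₂(8)`: `C_Y(t) = 1`, `Y` abelian; eigen-elements for two lines commute,
so one line `B`, `ρ`-invariant, `C(t)'` centralizes `Y`, against `C(x) ∩ C(f) ≤ B T`). -/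

set_option autoImplicit false

namespace Cfsg.GS.T4

open Subgroup Cfsg.L0 Cfsg.H8 Cfsg.FT Cfsg.BS Cfsg.BS.R Cfsg.GS.T3

/-- Bender's theorem on maximal subgroups without solvability. `Inf.two` gives `F(A) ≤ L`,
`F(L) ≤ A`, `O_p(L) ≤ D_p = C_A(O_{p'}(F A)) ⊴ A`. `[D_p,D_q] ≤ Z(F A)`, so `Y = ⟨O_p(L)^A⟩ ≤ D_p`
stabilizes `O_q(L) Z(O_q A) ≥ Z(O_q A) ≥ 1`, is generated by `p`-elements, so centralizes `O_q(L)`;
`Y ≤ L`, `O_p(L) ⊴ Y ⊴ A`, `O_p(L) ≤ O_p(A)`; symmetry. -/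
def B3 : Prop := ∀ (G : Type) [Group G] [Finite G] (A L : Subgroup G), GW.Mx.Inf A L → GW.Mx.Inf L A →
  IsSimpleGroup G → IsCoatom A → IsCoatom L → GW.Mx.CC A → GW.Mx.CC L → GW.Mx.Two A → L = A

/-- **W8a** (files `GS/Z*.lean`; prove `w8a (h : GW2.JT2) : W8a`). Assume no `UG`. A maximal
`H ≥ C(a)` does not contain `N`, so `N_H(A) ≤ C(a)`, `H = O(H) C(a)` (`SC.zstar`),
`C_{O(H)}(a) = O_a`. (K1) `b ≠ c`, `H_c ≥ C(c)`, `Y ≤ H_c` an odd `r`-group normalized by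
`C_{H_c}(b)`: `[Y,b] ≤ O_r(H_c)` ((L) modulo `O(H_c)`, then `SFx.k1` in `O(H_c)`).
**Case II**: some such `H` has `[O_r(H), a] ≠ 1`. Take `Y` maximal among the `C(a)`-invariant
`r`-groups `Y = [Y,a]`, `H_a ≥ N(Y)` maximal, `R_a = O_r(H_a)`, `Y_a = [R_a,a] = Y`, `H_{a^n} = H_a^n`.
An eigen-element `w ∈ R_e` inverted by `e` lies in `R_b`, `b ∈ B_w#` (K1). `Π_B = C(B) ∩ ⋂_{b ∈ B#} R_b
≠ 1` for all lines. `V_a` does not centralize `Y_a`: else `Y_a ≤ R_b` (`b ∈ V_a#`), `a` acts on `Y_b`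
as `b`, `Y_a` fixes some `y ≠ 1` in `Y_b` inverted by `b`, `y ∈ H_a`, `y ∈ R_a` (K1), `y ∈ Y_a ≤ C(b)`.
So `E(H) = 1`, `CC H`. (Λ) `w ∈ Π_B ∩ H_c` inverted by `c ∉ B` `⇒ w ∈ R_c` (`w ∈ O(H_c)`;
`F(O(H_c)/R_c)` is generated by images of `C(b) ≤ H_b`, which centralize `w` there).
(F1) `1 ≠ T ≤ ⋂_{b ∈ B#} R_b` `A`-invariant, `K ≥ N(T)` maximal `⇒ K = H_c` for some `c`: all `H_b`,
`b ∈ B#`, infect `K`. A component `E` of `K` contains some `b ∈ B#`, `[R_b ∩ K, b] ≤ E` is trivial by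
(L) (types by `ih`), so `b` centralizes `R_b` (`A × B`): false. So `CC K`; `O_s(K) ∩ H_b = 1` for
`s ∉ π(F H)`, so all `b` invert it, it is `1`. If `Two H`: `Inf.two`, `B3`, `K = H_b` for all `b`:
false. Else `H`, `K` have characteristic `r`, abelian Sylow `2`-subgroups, ZJ (S3079, S2795):
`K = N(ZJ P)`, `P` Sylow in `G`, `K = H^g ≥ A`, `g ∈ H N`. So `⋂_b R_b = 1`; `N(Π_B) ≤ H_{a'}` for
`B = V_{a'}` and `N(U_c) ≤ H_c` for `U_c = ⋂_{x ≠ c} R_x` if `U_c ≠ 1` (they contain `ρ`).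
(F2) `W₁ ≤ R_e` minimal normal in `H_e` subject to `[W₁,e] ≠ 1`, `W_e = [W₁,e]`; `e` centralizes
`[W₁,R_e]`, three subgroups: `W_e` centralizes `C_{R_e}(e) ≥ Π_B` for `B ∋ e`; so `W_e ≤ H_x`,
`W_e ≤ R_x` (K1) for `e ∈ V_x`, i.e. `x ∈ e V_e#`. An eigen-element `w ∈ W_e` inverted by `e`: if
`B_w = V_e` it lies in all `R_x`; else `B_w = {1, v, e v', e v''} = V_{a'}`, `a' ∈ {v', v''}` by (T),
`w ∈ R_{a'}` by (Λ), `w ∈ U_c ≤ H_c`, `w ∈ R_c` by (Λ): false.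
**Case I**: `C(a)` is maximal. (Ib) `[P_a, A] ≠ 1`, `P_a = O_p(C a)`; `CC`, `Two`; every `b ≠ a` acts
nontrivially on `P_a`. Let `x ∈ C_{P_b}(B)` be inverted by `A \ B`, `a, b ∈ B#`. `x` fixes some
`y ≠ 1` in `P_a` inverted by `b`. `K = N(⟨x⟩)` is infected by `C(b)`: `b` centralizes or inverts each
`O_s(K)`, so `[K,b] ≤ C(F K)`; if `b` centralizes `E(K)`, `y ∈ O_p(K) ≤ C(b)`: false. So a component
`E ≤ C(x)` has Sylow `2`-subgroup `B`, `N_E(B)` is transitive on `B#`, `x ∈ P_{b'}` for all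
`b' ∈ B#`. So `θ(b) = P_b O_p(U₀)` is balanced; `SF'` or `SFG` or `Lc.exP` gives a `p`-group
`W ≥ P_b`, `C_W(C_W(b)) ≤ C_W(P_b) ≤ C(b)`, `b` centralizes `W`: false. (Ia) `A` centralizes
`F(O_a)`: `L_a = K_a'` centralizes `O_a ≤ U₀`. `O₀ = ⋂ O_a = 1`, else `M = N(⟨L_a⟩)`. Take `ρ_a ∈ L_a`
a `3`-element; `[U₀,ρ_a] ≤ Z(L_a)` is a `3`-group centralized by `ρ_a`; `ρ_a` is quadratic on the
`N`-chief factors in `O₃(U₀)`, so trivial (`N/A` has odd order, BG A.3/A.4), `⟨ρ_a⟩` induces a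
`3`-group on `U₀`, a `7`-element moving `a` centralizes `U₀`, `O_a = O₀ = 1`. Then
`C(a) = ⟨a⟩ × E`, `JT2`, `jt`. -/
def W8a' : Prop := GW2.JT2 → W8a

/-- **W8b** (files `GS/O*.lean`), without `SFG`. `z ∈ R` an involution, `J = K̄_z` is of type III
(`K̂_a = K_{C(a,z)}` covers `L̄_a` for all `a`), generated by the images `L'_a` (`KG`/Bender), and an
automorphism of odd order centralizing `C_J(a)` centralizes `N_J(A)`, so `J`. `K̄_{az} = ⟨a⟩ × L₂(q)`.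
(1) `[O(C b) ∩ C(b'), A] ≤ O(C b')` for `b, b' ∈ B# `, `B = A⟨z⟩`: look at hyperplanes `B₀ ∋ b, b'`.
If `z ∉ B₀`, `C(B₀)` centralizes `Ā` in `C(b')/O` up to `2`-elements. If `B₀ = ⟨a,a',z⟩`,
`W₀ = [O(C B₀), A] ≤ K̂_a`, and `W₀ ∩ O(C b) = W₀ ∩ O(K̂_a)` for `b = a, z, az` (an element of `W₀`
outside `O(K̂_a)` acts nontrivially on the `L₂(q)`, which survives in `C(b)/O`); same for all
`a ∈ (B₀ ∩ A)#`. (2) `O_a ∩ C(A) ≤ O_{a'}`: `D_a = C_{D_a}(z) [D_a,z]`; both factors centralize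
`L̄_{a'}`, and `O(C(A)) ∩ C(L̄_{a'})` maps into `O(C(L̄_{a'})) = 1`. So `O_a ∩ C(a') ≤ O_{a'}`, and
`O_a ∩ H ≤ O(H)` for `A ≤ H < G` (`X̄` centralizes `K̄_H`, `C(K̄_H) ≤ C(ā)`; squares in `S = A × R` lie
in `R`, so `Sz(8)`, `U₃(8)` do not occur). `sf` gives `W`. For `b = z, az`:
`C_W(b) = [O(C b), a] (O(C b) ∩ O_a)` is normalized by `C(a,z)`. So `C(a) = O_a K̂_a N_{C(a)}(A)`
normalizes `W = ⟨C_W(a), C_W(z), C_W(az)⟩`, `M = N(W)`. If `W = 1`: `L_a = K_a' ≤ C(z)`,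
`M = N(⟨L_a⟩)`. -/
def W8b' : Prop := KG → W8b

end Cfsg.GS.T4
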