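import Cfsg.Agent.GS.T4

/-! Sketch for `U4c` of `GS/T4.lean`. `|A| = 4`, `N/C(A) = Z₃`, `S ≤ C(A)`, `D = O(C(A))`,
`O_a = O(C a)`, `C(a) = O_a C(A)` (`SC.zstar`), `O_a ∩ C(A) = D`. -/

set_option autoImplicit false

namespace Cfsg.GS.T4

open Subgroup Cfsg.L0 Cfsg.H8 Cfsg.FT Cfsg.BS Cfsg.BS.R Cfsg.GS.T3
open scoped commutatorElement

/-- **RK2**. Induction on `|Y|`; wlog `Y = [Y,A]` (intersect `D`). `N₀` minimal `A`-invariant normal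
subgroup of `Y`, a `p`-group; `C_Y(A) = D C_{N₀}(A)` by induction. `N* = (D ∩ N₀) [N₀,A]` is normal
in `Y` (generated by the `Y_a = [C_Y(a), A]`; `[C_{N₀}(a), Y_a] ≤ Y_a ∩ N₀`, `Y_a` normalizes
`[N₀,a]`). If `N* = 1`, `N₀` is central of order `p`, `N₀ ≤ Y'`, so `N₀ ≤ P'` for an `A`-invariant
Sylow `P` (`mem_der_of_central`). If `P < Y`: `[P,A] (D ∩ P)` is normal of index `p` in `P` and
misses `N₀` (induction): false. If `Y = P`: `Y₀` maximal normal `A`-invariant, `Y = Y₀⟨y⟩`,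
`y ∈ Y_a`; `U = [Y₀,A] D` has index `p` in `Y₀`, misses `N₀`, contains `Φ(Y₀)`, is normalized by `y`
(as for `N*`, in `Y₀/Φ(Y₀)`); `Y/U` is abelian of order `p²` with a fixed point of `A`: false. -/
def RK2 : Prop := ∀ (G : Type) [Group G] [Finite G] (A Y D : Subgroup G), Elem 2 A → ♯A = 4 →
  Odd ♯Y → A ≤ 𝒩 Y → Y ⊓ 𝒞 A ≤ 𝒩 D → (∀ a ∈ A, a ≠ 1 → ⁅Y ⊓ 𝒞₁ a, A⁆ ⊓ 𝒞 A ≤ D) →
  ⁅Y, A⁆ ⊓ 𝒞 A ≤ D

/-- **W2**. Take `Y ≥ A` maximal among the abelian `2`-groups inverted by `f` with `Ω₁(Y) = A`,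
normalized by some `3`-element `k ∈ C(f)` moving `A`. If `Y⟨f⟩` is Sylow, Thompson transfer: false.
Else `X = N(Y⟨f⟩) ≤ N(Y)` (count centralizer orders: the conjugates of `f` in `Y⟨f⟩` lie in `fY`,
`Y = {x y}`) induces `A₄` on the four `Y`-classes in `fY`. `S'` Sylow in `C_X(A)`,
`|S' : Y⟨f⟩| = 4`, new `k ∈ N(S') ∩ C(f)` (Frattini), `Y' = [S',k]`; `S'/Y` is not `Q₈` (a square
root of a conjugate of `f`), so `|Y' : Y| = 4`, `k` acts on `Y'` without fixed points and with order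
`3`, so `y` commutes with `y^k`. If `f` inverts some `y ∈ Y' \ Y`, then `y² = [f,y] ∉ Φ(Y)`,
`Y' = ⟨y, y^k⟩` is abelian, inverted by `f`: false. Else the involutions of `fY'` are the
`Y'`-conjugates of `f`, an involution `y ∈ Y' \ A` centralizes `⟨A, y, y^k⟩` of order `16`, so
`S' = Y'⟨f⟩` is Sylow in `G`, Thompson transfer: false. -/
def W2 : Prop := ∀ (G : Type) [Group G] [Finite G] (S A : Subgroup G) (f k : G), Mg S A → ♯A = 4 →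
  Ivo f → f ∉ A → f ∈ 𝒞 A → k ∈ 𝒞₁ f → k ∈ 𝒩 A → k ∉ 𝒞 A → ¬ 16 ∣ ♯(𝒞₁ f) → False

/-- **U4c** (files `GS/I*.lean`). (*) It suffices to find a proper subgroup containing all `O_a`:
`M = N(⟨O_a⟩)` or `N`. A `2`-group `1 ≠ R ≤ C(A)` is *bad* if `[X,A] ≰ O(C R)` for some
`A`-invariant `X ≤ C(R)` of odd order; then `R ∩ A = 1`, `L̄_R = K̄_{C(R)}` is simple with Sylow
`2`-subgroup `Ā` (K2 `St`, `Nx.st_one`; `RB` gives `BenP`, not bad), `L₂(q)` by `gw4`, some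
`ρ ∈ K_{C(R)}` moves `A`; a `2`-element of `C(A) ∩ N(R)` acts on `L̄_R` as an element of `A`
(`St.split`). (b1) Subgroups `R₁ ≠ 1` of a bad `R` are bad; if `R ≤ N(R₁)`, `R` centralizes
`L̄_{R₁}` (it commutes with `ρ`), `K_{C(R)}` covers it. **No bad involution**: `B = A⟨v⟩`,
`θ(b) = [O(C b), A] C_D(b)` is the largest `B`-invariant odd `X ≤ C(b)` with `C_X(A) ≤ D` (RK2), so
balanced, `θ(a) = O_a`, `SFG`. **N1**: no bad involution `f` has `fa` centralized by an element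
moving `A`. `R` bad of maximal order, `S₁ = A × R` Sylow in `N_{C(A)}(R)`; a bad cyclic
`⟨r a⟩ ≤ S₁` has `a = 1` (N1 for involutions, else (b1) at the involution of `⟨r²⟩`), so
`S = A × R`; `R` has two involutions (`Z*`, `Fx.ctrl`), `R₁ ≤ R` a four-group, `𝓡 = {R₁}`.
**N4**: `f` bad, all `fa` conjugate to `f` in `N`. `A × R_f = A × R_{fa}` is Sylow in `C(f)`,
`R_f ∩ R_{fa} = 1`, so it is elementary, `|R_f| = 4` by `W2`; every `u ∈ V \ A` is of this kind,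
`𝓡 = {R₁, …, R₄}` is a spread with `A`, conjugate in `N(V)`. **Both**: `V = A × R₁`, the bad
involutions of `V` are those in members of `𝓡`. `И` = `V`-invariant odd `X` with `C_X(A) ≤ D` and
`C_X(R_i)` centralizing `L̄_i` for all `i`. For `b ∈ V#`, `Y' = [O(C b), A] C_D(b)` contains the
members of `И` in `C(b)`; `Y_i = [Y',R_i] C_{Y'}(R_i, L̄_i) ⊴ Y'`, `C_{Y_i}(R_i)` centralizes `L̄_i`
(RK2 for `R_i`: `[C(r), R_i]` centralizes `L̄_r`), `θ(b) = ⋂ Y_i ⊴ Y'` is the largest member in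
`C(b)`. `SFG` gives `W ∈ И`. For `E = ⟨a⟩R_i`, `W_E = [O(C E), A] ≤ [O(C e), A]` for `e ∈ aR_i`, and
`W = ⟨θ(e) (e ∈ aR_i), [O(C R_i), a]⟩` (`C_W(R_i) ≤ [O(C R_i),a] θ(a)`-type; `[O(C R_i), A] ∈ И` by
RK2; in N1 replace `O(C R_i)` by `[O(C R_i), A] C_D(R_i)` where needed), so `W_E ≤ N(W)`. For the
other hyperplanes `E ∋ a`, `[C_{O_a}(E), V] ∈ И`. So `O_a ≤ N(W)`: done if `W ≠ 1`. Let `W = 1`.
`L = K_{C(R₁)}'` centralizes `O(C R₁)`. N1: `[O(C r), A] = 1`, `K_r' = L` for `r ∈ R₁#`,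
`O_a ≤ ⟨C(r)⟩ ≤ N(L)`. N4: `Y = O(C r)`, `Y'' = [Y,A] (D ∩ Y) = [Y,a] (O_a ∩ Y)` is normalized by
`C(r,a)` for all `a`, so by `C(r)` (`KG`, `r` is bad). `Y''` embeds in the product of its images in
`Aut(L̄_i) ∩ C(a_i)`, `i = 2,3,4`, `r a_i ∈ R_i`; `Z = [Y'',A] = [Y'',r']` (`r' ∈ R₁ \ ⟨r⟩`) is
`L`-invariant, `≠ 1`, a product of three cyclic groups `C_Z(a_i)` (tori). `Ω = Ω₁(O_p Z) = ⟨e₁,e₂,e₃⟩`,
`C_L(Ω) ≤ Z(L)`. A `p`-element `t_i ∈ C_L(a_i)` over the torus, inverted by `a_j`, is an elementary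
transvection `E₂₃`, `E₃₁`, `E₁₂` (or transposed; `ρ`); `[t₁,t₂]` centralizes `t̄₁` in `L̄`, so `a₁`,
but `a₁` inverts it on `Ω`: false. -/
def U4c' : Prop := SFG → RK2 → W2 → U4c

end Cfsg.GS.T4
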