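import Cfsg.Agent.GS.U1
import Cfsg.Agent.H8.S4RL

/-! The uniqueness case for groups of order prime to `3`, 2: preimages of components. -/

set_option autoImplicit false

namespace Cfsg.GS.Ux

open Subgroup Cfsg.L0 Cfsg.H8 Cfsg.FT Cfsg.BS Cfsg.BS.R Cfsg.GS.T3
open scoped commutatorElement

variable {G : Type} [Group G] [Finite G] {A B C D H K L S T Y Z : Subgroup G} {a b c g k x y z : G}

theorem l1_comp (hz : SzG G) (hS : IsSyl 2 S ⊤) (p : L1 S A) (hL : IsComponent L) :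
    ⊤ ≤ 𝒩 L ∧ Lie.IsoSuzuki L ∧ 𝒵 (S ⊓ L) = A ⊓ L ∧
      (∀ a ∈ A, ∃ l ∈ A ⊓ L, ∃ c ∈ A ⊓ 𝒞 L, a = l * c) ∧ ∃ k, SzP L (S ⊓ L) k := by
  have s := p.smp L hL
  have n : ⊤ ≤ 𝒩 L := p.layer ▸ layer_le_normalizer hL.1
  have i := hz L (involves_subgroup L) s.isSimpleGroup s.not_comm
  obtain ⟨k, q⟩ := Kx.k0 G L (S ⊓ L) i (hS.inf le_top (le_top.trans n))
  have t : ⊤ ≤ L ⊔ 𝒞 L := p.layer.ge.trans (sSup_le fun M hM => by
    by_cases e : M = L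
    · exact e ▸ le_sup_left
    · exact (comp_cent hM hL e).trans le_sup_right)
  refine ⟨n, i, le_antisymm (fun x hx => ⟨(p.mem x).2 ⟨hx.1.1, by rw [sq, q.s2g.one x hx]⟩, hx.1.2⟩)
    fun x hx => S2.mem_of_sq q.s2g ⟨((p.mem x).1 hx.1).1, hx.2⟩
      (by rw [← sq, ((p.mem x).1 hx.1).2]), fun a ha => ?_, k, q⟩
  obtain ⟨l, hl, c, hc, e, h3⟩ := exists_split s n hS t ((p.mem a).1 ha).1
  have := h3 2 ((p.mem a).1 ha).2
  exact ⟨l, ⟨(p.mem l).2 ⟨hl.1, this.1⟩, hl.2⟩, c, ⟨(p.mem c).2 ⟨hc.1, this.2⟩, hc.2⟩, e⟩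

theorem SzP.seven (q : SzP L T k) : ∃ x ∈ T, ∃ y ∈ T, ∃ w ∈ T, x ∉ 𝒵 T ∧ y ∉ 𝒵 T ∧ w ∉ 𝒵 T ∧
    x * y ∉ 𝒵 T ∧ x * w ∉ 𝒵 T ∧ y * w ∉ 𝒵 T ∧ x * y * w ∉ 𝒵 T := by
  have := eight q
  obtain ⟨x, hx, x1⟩ := S2.exists_not_mem q.s2g (by omega)
  have x2 : x ^ 2 ≠ 1 := fun e => x1 (S2.mem_of_sq q.s2g hx (by rwa [← sq]))
  have key : ∀ y, Fus L T x y → y ∉ 𝒵 T := by
    rintro _ ⟨g, -, z, hz, z2, rfl⟩ e
    have h1 := mul_mem e (inv_mem (S2.mem_of_sq q.s2g hz (by rwa [← sq])))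
    rw [mul_inv_cancel_right] at h1
    have h2 := q.s2g.one _ h1
    rw [conj_mul_self, mul_inv_eq_one, mul_eq_left, ← sq] at h2
    exact x2 h2
  obtain ⟨y, hy, w, hw, f1, f2, f3, f4, f5, f6⟩ := q.rb.seven x hx x2
  exact ⟨x, hx, y, hy, w, hw, x1, key _ f1, key _ f2, key _ f3, key _ f4, key _ f5, key _ f6⟩

/-- the preimage `Y` of a component of `K / Z`, `Z = O₂(K)` -/
structure PC (A K Y T C Z : Subgroup G) (k : G) : Prop where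
  nrm : Y ⊴ K
  ZA : Z ≤ A
  ZY : Z ≤ Y
  ZC : Z ≤ 𝒞 K
  gen : Y ≤ ⁅Y, Y⁆ ⊔ Z
  iso : ⁅Y, Y⁆ ⊓ Z = ⊥ → Lie.IsoSuzuki (⁅Y, Y⁆ : Subgroup G)
  syl : IsSyl 2 T Y
  TA : T ≤ 𝒩 A
  AT : A ⊓ Y ≤ T
  kA : k ∈ 𝒩 A
  kT : k ∈ 𝒩 T
  kY : k ∈ Y
  CA : C ≤ A
  CL : C ≤ ⁅Y, Y⁆
  kC : k ∈ 𝒩 C
  inf : C ⊓ 𝒞 Y = ⊥
  sup : A ≤ C ⊔ (A ⊓ 𝒞 Y)
  deg : ∃ e, Odd e ∧ 3 ≤ e ∧ ♯C = 2 ^ e
  tr : ∀ x ∈ C, ∀ y ∈ C, x ≠ 1 → y ≠ 1 → ∃ n : ℕ, k ^ n * x * (k ^ n)⁻¹ = y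
  sq : ∀ x ∈ T, x * x ∈ A
  inv : ∀ x ∈ T, x * x = 1 → x ∈ A
  trT : ∀ x ∈ T, ∀ y ∈ T, x ∉ A → y ∉ A → ∃ n : ℕ, k ^ n * x * (k ^ n)⁻¹ * y⁻¹ ∈ A
  ri : A.relIndex T = ♯C
  seven : ∃ x ∈ T, ∃ y ∈ T, ∃ w ∈ T, x ∉ A ∧ y ∉ A ∧ w ∉ A ∧ x * y ∉ A ∧ x * w ∉ A ∧ y * w ∉ A ∧
    x * y * w ∉ A

theorem pc_of {Q : Type} [Group Q] [Finite Q] {f : K →* Q} (hf : Function.Surjective f)
    (hz : SzG Q) (ha : Elem 2 A) (AK : A ≤ K) (AS : A ≤ S) (hS : IsSyl 2 (S ⊓ K) K)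
    (z1 : up f ⊥ ≤ A) (z2 : up f ⊥ ≤ 𝒞 K) (p : L1 (down f S) (down f A)) {L : Subgroup Q}
    (hL : IsComponent L) : ∃ T C k, PC A K (up f L) T C (up f ⊥) k := by
  have hS' : IsSyl 2 (down f S) ⊤ := by
    have := hS.down f le_rfl
    rwa [down_top hf, down_inf_dom] at this
  obtain ⟨n, i, ct, spl, κ, q⟩ := l1_comp hz hS' p hL
  have s := q.s2g
  have q8 := eight q
  set Y := up f L with hY
  have YK : Y ≤ K := up_le f L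
  have nrm : Y ⊴ K := by
    have := (show L ⊴ ⊤ from ⟨le_top, n⟩).up f
    rwa [up_top] at this
  have mA : ∀ x : K, f x ∈ down f A ↔ (x : G) ∈ A := fun x => by
    rw [← coe_mem_up, up_down_of_le f AK z1]
  have mS : ∀ x : K, f x ∈ down f S ↔ (x : G) ∈ S := fun x => by
    rw [← coe_mem_up, ← down_inf_dom, up_down_of_le f inf_le_right (le_inf (z1.trans AS) (up_le _ _))]
    exact ⟨fun h => h.1, fun h => ⟨h, x.2⟩⟩
  have mT : ∀ x : K, f x ∈ down f S ⊓ L ↔ (x : G) ∈ S ⊓ Y := fun x =>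
    and_congr (mS x) coe_mem_up.symm
  have dT : down f (S ⊓ Y) = down f S ⊓ L := down_inf_up f S L
  have gen : Y ≤ ⁅Y, Y⁆ ⊔ up f ⊥ := (down_le_down_iff YK ((der_le Y).trans YK)).1 (by
    rw [down_commutator f YK YK, hY, down_up hf, q.smp.perfect])
  have cY : ∀ b : K, f b ∈ 𝒞 L → (b : G) ∈ 𝒞 Y := fun b hb => by
    have h1 : ⁅Y, zpowers (b : G)⁆ ≤ 𝒞 Y := by
      refine le_trans ((down_le_cent_iff (zpowers_le.2 b.2) YK).1 ?_) (z2.trans (cent_anti YK))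
      rw [down_zpowers, hY, down_up hf]
      exact zpowers_le.2 hb
    have h2 := three_subgroups_cent h1 (commutator_comm Y _ ▸ h1)
    exact cent_symm (gen.trans (sup_le h2 (z2.trans (cent_anti (zpowers_le.2 b.2))))) (mem_zpowers _)
  have cY' : ∀ b : K, (b : G) ∈ 𝒞 Y → f b ∈ 𝒞 L := fun b hb => by
    have := down_le_cent f (zpowers_le.2 hb)
    rw [down_zpowers, hY, down_up hf] at this
    exact this (mem_zpowers _)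
  obtain ⟨k, rfl, ko⟩ : ∃ k : K, f k = κ ∧ Odd (orderOf (k : G)) := by
    obtain ⟨k0, rfl⟩ := hf κ
    obtain ⟨u, v, hu, -, ⟨j, hj⟩, hv, e⟩ := exists_pPart 2 k0
    have : f u = 1 := eq_one_of_pElt_of_coprime (p := 2) ⟨j, by rw [← map_pow, hj, map_one]⟩
      (Nat.Coprime.coprime_dvd_left (orderOf_dvd_of_mem_zpowers (by
        obtain ⟨m, rfl⟩ := hu
        exact ⟨m, (map_zpow f k0 m).symm⟩)) (Nat.coprime_two_right.2 s.odd))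
    refine ⟨v, ?_, by rw [orderOf_coe]; exact Nat.coprime_two_right.1 hv⟩
    rw [e, map_mul, this, one_mul]
  have kY : (k : G) ∈ Y := coe_mem_up.2 q.kL
  have kA : (k : G) ∈ 𝒩 A := mem_normalizer_of_forall fun a h => by
    obtain ⟨l, hl, c, hc, e⟩ := spl _ ((mA ⟨a, AK h⟩).2 h)
    refine (mA (k * ⟨a, AK h⟩ * k⁻¹)).1 ?_
    have : f k * (l * c) * (f k)⁻¹ = f k * l * (f k)⁻¹ * c := by
      rw [mul_assoc (f k), mul_assoc l, ← mem_cent.1 hc.2 _ (inv_mem q.kL)]; group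
    rw [map_mul, map_mul, map_inv, e, this]
    exact mul_mem (ct.le (conj_mem_of_norm (S2.kA s) (ct.ge hl))).1 hc.1
  have kT : (k : G) ∈ 𝒩 (S ⊓ Y) := mem_normalizer_of_forall fun x h => by
    refine (mT (k * ⟨x, YK h.2⟩ * k⁻¹)).1 ?_
    rw [map_mul, map_mul, map_inv]
    exact conj_mem_of_norm s.kT ((mT ⟨x, YK h.2⟩).2 h)
  have cop : (♯A).Coprime ♯(zpowers (k : G)) :=
    cop_of_pgroup Nat.prime_two ha.pgroup (by rw [card_zpow]; exact ko.not_two_dvd_nat)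
  have dp := ha.abel.dp_comm_cent (zpowers_le.2 kA) cop
  set C := ⁅A, zpowers (k : G)⁆ with hC
  have CA : C ≤ A := dp.le_left
  have CY : C ≤ Y := comm_le_of_le_of_norm (zpowers_le.2 kY) (AK.trans nrm.norm)
  have A0 : A ⊓ 𝒞 (zpowers (k : G)) = A ⊓ 𝒞 Y := by
    refine le_antisymm (fun b hb => ⟨hb.1, cY ⟨b, AK hb.1⟩ ?_⟩)
      (inf_le_inf_left _ (cent_anti (zpowers_le.2 kY)))
    obtain ⟨l, hl, c, hc, e⟩ := spl _ ((mA ⟨b, AK hb.1⟩).2 hb.1)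
    have h1 : f k * (l * c) = l * c * f k := by
      rw [← e, ← map_mul, ← map_mul]
      exact congrArg f (Subtype.ext (mem_cent.1 hb.2 _ (mem_zpowers _)))
    rw [mul_assoc l, ← mem_cent.1 hc.2 _ q.kL, ← mul_assoc, ← mul_assoc, mul_left_inj] at h1
    rw [e, S2.eq_one_of_fix s (by omega) (ct.ge hl) h1, one_mul]
    exact hc.2
  have inf : C ⊓ 𝒞 Y = ⊥ := eq_bot_of_le dp.inf
    (A0 ▸ le_inf inf_le_left (inf_le_inf_right _ CA))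
  have inj : ∀ x : K, (x : G) ∈ C → f x = 1 → (x : G) = 1 := fun x h e =>
    eq_one_of_mem inf ⟨h, cent_anti YK (z2 (coe_mem_up.2 (mem_bot.2 e)))⟩
  have dC : down f C = 𝒵 (down f S ⊓ L) := by
    rw [ct]
    refine le_antisymm (le_inf (down_mono f CA) ((down_le_iff' (CY.trans YK)).2 CY)) ?_
    rintro _ ⟨⟨b, hb, rfl⟩, h2⟩
    obtain ⟨c, hc, d, hd, e⟩ := dp.sd.mem hb
    have h3 : f b = f ⟨c, AK (CA hc)⟩ * f ⟨d, AK hd.1⟩ := by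
      rw [← map_mul]; exact congrArg f (Subtype.ext e.symm)
    have h4 : f ⟨d, AK hd.1⟩ = 1 := q.smp.eq_one
      ((mul_mem_cancel_left (coe_mem_up.1 (CY hc))).1 (h3 ▸ h2)) (cY' _ (A0.le hd).2)
    exact ⟨⟨c, AK (CA hc)⟩, hc, by rw [h3, h4, mul_one]⟩
  have cC : ♯C = ♯(𝒵 (down f S ⊓ L)) := by
    rw [← dC, card_down_eq (CA.trans AK) (eq_bot_iff.2 fun x hx => ?_)]
    obtain ⟨h1, h2⟩ := mem_up.1 hx.1
    exact mem_bot.2 (inj ⟨x, h1⟩ hx.2 (mem_bot.1 h2))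
  have nZ : ∀ x : K, (x : G) ∈ S ⊓ Y → (f x ∈ 𝒵 (down f S ⊓ L) ↔ (x : G) ∈ A) := fun x h => by
    rw [ct]
    exact ⟨fun e => (mA x).1 e.1, fun e => ⟨(mA x).2 e, coe_mem_up.1 h.2⟩⟩
  refine ⟨S ⊓ Y, C, k, nrm, z1, ker_le_up f L, z2, gen, fun h => ?_, ?_, fun t ht => ?_,
    inf_le_inf_right _ AS, kA, kT, kY, CA, ?_, right_le_norm_comm _ _ (mem_zpowers _), inf,
    A0 ▸ dp.sup.ge, cC ▸ q.deg, fun x hx y hy x1 y1 => ?_, fun x hx => ?_, fun x hx e => ?_,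
    fun x hx y hy x1 y1 => ?_, ?_, ?_⟩
  · obtain ⟨φ, hφ, e⟩ := exists_inj_down ((der_le Y).trans YK) h
    have := e _ le_rfl
    rw [down_commutator f YK YK, show down f Y = L from down_up hf L, q.smp.perfect, subgroupOf_self,
      ← MonoidHom.range_eq_map] at this
    exact iso_congr (MonoidHom.ofInjective hφ) (this ▸ i)
  · have := hS.inf YK (inf_le_right.trans nrm.norm)
    rwa [inf_assoc, inf_eq_right.2 YK] at this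
  · refine (down_le_norm_iff (zpowers_le.2 (YK ht.2)) AK z1).1 ?_ (mem_zpowers t)
    exact (down_mono f (zpowers_le.2 ht.1)).trans (le_norm_of_le_cent p.cent)
  · rw [hC, ← comm_comm (zpowers_le.2 kA) cop]
    exact comm_mono CY (zpowers_le.2 kY)
  · obtain ⟨m, e⟩ := s.tr (f ⟨x, AK (CA hx)⟩) (dC.le (mem_down_of_mem hx)) (f ⟨y, AK (CA hy)⟩)
      (dC.le (mem_down_of_mem hy)) (fun e => x1 (inj _ hx e)) fun e => y1 (inj _ hy e)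
    refine ⟨m, mul_inv_eq_one.1 (inj (k ^ m * ⟨x, AK (CA hx)⟩ * (k ^ m)⁻¹ * (⟨y, AK (CA hy)⟩ : K)⁻¹)
      (mul_mem (pow_conj_mem (right_le_norm_comm _ _ (mem_zpowers _)) hx m) (inv_mem hy)) ?_)⟩
    rw [map_mul, map_mul, map_mul, map_inv, map_inv, map_pow, e, mul_inv_cancel]
  · refine (nZ (⟨x, YK hx.2⟩ * ⟨x, YK hx.2⟩) (mul_mem hx hx)).1 ?_
    rw [map_mul]
    exact s.sq _ ((mT _).2 hx)
  · refine (nZ ⟨x, YK hx.2⟩ hx).1 (S2.mem_of_sq s ((mT _).2 hx) ?_)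
    rw [← map_mul, ← map_one f]
    exact congrArg f (Subtype.ext e)
  · obtain ⟨m, e⟩ := S2.trT s ((mT ⟨x, YK hx.2⟩).2 hx) ((mT ⟨y, YK hy.2⟩).2 hy)
      (fun e => x1 ((nZ _ hx).1 e)) fun e => y1 ((nZ _ hy).1 e)
    refine ⟨m, (nZ (k ^ m * ⟨x, YK hx.2⟩ * (k ^ m)⁻¹ * (⟨y, YK hy.2⟩ : K)⁻¹)
      (mul_mem (pow_conj_mem kT hx m) (inv_mem hy))).1 ?_⟩
    rwa [map_mul, map_mul, map_mul, map_inv, map_inv, map_pow]
  · rw [← ri_down AK (inf_le_right.trans YK) z1, dT, ← inf_relIndex_right, ← inf_assoc,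
      inf_eq_left.2 (down_mono f AS), ← ct, cC]
    have := card_mul_ri (S2.AT s)
    rw [s.card, sq] at this
    exact Nat.eq_of_mul_eq_mul_left (card_pos' _) this
  · obtain ⟨x, hx, y, hy, w, hw, h1, h2, h3, h4, h5, h6, h7⟩ := SzP.seven q
    obtain ⟨x, rfl⟩ := hf x
    obtain ⟨y, rfl⟩ := hf y
    obtain ⟨w, rfl⟩ := hf w
    rw [mT] at hx hy hw
    simp only [← map_mul] at h4 h5 h6 h7
    exact ⟨x, hx, y, hy, w, hw, mt (nZ _ hx).2 h1, mt (nZ _ hy).2 h2, mt (nZ _ hw).2 h3,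
      mt (nZ (x * y) (mul_mem hx hy)).2 h4, mt (nZ (x * w) (mul_mem hx hw)).2 h5,
      mt (nZ (y * w) (mul_mem hy hw)).2 h6, mt (nZ (x * y * w) (mul_mem (mul_mem hx hy) hw)).2 h7⟩

/-- structure of the normal closure of `A` -/
theorem st1 (hz : SzG H) (hS : IsSyl 2 S H) (h : SC A S H) (ha : Elem 2 A) (ho : O2 H = ⊥)
    (h1 : A ≤ D) (h2 : ∀ Y T C Z k, PC A (ncl H A) Y T C Z k → Y ≤ D) : ncl H A ≤ D := by
  obtain ⟨Q, _, _, f, hf, z1, z2, -, p⟩ := st0 hz hS h ha.abel ho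
  have l := ncl_le' (h.le.trans hS.le)
  have hQ : SzG Q := szg_mono hz (involves_trans (involves_of_surjective hf) (involves_of_le l))
  refine le_trans (le_of_down_le (f := f) le_rfl inf_le_right (le_inf (z1.trans h1) (up_le _ _)) ?_)
    inf_le_left
  rw [down_top hf, ← p.layer]
  refine sSup_le fun L hL => ?_
  obtain ⟨T, C, k, q⟩ := pc_of hf hQ ha (le_ncl H A) h.le
    (hS.inf l (hS.le.trans (le_normalizer_ncl H A))) z1 z2 p hL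
  rw [← down_up hf L]
  exact down_mono f (le_inf (h2 _ _ _ _ _ q) (up_le _ _))

end Cfsg.GS.Ux
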