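import Cfsg.Agent.GS.U2

/-! The uniqueness case for groups of order prime to `3`, 3: the components are simple. -/

set_option autoImplicit false

namespace Cfsg.GS.Ux

open Subgroup Cfsg.L0 Cfsg.H8 Cfsg.FT Cfsg.BS Cfsg.BS.R Cfsg.GS.T3
open scoped commutatorElement

variable {G : Type} [Group G] [Finite G] {A B C D H K L M S T Y Z : Subgroup G}
  {a b c g k n x y z : G}

namespace PC
variable (q : PC A K Y T C Z k)
include q

theorem CY : C ≤ Y := q.CL.trans (der_le Y)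

theorem eight : 8 ≤ ♯C := by
  obtain ⟨e, -, h3, h4⟩ := q.deg
  exact h4 ▸ Nat.pow_le_pow_right (n := 2) (i := 3) two_pos h3

theorem dp (ha : Abel A) : DP C (A ⊓ 𝒞 Y) A :=
  ⟨le_antisymm (sup_le q.CA inf_le_left) q.sup, inf_le_left.trans (ha.trans (cent_anti q.CA)),
    eq_bot_of_le q.inf (inf_le_inf_left _ inf_le_right)⟩

/-- the Sylow `2`-subgroup centralizes `A` -/
theorem cent (ha : Elem 2 A) (hP : PP ↥(𝒩 A)) (hi : Irr A) : T ≤ 𝒞 A := by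
  by_contra hn
  have q8 := q.eight
  have h0 : A ≠ ⊥ := ne_bot_of_le (ne_bot_of_card (by omega)) q.CA
  have e : 𝒞 A ⊓ T = A ⊓ T := by
    refine le_antisymm (fun x hx => ⟨by_contra fun x1 => hn fun y hy => ?_, hx.2⟩)
      (inf_le_inf_right _ ha.abel)
    by_cases y1 : y ∈ A
    · exact ha.abel y1
    obtain ⟨m, h⟩ := q.trT x hx.2 y hy x1 y1
    have := mul_mem (inv_mem (ha.abel h)) (pow_conj_mem (norm_le_norm_cent A q.kA) hx.1 m)
    simpa [mul_assoc] using this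
  have h1 := (res_bound (R := T) hP (elem_iff.1 ha) le_rfl (fun D d1 d2 d3 => ?_) q.TA
    ((der_le_of_sq q.sq).trans ha.abel) fun x hx => ha.abel (pow_two x ▸ q.sq x hx)).1
  · rw [← inf_relIndex_right, e, inf_relIndex_right, q.ri] at h1
    have h2 := ri_dvd_of_le_left (inf_le_right.trans (cent_anti q.syl.le) : A ⊓ 𝒞 Y ≤ 𝒞 T) A
    rw [(q.dp ha.abel).sd.ri'] at h2
    have := h1.trans (Nat.le_of_dvd (by omega) h2)
    nlinarith
  · obtain ⟨P, hP⟩ := exists_isSyl 2 D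
    have h1 : A ⊓ 𝒞 D ≠ ⊥ := by
      refine ne_bot_of_le (inf_cent_ne_bot_of_pgroup Nat.prime_two hP.isPGroup ha.pgroup
        (hP.le.trans d1) h0) fun a h => mem_inf.2 ⟨h.1, mem_cent.2 fun d hd => ?_⟩
      obtain ⟨u, hu, v, hv, rfl⟩ := hP.exists_mul_of_forall (d1.trans (norm_le_norm_cent A)) d3 hd
      rw [mul_assoc, mem_cent.1 h.2 v hv, ← mul_assoc, ← mem_cent.1 hu a h.1, mul_assoc]
    exact cent_symm (((hi _ inf_le_left (le_norm_inf le_rfl (le_norm_cent d2))).resolve_left h1).ge.trans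
      inf_le_right)

theorem kc (ha : Abel A) (h : a ∈ A) (m : ℕ) : k ^ m * a * (k ^ m)⁻¹ * a⁻¹ ∈ C := by
  obtain ⟨c, hc, d, hd, rfl⟩ := (q.dp ha).sd.mem h
  have : k ^ m * (c * d) * (k ^ m)⁻¹ * (c * d)⁻¹ = k ^ m * c * (k ^ m)⁻¹ * c⁻¹ := by
    rw [mul_assoc (k ^ m), mul_assoc c, ← mem_cent.1 hd.2 _ (inv_mem (pow_mem q.kY m))]; group
  exact this ▸ mul_mem (pow_conj_mem q.kC hc m) (inv_mem hc)

theorem der_le_C (ha : Elem 2 A) (hT : T ≤ 𝒞 A) : ⁅T, T⁆ ≤ C := by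
  have CT : C ≤ T := (le_inf q.CA q.CY).trans q.AT
  obtain ⟨Q, _, _, f, hf, hk⟩ := exists_quo0 (show C ⊴ T from ⟨CT, le_norm_of_cent hT q.CA⟩)
  have m : ∀ x : T, f x = 1 ↔ (x : G) ∈ C := fun x => by rw [← hk, coe_mem_up, mem_bot]
  have key : ∀ x y : T, (x : G) ∉ A → (y : G) ∉ A → f x ^ 2 = f y ^ 2 := fun x y x1 y1 => by
    obtain ⟨j, h⟩ := q.trT y y.2 x x.2 y1 x1
    have h1 := q.kc ha.abel (q.sq y y.2) j
    rw [← conj_mul_self] at h1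
    generalize k ^ j * y * (k ^ j)⁻¹ = u at h h1
    obtain ⟨a, rfl⟩ : ∃ a, u = a * x := ⟨u * (x : G)⁻¹, by group⟩
    rw [mul_inv_cancel_right] at h
    have h3 : a * x * (a * x) = x * x := by
      rw [mul_assoc, ← mul_assoc (x : G), ← mem_cent.1 (hT x.2) a h, ← mul_assoc, ← mul_assoc,
        ← pow_two a, ha.pow h, one_mul]
    rw [← mul_inv_eq_one, ← map_pow, ← map_pow, ← map_inv, ← map_mul, m]
    simpa [pow_two, ← h3] using h1
  obtain ⟨x, hx, y, hy, w, hw, h1, h2, h3, h4, h5, h6, h7⟩ := q.seven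
  have x2 : x ^ 2 ∈ A := pow_two x ▸ q.sq x hx
  have sv := sq_seven (c := f ⟨x, hx⟩ ^ 2) (x := f ⟨x, hx⟩) (y := f ⟨y, hy⟩) (w := f ⟨w, hw⟩)
    (fun d => by
      obtain ⟨d, rfl⟩ := hf d
      rw [← map_pow, ← map_mul, ← map_mul]
      exact congrArg f (Subtype.ext (mem_cent.1 (hT d.2) _ x2)))
    (by
      rw [← map_pow, ← map_pow, ← map_one f]
      exact congrArg f (Subtype.ext (ha.pow x2))) rfl (key _ _ h2 h1) (key _ _ h3 h1) (map_mul f _ _ ▸ key _ _ h4 h1)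
    (map_mul f _ _ ▸ key _ _ h5 h1) (map_mul f _ _ ▸ key _ _ h6 h1)
  refine der_le_of_sq fun u hu => ?_
  by_cases e : u ∈ A
  · rw [← pow_two, ha.pow e]; exact one_mem _
  rw [← map_mul, ← map_mul, ← key ⟨u, hu⟩ _ e h7, ← map_pow, m] at sv
  simpa [pow_two] using sv

theorem inf_eq_bot (ha : Elem 2 A) (hT : T ≤ 𝒞 A) : ⁅Y, Y⁆ ⊓ Z = ⊥ := eq_bot_iff.2 fun z hz => by
  have h1 := mem_der_of_central q.syl.subgroupOf_top (z := ⟨z, q.ZY hz.2⟩)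
    (q.AT ⟨q.ZA hz.2, q.ZY hz.2⟩) (mem_center_iff.2 fun g => Subtype.ext
      (mem_cent.1 (q.ZC hz.2) g (q.nrm.le g.2))) (by
      have := hz.1
      rw [← map_subtype_commutator] at this
      exact (mem_map_iff_mem Y.subtype_injective).1 this)
  have h2 := mem_map_of_mem Y.subtype h1
  rw [map_commutator, map_subgroupOf_eq_of_le q.syl.le] at h2
  exact q.inf.le ⟨q.der_le_C ha hT h2, cent_anti q.nrm.le (q.ZC hz.2)⟩

end PC

/-- `L` is a component of `C(a)` not centralized by `A` -/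
structure Cp (A L : Subgroup G) (a : G) : Prop where
  aA : a ∈ A
  a1 : a ≠ 1
  le : L ≤ 𝒞₁ a
  nrm : ncl (𝒞₁ a) A ≤ 𝒩 L
  iso : Lie.IsoSuzuki L
  sup : A ≤ (A ⊓ L) ⊔ (A ⊓ 𝒞 L)
  syl : IsSyl 2 (L ⊓ 𝒞 A) L
  ctr : 𝒵 (L ⊓ 𝒞 A) = A ⊓ L

theorem PC.cp (q : PC A (ncl (𝒞₁ a) A) Y T C Z k) (ha : Elem 2 A) (hP : PP ↥(𝒩 A)) (hi : Irr A)
    (h1 : a ∈ A) (h2 : a ≠ 1) : Cp A ⁅Y, Y⁆ a := by
  have hT := q.cent ha hP hi
  have i := q.iso (q.inf_eq_bot ha hT)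
  have s := q.syl.inf (der_le Y) (q.syl.le.trans (der_nrm Y).norm)
  obtain ⟨κ, p⟩ := Kx.k0 G _ _ i s
  have q8 := q.eight
  obtain ⟨z, hz, z1⟩ := exists_ne_one (ne_bot_of_card (show ♯C ≠ 1 by omega))
  have e : ⁅Y, Y⁆ ⊓ 𝒞 A = T ⊓ ⁅Y, Y⁆ := le_antisymm
    ((inf_le_inf_left _ (cent_le_cent1 (q.CA hz))).trans (p.cz z (S2.mem_of_sq p.s2g
      ⟨q.AT ⟨q.CA hz, q.CY hz⟩, q.CL hz⟩ (by rw [← pow_two, ha.pow (q.CA hz)])) z1))
    (le_inf inf_le_right (inf_le_left.trans hT))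
  refine ⟨h1, h2, (der_le Y).trans (q.nrm.le.trans (ncl_le' (ha.abel.trans (cent_le_cent1 h1)))),
    q.nrm.der.norm, i, q.sup.trans (sup_le_sup (le_inf q.CA q.CL)
      (inf_le_inf_left _ (cent_anti (der_le Y)))), e ▸ s, le_antisymm (fun x hx => ?_)
    (le_inf (le_inf inf_le_right (inf_le_left.trans ha.abel))
      (inf_le_left.trans (cent_symm inf_le_right)))⟩
  rw [e] at hx
  exact ⟨q.inv x hx.1.1 (p.s2g.one x hx), hx.1.2⟩

end Cfsg.GS.Ux
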