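import Cfsg.Agent.GS.U3

/-! The uniqueness case for groups of order prime to `3`, 4: two components. -/

set_option autoImplicit false

namespace Cfsg.GS.Ux

open Subgroup Cfsg.L0 Cfsg.H8 Cfsg.FT Cfsg.BS Cfsg.BS.R Cfsg.GS.T3
open scoped commutatorElement

variable {G : Type} [Group G] [Finite G] {A B C C' D H K L L' M S T T' X Y Z : Subgroup G}
  {a a' b c g k k' n x y z : G}

/-- commutation with a fixed element -/
def cmH (h : S2G C T k) (hx : x ∈ T) : T →* G := MonoidHom.mk' (fun s => ⁅x, (s : G)⁆) fun s t => by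
  have := mem_cent.1 (S2.AcT h (S2.comm_mem h hx t.2)) s s.2
  calc ⁅x, ((s * t : T) : G)⁆ = ⁅x, (s : G)⁆ * (s * ⁅x, (t : G)⁆) * (s : G)⁻¹ := by
        simp only [commutatorElement_def, coe_mul]; group
    _ = _ := by rw [this]; group

omit [Finite G] in
theorem mem_cmH (h : S2G C T k) (hx : x ∈ T) : y ∈ (cmH h hx).range ↔ ∃ s ∈ T, ⁅x, s⁆ = y :=
  ⟨fun ⟨s, e⟩ => ⟨s, s.2, e⟩, fun ⟨s, hs, e⟩ => ⟨⟨s, hs⟩, e⟩⟩

theorem card_cmH (h : S2G C T k) (hx : x ∈ T) (h1 : x ∉ C) : 2 * ♯(cmH h hx).range = ♯C := by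
  have e1 : (cmH h hx).ker = (𝒞₁ x).subgroupOf T := by
    ext s
    rw [MonoidHom.mem_ker, mem_subgroupOf, mem_cent1, eq_comm]
    exact eq_comm.trans commutatorElement_eq_one_iff_mul_comm |>.trans eq_comm
  have e2 : C.relIndex (𝒞₁ x ⊓ T) = 2 := relIndex_eq_two_iff.2 ⟨x, ⟨self_mem_cent1 x, hx⟩,
    fun b hb => by
      by_cases e : b ∈ C
      · exact .inr ⟨e, fun e' => h1 ((mul_mem_cancel_left e).1 e')⟩
      · refine .inl ⟨?_, e⟩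
        have := mul_mem (inv_mem ((h.cen x hx h1 b hb.2 (mem_cent1.1 hb.1).symm).resolve_left e))
          (h.sq x hx)
        simpa [mul_assoc] using this⟩
  have e3 := card_mul_ri (le_inf (S2.AcT h |>.trans (cent_le_cent1 hx)) (S2.AT h))
  have e4 := card_inf_mul_ri (𝒞₁ x) T
  rw [← index_ker, e1]
  rw [← e3, e2, h.card, pow_two, mul_assoc] at e4
  exact Nat.eq_of_mul_eq_mul_left (card_pos' C) e4

theorem card_le_of_not_cent (h : S2G C T k) (h' : S2G C' T' k')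
    (φ : ∀ t ∈ T, ∃ l ∈ T', ∀ s ∈ T', ⁅t, s⁆ = ⁅l, s⁆)
    (ψ : ∀ s ∈ T', ∃ m ∈ T, ∀ t ∈ T, ⁅s, t⁆ = ⁅m, t⁆) (hx : x ∈ T) (hn : x ∉ 𝒞 T') :
    x ∉ C ∧ ∃ J, J ≤ (cmH h hx).range ∧ J ≤ C' ∧ 2 * ♯J = ♯C' := by
  obtain ⟨l, hl, e⟩ := φ x hx
  refine ⟨fun h1 => hn (mem_cent.2 fun s hs => ?_), (cmH h' hl).range, fun y hy => ?_, fun y hy => ?_,
    card_cmH h' hl fun h1 => hn (mem_cent.2 fun s hs => ?_)⟩
  · obtain ⟨m, hm, e'⟩ := ψ s hs
    rw [← commutatorElement_eq_one_iff_mul_comm, e' x hx, commutatorElement_eq_one_iff_mul_comm]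
    exact mem_cent.1 (S2.AcT h h1) m hm
  · obtain ⟨s, hs, rfl⟩ := (mem_cmH h' hl).1 hy
    obtain ⟨m, hm, e'⟩ := ψ s hs
    exact (mem_cmH h hx).2 ⟨m, hm, by
      rw [← e s hs, ← commutatorElement_inv, ← e' x hx, commutatorElement_inv]⟩
  · obtain ⟨s, hs, rfl⟩ := (mem_cmH h' hl).1 hy
    exact S2.comm_mem h' hl hs
  · rw [eq_comm, ← commutatorElement_eq_one_iff_mul_comm, e s hs, commutatorElement_eq_one_iff_mul_comm]
    exact (mem_cent.1 (S2.AcT h' h1) s hs).symm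

theorem eq_of_not_cent (h : S2G C T k) (h' : S2G C' T' k') (h8 : 8 ≤ ♯C)
    (φ : ∀ t ∈ T, ∃ l ∈ T', ∀ s ∈ T', ⁅t, s⁆ = ⁅l, s⁆)
    (ψ : ∀ s ∈ T', ∃ m ∈ T, ∀ t ∈ T, ⁅s, t⁆ = ⁅m, t⁆) (hn : ¬ T ≤ 𝒞 T') : C = C' := by
  obtain ⟨x, hx, x1⟩ := SetLike.not_le_iff_exists.1 hn
  obtain ⟨y, hy, y1⟩ := SetLike.not_le_iff_exists.1 fun e => hn (cent_symm e)
  have c1 : ♯C ≤ ♯C' := by
    obtain ⟨h1, J, h2, -, h3⟩ := card_le_of_not_cent h' h ψ φ hy y1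
    have := card_cmH h' hy h1
    have := card_le h2
    omega
  have key : ∀ t (ht : t ∈ T), t ∉ 𝒞 T' → ¬ C ≤ C' → t ∉ C ∧ (cmH h ht).range = C ⊓ C' :=
    fun t ht t1 hc => by
      obtain ⟨h1, J, h2, h3, h4⟩ := card_le_of_not_cent h h' φ ψ ht t1
      have h5 := card_cmH h ht h1
      have h6 := eq_of_card_le h2 (by omega)
      refine ⟨h1, eq_of_card_le (le_inf (fun y hy => ?_) (h6 ▸ h3)) ?_⟩
      · obtain ⟨s, hs, rfl⟩ := (mem_cmH h ht).1 hy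
        exact S2.comm_mem h ht hs
      · have h7 := card_inf_mul_ri C' C
        have h8 : C'.relIndex C ≠ 1 := fun e => hc (relIndex_eq_one.1 e)
        have h9 := relIndex_pos C' C
        rw [inf_comm]
        nlinarith [show 2 ≤ C'.relIndex C by omega]
  have c2 : C ≤ C' := by
    by_contra hc
    obtain ⟨x2, x3⟩ := key x hx x1 hc
    have two : ∀ t ∈ T, t ∉ 𝒞 T' → x * t⁻¹ ∈ C := fun t ht t1 =>
      (h.hyp x hx t ht fun s hs => by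
        obtain ⟨u, hu, e⟩ := (mem_cmH h ht).1 ((key t ht t1 hc).2.ge
          (x3.le ((mem_cmH h hx).2 ⟨s, hs, rfl⟩)))
        exact ⟨u, hu, e.symm⟩).resolve_left x2
    have hy : SFx.Hy T C := ⟨S2.AT h, fun u hu v hv u1 v1 => ?_⟩
    · have := hy.card
      rw [h.card] at this
      nlinarith
    have all : ∀ u ∈ T, u ∉ C → x * u⁻¹ ∈ C := fun u hu u1 => two u hu fun e => u1 (by
      have := two (u⁻¹ * x) (mul_mem (inv_mem hu) hx) fun e' => x1 ((mul_mem_cancel_left (inv_mem e)).1 e')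
      simpa using this)
    have := mul_mem (inv_mem (all u hu u1)) (all v⁻¹ (inv_mem hv) (by simpa using v1))
    simpa [mul_assoc] using this
  obtain ⟨h1, J, h2, -, h3⟩ := card_le_of_not_cent h h' φ ψ hx x1
  have := card_cmH h hx h1
  have := card_le h2
  exact eq_of_card_le c2 (by omega)

omit [Finite G] in
theorem _root_.Cfsg.GS.Smp.le_of_ne (h : Smp L) (h1 : L ≤ 𝒩 K) (h2 : L ⊓ K ≠ ⊥) : L ≤ K :=
  inf_eq_left.1 ((h.simple _ ((Nrm.refl L).inf_norm h1)).resolve_left h2)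

omit [Finite G] in
theorem _root_.Cfsg.GS.Smp.eq_or (h : Smp L) (h' : Smp M) (h1 : L ≤ 𝒩 M) (h2 : M ≤ 𝒩 L) :
    L = M ∨ L ≤ 𝒞 M := by
  by_cases e : L ⊓ M = ⊥
  · exact .inr (le_cent_of_inf_eq_bot h1 h2 e)
  · exact .inl (le_antisymm (h.le_of_ne h1 e) (h'.le_of_ne h2 (inf_comm L M ▸ e)))

namespace Cp
variable (q : Cp A L a)
include q

theorem smp : Smp L := Kx.smp_of_iso q.iso

theorem szp : ∃ k, SzP L (L ⊓ 𝒞 A) k := Kx.k0 G _ _ q.iso q.syl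

theorem eight : 8 ≤ ♯(A ⊓ L) := by
  obtain ⟨k, p⟩ := q.szp
  exact q.ctr ▸ Ux.eight p

theorem ne : A ⊓ L ≠ ⊥ := ne_bot_of_card (by have := q.eight; omega)

omit [Finite G] in
theorem An : A ≤ 𝒩 L := (le_ncl _ A).trans q.nrm

omit [Finite G] in
theorem aC : a ∈ 𝒞 L := le_cent1_iff.1 q.le

theorem le_ncl' (h : L ≤ H) : L ≤ ncl H A := q.smp.le_of_ne (h.trans (le_normalizer_ncl H A))
  (ne_bot_of_le q.ne (le_inf inf_le_right (inf_le_left.trans (le_ncl H A))))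

omit [Finite G] in
theorem split (hb : b ∈ A) : ∃ z ∈ A ⊓ L, ∃ c ∈ A ⊓ 𝒞 L, z * c = b :=
  (mem_sup_l (le_norm_of_cent inf_le_right inf_le_right)).1 (q.sup hb)

omit [Finite G] in
theorem conj (hn : n ∈ 𝒩 A) : Cp A (cj n L) (n * a * n⁻¹) := by
  have e := cj_eq_iff.2 hn
  refine ⟨conj_mem_of_norm hn q.aA, conj_ne_one q.a1 n, cj_cent1 n a ▸ cj_mono n q.le,
    ncl_le_iff.2 fun g hg => ?_, iso_congr (cjEquiv n L).symm q.iso, ?_, ?_, ?_⟩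
  · rw [← cj_cent1, mem_cj] at hg
    have := cj_mono n ((cj_le_ncl A hg).trans q.nrm)
    rwa [cj_mul, cj_mul, e, cj_cj_inv, cj_norm] at this
  · have := cj_mono n q.sup
    rwa [cj_sup, cj_inf, cj_inf, cj_cent, e] at this
  · have := q.syl.cj n
    rwa [cj_inf, cj_cent, e] at this
  · have := congrArg (cj n) q.ctr
    rwa [cj_inf, cj_cent, cj_inf, cj_inf, cj_cent, e] at this

theorem cent_le : 𝒞 A ≤ 𝒩 L := fun c hc => by
  have p := q.conj (cent_le_norm A hc)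
  rw [← mem_cent.1 hc a q.aA, mul_inv_cancel_right] at p
  refine inv_mem_iff.1 (mem_norm_of_cj_le (le_cj_iff.1 (q.smp.le_of_ne ((q.le_ncl' q.le).trans p.nrm)
    (ne_bot_of_le q.ne fun x hx => ⟨hx.2, ?_⟩))))
  have := conj_mem_cj (g := c) hx.2
  rwa [← mem_cent.1 hc x hx.1, mul_inv_cancel_right] at this

theorem mem_T (hx : x ∈ L) (hz : z ∈ A ⊓ L) (z1 : z ≠ 1) (h : x * z = z * x) : x ∈ L ⊓ 𝒞 A := by
  obtain ⟨k, p⟩ := q.szp
  exact p.cz z (q.ctr.ge hz) z1 ⟨hx, mem_cent1.2 h⟩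

theorem proj (hx : x ∈ 𝒞 A) (h2 : ∃ n, x ^ 2 ^ n = 1) :
    ∃ l ∈ L ⊓ 𝒞 A, ∃ c ∈ 𝒞 L, l * c = x := by
  obtain ⟨k, p⟩ := q.szp
  obtain ⟨l, hl, c, hc, rfl⟩ := (mem_sup_l (cent_le_norm L)).1 (p.aut2 x (q.cent_le hx) h2)
  obtain ⟨z, hz, z1⟩ := exists_ne_one q.ne
  refine ⟨l, q.mem_T hl hz z1 ?_, c, hc, rfl⟩
  have := mem_cent.1 hx z hz.1
  rwa [mul_assoc l, ← mem_cent.1 hc z hz.2, ← mul_assoc, ← mul_assoc, mul_left_inj, eq_comm] at this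

theorem phi (q' : Cp A L' a') (hx : x ∈ L ⊓ 𝒞 A) :
    ∃ l ∈ L' ⊓ 𝒞 A, ∀ s ∈ L' ⊓ 𝒞 A, ⁅x, s⁆ = ⁅l, s⁆ := by
  obtain ⟨l, hl, c, hc, rfl⟩ := q'.proj hx.2 (isPGroup_iff_forall.1 q.syl.isPGroup x hx)
  refine ⟨l, hl, fun s hs => ?_⟩
  rw [commutatorElement_def, commutatorElement_def, mul_assoc l, ← mem_cent.1 hc s hs.1]; group

/-- the dichotomy -/
theorem dich (q' : Cp A L' a') : A ⊓ L = A ⊓ L' ∨ A ⊓ L ≤ 𝒞 L' := by
  obtain ⟨k, p⟩ := q.szp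
  obtain ⟨k', p'⟩ := q'.szp
  have s := p.s2g
  have s' := p'.s2g
  rw [q.ctr] at s
  rw [q'.ctr] at s'
  by_cases hn : L ⊓ 𝒞 A ≤ 𝒞 (L' ⊓ 𝒞 A)
  swap
  · exact .inl (eq_of_not_cent s s' q.eight (fun _ => q.phi q') (fun _ => q'.phi q) hn)
  refine .inr fun z hz => ?_
  obtain ⟨t, ht, rfl⟩ := S2.exists_sq s (by have := q.eight; omega) hz
  obtain ⟨l, hl, c, hc, rfl⟩ := q'.proj ht.2 (isPGroup_iff_forall.1 q.syl.isPGroup t ht)
  have h1 : l ∈ A ⊓ L' := q'.ctr.le ⟨hl, (mul_mem_cancel_right (cent_anti inf_le_left hc)).1 (hn ht)⟩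
  rw [mul_assoc, ← mul_assoc c, ← mem_cent.1 hc l hl.1, ← mul_assoc, ← mul_assoc, s'.one l h1, one_mul]
  exact mul_mem hc hc

/-- `L` is a component of `C(b)` if `b` centralizes it -/
theorem comp (hb : b ∈ 𝒞 L)
    (hg : ∀ D, A ≤ D → (∀ M, Cp A M b → M ≤ D) → ncl (𝒞₁ b) A ≤ D) : ncl (𝒞₁ b) A ≤ 𝒩 L := by
  have l := q.le_ncl' (le_cent1_iff.2 hb)
  refine hg _ q.An fun M p => ?_
  by_cases e : a ∈ 𝒞 M
  · exact (p.le_ncl' (le_cent1_iff.2 e)).trans q.nrm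
  have h1 := hg (M ⊔ 𝒞 M) (p.sup.trans (sup_le_sup inf_le_right inf_le_right)) fun M' p' =>
    (p'.smp.eq_or p.smp ((p'.le_ncl' p'.le).trans p.nrm) ((p.le_ncl' p.le).trans p'.nrm)).elim
      (fun e => e ▸ le_sup_left) (·.trans le_sup_right)
  obtain ⟨k, r⟩ := q.szp
  obtain ⟨k', r'⟩ := p.szp
  obtain ⟨z, hz, c, hc, e1⟩ := p.split q.aA
  obtain ⟨m, hm, d, hd, e2⟩ := (mem_sup_l (cent_le_norm M)).1 (h1 (l r.kL))
  have h2 : m * z = z * m := by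
    have h3 := mem_cent1.1 (q.le r.kL)
    rw [← e1, ← e2] at h3
    have h5 : m * z * (d * c) = z * m * (c * d) :=
      calc m * z * (d * c) = m * (z * d) * c := by group
        _ = m * d * (z * c) := by rw [mem_cent.1 hd z hz.2]; group
        _ = z * (c * m) * d := by rw [h3]; group
        _ = _ := by rw [← mem_cent.1 hc.2 m hm]; group
    refine (inv_mul_eq_one.1 (p.smp.eq_one (mul_mem (inv_mem (mul_mem hz.2 hm)) (mul_mem hm hz.2)) ?_)).symm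
    rw [eq_mul_inv_of_mul_eq h5, mul_assoc, inv_mul_cancel_left]
    exact mul_mem (mul_mem hc.2 hd) (inv_mem (mul_mem hd hc.2))
  have h3 := p.mem_T hm hz (fun e' => e (by rw [← e1, e', one_mul]; exact hc.2)) h2
  have h4 : k ^ 4 ∈ 𝒞 M := by
    rw [← e2, (show Commute m d from mem_cent.1 hd m hm).mul_pow, r'.rb.four m h3, one_mul]
    exact pow_mem hd 4
  refine le_norm_of_le_cent (cent_symm (q.smp.le_of_ne (le_norm_cent (l.trans p.nrm))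
    (ne_bot_of_mem ⟨pow_mem r.kL 4, h4⟩ fun e' => ?_)))
  have := orderOf_le_of_pow_eq_one (by norm_num) e'
  have := r.ord
  have := Ux.eight r
  omega

end Cp

end Cfsg.GS.Ux
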